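import Cfsg.Agent.Lib.HNRecog.Local.Main

/-!
An element interchanging the involution and `a`, normalising the Sylow 2-subgroup of the centraliser.
-/

set_option autoImplicit false
set_option maxRecDepth 100000
set_option maxHeartbeats 0

namespace Cfsg.Agent.HNRecog

open Cfsg.Agent.HN Cfsg.Agent.HNMult

noncomputable section

universe u

theorem centre_list : allLo (fun i => memL [0, iT, iA, iAT] i ||
    !(allLo (fun g => commI i (Dat.gens.getD g 0)) Dat.gens.length)) 2048 = true := by decide +kernel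

namespace Twisted

variable {G : Type u} [Group G] [Finite G] {t : G} (D : Twisted t)

/-- An element interchanging `t` and `a`, normalising the Sylow 2-subgroup. -/
theorem exists_swap [IsSimpleGroup G] (ht : orderOf t = 2) :
    ∃ q : G, q * t * q⁻¹ = D.ψ elA ∧ q * D.ψ elA * q⁻¹ = t ∧ ∀ x ∈ D.SG, q * x * q⁻¹ ∈ D.SG := by
  obtain ⟨q, hq1, hq2⟩ := D.exists_mover D.central_AAT.1 (D.conj_A ht)
  refine ⟨q, ?_, hq1, hq2⟩
  have htw := D.twist_false ht
  obtain ⟨hTl, hAl, hATl, -⟩ := special_spec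
  have htS : t ∈ D.SG := D.mem_SG.2 ⟨iT, hTl, by rw [eS_iT, D.map_sq]⟩
  obtain ⟨i, hi, ei⟩ := D.mem_SG.1 (hq2 t htS)
  have hq2' : ∀ x ∈ D.SG, ∃ y ∈ D.SG, q * y * q⁻¹ = x := by
    intro x hx'
    let f : D.SG → D.SG := fun y => ⟨q * y * q⁻¹, hq2 y y.2⟩
    have hf : Function.Injective f := fun a b h =>
      Subtype.ext (mul_left_cancel (mul_right_cancel (congrArg Subtype.val h)))
    obtain ⟨y, hy⟩ := (Finite.injective_iff_surjective.1 hf) ⟨x, hx'⟩
    exact ⟨y, y.2, congrArg Subtype.val hy⟩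
  have hcomm : allLo (fun g => commI i (Dat.gens.getD g 0)) Dat.gens.length = true := by
    have key : ∀ g < Dat.gens.length, commI i (Dat.gens.getD g 0) = true := by
      intro g hg
      obtain ⟨y, hy, ey⟩ := hq2' _ (D.entry_mem (gen_lt hg))
      have hyt := Subgroup.mem_centralizer_singleton_iff.1 (D.SG_le hy)
      rw [commI_iff hi (gen_lt hg)]
      refine D.inj ?_
      rw [← D.mul_untwisted htw, ← D.mul_untwisted htw, ei, ← ey]
      calc q * t * q⁻¹ * (q * y * q⁻¹) = q * (t * y) * q⁻¹ := by group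
        _ = q * (y * t) * q⁻¹ := by rw [hyt]
        _ = _ := by group
    have aux : ∀ n, (∀ g < n, commI i (Dat.gens.getD g 0) = true) →
        allLo (fun g => commI i (Dat.gens.getD g 0)) n = true := by
      intro n
      induction n with
      | zero => exact fun _ => rfl
      | succ n ih =>
        intro h
        show Bool.rec false _ (commI i (Dat.gens.getD n 0)) = true
        rw [h n n.lt_succ_self]
        exact ih fun g hg => h g (Nat.lt_succ_of_lt hg)
    exact aux _ key
  have h := allLo_spec centre_list hi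
  rw [hcomm, Bool.not_true, Bool.or_false, memL_iff] at h
  simp only [List.mem_cons, List.not_mem_nil, or_false] at h
  have ht1 : t ≠ 1 := fun e => by rw [e, orderOf_one] at ht; omega
  rcases h with rfl | rfl | rfl | rfl
  · rw [eS_zero, D.psi_one, eq_comm, conj_eq_one_iff] at ei
    exact absurd ei ht1
  · rw [eS_iT, D.map_sq] at ei
    have e := mul_left_cancel (mul_right_cancel (hq1.trans ei))
    exfalso
    have h1 : IsConj t (D.ψ elAT) → False := D.not_conj_AT
    have h2 : eS iA = hx ^ 2 := D.inj (by rw [D.map_sq]; exact e)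
    have h3 : iA = iT := eS_injective hAl hTl (h2.trans eS_iT.symm)
    exact absurd h3 (by decide +kernel)
  · exact ei.symm
  · exact absurd (isConj_iff.2 ⟨q, ei.symm⟩) D.not_conj_AT

end Twisted

/-- **The local data with an interchanging element.** -/
theorem exists_local_swap {G : Type u} [Group G] [Finite G] [IsSimpleGroup G] (t : G) (ht : orderOf t = 2)
    (M : Subgroup (Subgroup.centralizer ({t} : Set G))) [M.Normal] (hM : M.index = 2)
    (hout : Subgroup.centralizer (M : Set (Subgroup.centralizer ({t} : Set G))) ≤ M)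
    (hcov : Cfsg.IsNonsplitDoubleCover M Cfsg.Spor.HS) :
    ∃ (ψ : H0 →* G) (q : G), Function.Injective ψ ∧ ψ.range = Subgroup.centralizer ({t} : Set G) ∧
      ψ (hx ^ 2) = t ∧ q * t * q⁻¹ = ψ elA ∧ q * ψ elA * q⁻¹ = t ∧ q * ψ elAT * q⁻¹ = ψ elAT ∧
      (∀ s ∈ Syl, ∃ s' ∈ Syl, q * ψ s * q⁻¹ = ψ s') ∧ ¬IsConj t (ψ elAT) ∧
      ∀ x : G, orderOf x = 2 → x * t = t * x → IsConj x t ∨ IsConj x (ψ elAT) := by
  obtain ⟨D⟩ := exists_twisted t ht M hM hout hcov
  obtain ⟨q, h1, h2, h3⟩ := D.exists_swap ht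
  have htw := D.twist_false ht
  refine ⟨D.hom htw, q, D.inj, ?_, D.map_sq, h1, h2, ?_, fun s hs => ?_, D.not_conj_AT,
    fun x a b => D.two_classes ht a b⟩
  · ext g
    exact ((D.range g).trans Iff.rfl).symm
  · show q * D.ψ elAT * q⁻¹ = D.ψ elAT
    rw [← elA_mul, D.psi_mul_T]
    calc q * (D.ψ elA * t) * q⁻¹ = q * D.ψ elA * q⁻¹ * (q * t * q⁻¹) := by group
      _ = D.ψ elA * t := by rw [h2, h1]; exact (Subgroup.mem_centralizer_singleton_iff.1 (D.psi_mem _)).symm
  · obtain ⟨i, hi, e⟩ := D.mem_SG.1 (h3 _ (Set.mem_image_of_mem D.ψ hs))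
    exact ⟨eS i, eS_mem i hi, e.symm⟩

end

end Cfsg.Agent.HNRecog
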