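import Cfsg.Agent.Lib.HNRecog.Local.TableDefs

/-! The centralisers of the outer classes. -/

set_option autoImplicit false
set_option maxRecDepth 100000
set_option maxHeartbeats 0

namespace Cfsg.Agent.HNRecog

open Cfsg.Agent.HN

theorem special_ok : okSpecial = true := by decide +kernel

theorem cent_head : (okCenHead Dat.cent0 && okCenHead Dat.cent1 && okDec Dat.cent0 Dat.dec0 && okDec Dat.cent1 Dat.dec1) = true := by
  decide +kernel

theorem cent0_ok : allLo (okCen Dat.cent0 Dat.ncA) 2048 = true := by decide +kernel

theorem cent1_ok : allLo (okCen Dat.cent1 Dat.ncB) 2048 = true := by decide +kernel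

theorem roots_ok : (Nat.beq (rootCount false iT iA) (rootCount false iAT iT) = false) ∧
    (Nat.beq (rootCount true iT 0) (rootCount true iA iAT) = false) ∧
    (Nat.beq (rootCount true iT 0) (rootCount true iAT iA) = false) := by decide +kernel

theorem twist_ok : allLo (fun i => !parI i || !Nat.beq (sqI i) iT) 2048 = true := by decide +kernel

end Cfsg.Agent.HNRecog
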