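import Cfsg.Agent.Lib.HNRecog.Local.TableDefs

/-! The table is closed under the generators. -/

set_option autoImplicit false
set_option maxRecDepth 100000
set_option maxHeartbeats 0

namespace Cfsg.Agent.HNRecog

open Cfsg.Agent.HN

theorem close_ok : allLo okClose 2048 = true := by decide +kernel

end Cfsg.Agent.HNRecog
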