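import Cfsg.Agent.Lib.HNRecog.Local.CheckWord
import Cfsg.Agent.Lib.HNRecog.Local.CheckClose
import Cfsg.Agent.Lib.HNRecog.Local.CheckWit
import Cfsg.Agent.Lib.HNRecog.Local.CheckCent
import Cfsg.Agent.Lib.HNMult.Derived

/-!
What the checked table says: a Sylow 2-subgroup of the group of `x, y, z` listed by 2048 entries, with classes of
involutions, small centralisers of outer involutions and numbers of square roots.
-/

set_option autoImplicit false
set_option maxRecDepth 100000

namespace Cfsg.Agent.HNRecog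

open Cfsg.Agent.HN Cfsg.Agent.HNMult

noncomputable section

theorem fld_pack6 {f : ℕ → ℕ} (h : ∀ i < 6, f i < 2 ^ 20) {i : ℕ} (hi : i < 6) : fld (pack6 f) i = f i := by
  have hm : (1048575 : ℕ) = 2 ^ 20 - 1 := by norm_num
  have h0 := h 0 (by norm_num); have h1 := h 1 (by norm_num); have h2 := h 2 (by norm_num)
  have h3 := h 3 (by norm_num); have h4 := h 4 (by norm_num); have h5 := h 5 (by norm_num)
  simp only [fld, pack6]
  show (_ >>> (20 * i)) &&& 1048575 = _
  rw [hm, Nat.and_two_pow_sub_one_eq_mod, Nat.shiftRight_eq_div_pow]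
  interval_cases i <;> norm_num at * <;> omega

theorem actW_lt {w : List ℕ} (hw : letOK 5 w = true) {q : ℕ} (hq : q < 1408) : big.actW w q < 1408 := by
  rw [← wv_sig_inv_apply big_ok w (letOK_spec hw) ⟨q, hq⟩]
  exact Fin.isLt _

theorem actW_cat : ∀ (v w : List ℕ) (q : ℕ), big.actW (v ++ w) q = big.actW w (big.actW v q)
  | [], _, _ => rfl
  | l :: v, w, q => actW_cat v w (ap (big.perm l) q)

theorem base6_lt {i : ℕ} (hi : i < 6) : base6.getD i 0 < 1408 := by
  interval_cases i <;> decide +kernel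

theorem small_images {w : List ℕ} (hw : letOK 5 w = true) :
    ∀ i < 6, big.actW w (base6.getD i 0) < 2 ^ 20 := fun _ hi =>
  (actW_lt hw (base6_lt hi)).trans_le (by norm_num)

theorem actK_keyW {v : List ℕ} (hv : letOK 5 v = true) (w : List ℕ) : actK w (keyW v) = keyW (v ++ w) := by
  simp only [actK, keyW, actW_cat]
  simp only [pack6]
  have key : ∀ i < 6, fld (pack6 fun i => big.actW v (base6.getD i 0)) i = big.actW v (base6.getD i 0) :=
    fun i hi => fld_pack6 (small_images hv) hi
  simp only [pack6] at key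
  rw [key 0 (by norm_num), key 1 (by norm_num), key 2 (by norm_num), key 3 (by norm_num), key 4 (by norm_num),
    key 5 (by norm_num)]

/-- Two words give the same element exactly when their codes agree. -/
theorem keyW_eq_iff {u v : List ℕ} (hu : letOK 5 u = true) (hv : letOK 5 v = true) :
    keyW u = keyW v ↔ el u = el v := by
  have hb : base6 = (List.range 6).map fun i => base6.getD i 0 := by decide +kernel
  constructor
  · intro h
    refine el_eq ?_
    simp only [eqH, PModel.eqOn, Bool.and_eq_true, List.all_eq_true, Nat.blt_eq, Nat.beq_eq]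
    refine ⟨⟨hu, hv⟩, fun q hq => ?_⟩
    rw [hb] at hq
    obtain ⟨i, hi, rfl⟩ := List.mem_map.1 hq
    rw [List.mem_range] at hi
    refine ⟨base6_lt hi, ?_⟩
    rw [← fld_pack6 (small_images hu) hi, ← fld_pack6 (small_images hv) hi]
    exact congrArg (fun k => fld k i) h
  · intro h
    have e : ∀ i < 6, big.actW u (base6.getD i 0) = big.actW v (base6.getD i 0) := fun i hi => by
      rw [← wv_sig_inv_apply big_ok u (letOK_spec hu) ⟨_, base6_lt hi⟩,
        ← wv_sig_inv_apply big_ok v (letOK_spec hv) ⟨_, base6_lt hi⟩, ← rep_wv, ← rep_wv]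
      exact congrArg (fun g => (((rep g)⁻¹ ⟨_, base6_lt hi⟩ : Fin big.n) : ℕ)) h
    simp only [keyW, pack6]
    rw [e 0 (by norm_num), e 1 (by norm_num), e 2 (by norm_num), e 3 (by norm_num), e 4 (by norm_num),
      e 5 (by norm_num)]

theorem letOK_cat {u v : List ℕ} (hu : letOK 5 u = true) (hv : letOK 5 v = true) : letOK 5 (u ++ v) = true := by
  simp only [letOK, List.all_eq_true] at *
  intro l hl
  exact (List.mem_append.1 hl).elim (hu l) (hv l)

theorem letOK_winv {w : List ℕ} (hw : letOK 5 w = true) : letOK 5 (winv iv5 w) = true := by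
  simp only [letOK, winv, List.all_eq_true, List.mem_reverse, List.mem_map, Nat.blt_eq] at *
  rintro l ⟨m, hm, rfl⟩
  have := hw m hm
  interval_cases m <;> decide

/-- The element of an entry. -/
def eS (i : ℕ) : H0 := el (wd i)

theorem word_spec {i : ℕ} (hi : i < 2048) : letOK 5 (wd i) = true ∧ keyW (wd i) = kd i := by
  have h := allLo_spec word_ok hi
  simp only [okWord, Bool.and_eq_true, Nat.beq_eq] at h
  exact ⟨h.1.1, h.1.2⟩

theorem eS_zero : eS 0 = 1 := by
  have h := allLo_spec word_ok (i := 0) (by norm_num)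
  simp only [okWord, Bool.and_eq_true] at h
  rw [eS, eq_of_eqW (u := wd 0) (v := []) (by simpa using h.2)]
  rfl

theorem kd_eq_iff {i j : ℕ} (hi : i < 2048) (hj : j < 2048) : kd i = kd j ↔ eS i = eS j := by
  rw [← (word_spec hi).2, ← (word_spec hj).2]
  exact keyW_eq_iff (word_spec hi).1 (word_spec hj).1

theorem act_eq_iff {i k : ℕ} (hi : i < 2048) (hk : k < 2048) {w : List ℕ} (hw : letOK 5 w = true) :
    actK w (kd i) = kd k ↔ eS i * el w = eS k := by
  rw [← (word_spec hi).2, ← (word_spec hk).2, actK_keyW (word_spec hi).1,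
    keyW_eq_iff (letOK_cat (word_spec hi).1 hw) (word_spec hk).1, el_append]
  rfl

theorem mul_eq_iff {i j k : ℕ} (hi : i < 2048) (hj : j < 2048) (hk : k < 2048) :
    actK (wd j) (kd i) = kd k ↔ eS i * eS j = eS k := act_eq_iff hi hk (word_spec hj).1

theorem commI_iff {i j : ℕ} (hi : i < 2048) (hj : j < 2048) : commI i j = true ↔ eS i * eS j = eS j * eS i := by
  simp only [commI, Nat.beq_eq]
  rw [← (word_spec hi).2, ← (word_spec hj).2, actK_keyW (word_spec hi).1, actK_keyW (word_spec hj).1,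
    keyW_eq_iff (letOK_cat (word_spec hi).1 (word_spec hj).1) (letOK_cat (word_spec hj).1 (word_spec hi).1),
    el_append, el_append]
  rfl

theorem eS_injective {i j : ℕ} (hi : i < 2048) (hj : j < 2048) (h : eS i = eS j) : i = j := by
  let π : Fin 2048 → Fin 2048 := fun k => ⟨Dat.sortT.get k, by
    have := allLo_spec sort_ok k.2
    simp only [okSort, Bool.and_eq_true, Nat.blt_eq] at this
    exact this.1⟩
  have hmono : StrictMono fun k : Fin 2048 => kd (π k) := by
    rw [Fin.strictMono_iff_lt_succ (n := 2047)]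
    intro k
    have := allLo_spec sort_ok (i := k.1) (by omega)
    simp only [okSort, Bool.and_eq_true, Nat.blt_eq, Bool.or_eq_true, Nat.beq_eq] at this
    exact this.2.resolve_left (by omega)
  have hπ : Function.Bijective π := Finite.injective_iff_bijective.1 fun a b e =>
    hmono.injective (show kd (π a) = kd (π b) by rw [e])
  obtain ⟨a, ha⟩ := hπ.2 ⟨i, hi⟩
  obtain ⟨b, hb⟩ := hπ.2 ⟨j, hj⟩
  have e : kd (π a) = kd (π b) := by rw [ha, hb]; exact (kd_eq_iff hi hj).2 h
  have := hmono.injective e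
  subst this
  exact congrArg Fin.val (ha.symm.trans hb)

/-- The Sylow 2-subgroup. -/
def Syl : Subgroup H0 := Subgroup.closure {a | ∃ g < Dat.gens.length, eS (Dat.gens.getD g 0) = a}

theorem gens_lt : allLo (fun g => Nat.blt (Dat.gens.getD g 0) 2048) Dat.gens.length = true := by decide +kernel

theorem gen_lt {g : ℕ} (hg : g < Dat.gens.length) : Dat.gens.getD g 0 < 2048 :=
  Nat.blt_eq ▸ allLo_spec gens_lt hg

theorem close_spec {i g : ℕ} (hi : i < 2048) (hg : g < Dat.gens.length) :
    fld (Dat.tblT.get i) g < 2048 ∧ eS i * eS (Dat.gens.getD g 0) = eS (fld (Dat.tblT.get i) g) := by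
  have h := allLo_spec close_ok hi
  simp only [okClose, Bool.and_eq_true] at h
  have h1 := allLo_spec h.1 hg
  simp only [Bool.and_eq_true, Nat.blt_eq, Nat.beq_eq] at h1
  exact ⟨h1.1, (mul_eq_iff hi (gen_lt hg) h1.1).1 h1.2⟩

theorem eS_mem : ∀ i < 2048, eS i ∈ Syl := by
  intro i
  induction i using Nat.strongRecOn with
  | _ i ih =>
    intro hi
    rcases Nat.eq_zero_or_pos i with rfl | hpos
    · rw [eS_zero]; exact one_mem _
    have h := allLo_spec close_ok hi
    simp only [okClose, Bool.and_eq_true, Bool.or_eq_true, Nat.beq_eq, Nat.blt_eq] at h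
    obtain ⟨⟨hp, hg⟩, he⟩ := h.2.resolve_left (by omega)
    have hs := (close_spec (hp.trans hi) hg).2
    rw [he] at hs
    rw [← hs]
    exact mul_mem (ih _ hp (hp.trans hi)) (Subgroup.subset_closure ⟨_, hg, rfl⟩)

theorem finite_H0 : Finite H0 := Nat.finite_of_card_ne_zero (by rw [card_H0]; norm_num)

theorem mem_Syl {a : H0} : a ∈ Syl ↔ ∃ i < 2048, eS i = a := by
  haveI := finite_H0
  refine ⟨fun ha => ?_, fun ⟨i, hi, e⟩ => e ▸ eS_mem i hi⟩
  rw [Syl, ← Subgroup.mem_toSubmonoid, Subgroup.closure_toSubmonoid_of_finite] at ha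
  induction ha using Submonoid.closure_induction_right with
  | one => exact ⟨0, by norm_num, eS_zero⟩
  | mul_right x _ y hy hx =>
    obtain ⟨g, hg, rfl⟩ := hy
    obtain ⟨i, hi, rfl⟩ := hx
    exact ⟨_, (close_spec hi hg).1, (close_spec hi hg).2.symm⟩

/-- The entries are the elements of the subgroup. -/
def entryEquiv : Fin 2048 ≃ Syl :=
  Equiv.ofBijective (fun i => ⟨eS i, eS_mem i i.2⟩)
    ⟨fun i j h => Fin.ext (eS_injective i.2 j.2 (congrArg Subtype.val h)), fun ⟨a, ha⟩ => by
      obtain ⟨i, hi, rfl⟩ := mem_Syl.1 ha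
      exact ⟨⟨i, hi⟩, rfl⟩⟩

theorem card_Syl : Nat.card Syl = 2048 := by rw [← Nat.card_congr entryEquiv, Nat.card_fin]

theorem sq_spec {i : ℕ} (hi : i < 2048) : sqI i < 2048 ∧ eS i * eS i = eS (sqI i) := by
  have h := allLo_spec sq_ok hi
  simp only [okSq, Bool.and_eq_true, Nat.blt_eq, Nat.beq_eq] at h
  exact ⟨h.1, (mul_eq_iff hi hi h.1).1 h.2⟩

theorem sq_eq_iff {i j : ℕ} (hi : i < 2048) (hj : j < 2048) : eS i * eS i = eS j ↔ sqI i = j := by
  rw [(sq_spec hi).2]
  exact ⟨eS_injective (sq_spec hi).1 hj, fun e => e ▸ rfl⟩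

theorem sq_one_iff {i : ℕ} (hi : i < 2048) : eS i * eS i = 1 ↔ sqI i = 0 := by
  rw [← eS_zero]; exact sq_eq_iff hi (by norm_num)

/-- A word lies in the commutator subgroup exactly when the letter `z` occurs evenly. -/
theorem parW_iff : ∀ {w : List ℕ}, letOK 5 w = true → (el w ∉ commutator H0 ↔ parW w = true)
  | [], _ => by simp [el_nil, parW]
  | l :: w, h => by
    simp only [letOK, List.all_cons, Bool.and_eq_true, Nat.blt_eq] at h
    have ih := parW_iff (w := w) (by simpa [letOK] using h.2)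
    obtain ⟨hxK, hyK⟩ := gens_in_derived
    have hz' : hz ∉ commutator H0 := fun hk => z_not_hs (index_derived.2 hk)
    have e : el (l :: w) = g5 l * el w := rfl
    rw [e, Subgroup.mul_mem_iff_of_index_two index_derived.1]
    show _ ↔ xor (Nat.beq l 4) (parW w) = true
    have hl := h.1
    interval_cases l
    all_goals
      cases hw : parW w <;>
        simp_all [g5, hxK, hyK, hz', Nat.beq]

theorem par_iff {i : ℕ} (hi : i < 2048) : eS i ∉ commutator H0 ↔ parI i = true := parW_iff (word_spec hi).1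

theorem special_spec : iT < 2048 ∧ iA < 2048 ∧ iAT < 2048 ∧ eS iT = hx ^ 2 ∧ eS iA * eS iT = eS iAT ∧
    sqI iA = 0 ∧ sqI iAT = 0 ∧ sqI iT = 0 ∧ parI iA = false ∧ parI iAT = false ∧ parI iT = false ∧
    Dat.reps.getD 0 0 = iT ∧ Dat.reps.getD 1 0 = iA ∧ Dat.reps.getD 2 0 = iAT ∧
    Dat.reps.getD 3 0 = cen Dat.cent0 1 ∧ Dat.reps.getD 4 0 = cen Dat.cent1 1 := by
  have h := special_ok
  simp only [okSpecial, Bool.and_eq_true, Nat.blt_eq, Nat.beq_eq, Bool.not_eq_true'] at h
  obtain ⟨⟨⟨⟨⟨⟨⟨⟨⟨⟨⟨⟨⟨⟨⟨h1, h2⟩, h3⟩, h4⟩, h5⟩, h6⟩, h7⟩, h8⟩, h9⟩, h10⟩, h11⟩, h12⟩, h13⟩, h14⟩, h15⟩, h16⟩ := h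
  refine ⟨h1, h2, h3, ?_, (mul_eq_iff h2 h1 h3).1 h5, h6, h7, h8, h9, h10, h11, h12, h13, h14, h15, h16⟩
  have e : el [0, 0] = hx ^ 2 := by rw [sq]; simp [el, wv, g5]
  rw [← e, eS]
  exact (keyW_eq_iff (word_spec h1).1 (by decide +kernel)).1 ((word_spec h1).2.trans h4.symm)

/-- The class of an involution in the table. -/
theorem wit_spec {i : ℕ} (hi : i < 2048) (h0 : i ≠ 0) (hs : sqI i = 0) :
    clsI i < 5 ∧ Dat.reps.getD (clsI i) 0 < 2048 ∧
      (el (conjI i))⁻¹ * eS (Dat.reps.getD (clsI i) 0) * el (conjI i) = eS i := by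
  have h := allLo_spec wit_ok hi
  simp only [okWit, Bool.or_eq_true, Bool.not_eq_true', Bool.and_eq_true, Nat.beq_eq, Nat.blt_eq] at h
  rcases h with (h | h) | h
  · exact absurd h h0
  · rw [hs] at h; exact absurd h (by decide)
  obtain ⟨⟨hr, hl⟩, he⟩ := h
  have hreps : allLo (fun r => Nat.blt (Dat.reps.getD r 0) 2048) 5 = true := by decide +kernel
  have hrep : Dat.reps.getD (clsI i) 0 < 2048 := Nat.blt_eq ▸ allLo_spec hreps hr
  refine ⟨hr, hrep, ?_⟩
  rw [actK_keyW (letOK_winv hl), actK_keyW (letOK_cat (letOK_winv hl) (word_spec hrep).1),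
    ← (word_spec hi).2, keyW_eq_iff (letOK_cat (letOK_cat (letOK_winv hl) (word_spec hrep).1) hl) (word_spec hi).1,
    el_append, el_append, el_winv] at he
  exact he

/-- An outer involution of the subgroup has a centraliser of order at most 256 there. -/
theorem card_cent_le {i : ℕ} (hi : i < 2048) (hs : sqI i = 0) (hp : parI i = true) :
    Nat.card ↥(Syl ⊓ Subgroup.centralizer {eS i}) ≤ 256 := by
  haveI := finite_H0
  have h := allLo_spec conj_ok hi
  simp only [okConj, hs, hp, Bool.or_eq_true] at h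
  replace h := h.resolve_left (by decide)
  let C := Syl ⊓ Subgroup.centralizer ({eS i} : Set H0)
  let s : Fin 8 → ℕ := fun j => fld (Dat.conjT.get i) (2 * j)
  let v : Fin 8 → ℕ := fun j => fld (Dat.conjT.get i) (2 * j + 1)
  have hj : ∀ j : Fin 8, s j < 2048 ∧ v j < 2048 ∧ eS i * eS (s j) = eS (s j) * eS (v j) ∧
      ∀ k : Fin 8, k.1 < j.1 → v k ≠ v j := by
    intro j
    have h' := allLo_spec h j.2
    simp only [Bool.and_eq_true, Nat.blt_eq, Nat.beq_eq] at h'
    obtain ⟨⟨⟨h1, h2⟩, h3⟩, h4⟩ := h'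
    refine ⟨h1, h2, ?_, fun k hk e => ?_⟩
    · rw [← (word_spec hi).2, ← (word_spec h1).2, actK_keyW (word_spec hi).1, actK_keyW (word_spec h1).1,
        keyW_eq_iff (letOK_cat (word_spec hi).1 (word_spec h1).1) (letOK_cat (word_spec h1).1 (word_spec h2).1),
        el_append, el_append] at h3
      exact h3
    · have := allLo_spec h4 hk
      simp only [Bool.not_eq_true'] at this
      rw [show fld (Dat.conjT.get i) (2 * k.1 + 1) = fld (Dat.conjT.get i) (2 * j.1 + 1) from e] at this
      simp at this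
  have hinj : Function.Injective v := by
    intro a b e
    rcases lt_trichotomy a.1 b.1 with h' | h' | h'
    · exact absurd e ((hj b).2.2.2 a h')
    · exact Fin.ext h'
    · exact absurd e.symm ((hj a).2.2.2 b h')
  let f : C × Fin 8 → Syl := fun z => ⟨z.1.1 * eS (s z.2), mul_mem z.1.2.1 (eS_mem _ (hj z.2).1)⟩
  have hf : Function.Injective f := by
    rintro ⟨c, a⟩ ⟨d, b⟩ e
    have e' : c.1 * eS (s a) = d.1 * eS (s b) := congrArg Subtype.val e
    have key : ∀ (c : C) (a : Fin 8), eS i * (c.1 * eS (s a)) = c.1 * eS (s a) * eS (v a) := fun c a => by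
      rw [← mul_assoc, ← Subgroup.mem_centralizer_singleton_iff.1 c.2.2, mul_assoc, (hj a).2.2.1, mul_assoc]
    have e2 := key c a
    rw [e', key d b] at e2
    have hv := eS_injective (hj b).2.1 (hj a).2.1 (mul_left_cancel e2)
    obtain rfl : a = b := (hinj hv).symm
    exact Prod.ext (Subtype.ext (mul_right_cancel e')) rfl
  have := Nat.card_le_card_of_injective f hf
  rw [Nat.card_prod, Nat.card_fin, card_Syl] at this
  show Nat.card C ≤ 256
  omega

theorem card_countLo (f : ℕ → Bool) (n : ℕ) : Nat.card {i : Fin n // f i = true} = countLo f n := by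
  have h : ∀ n, countLo f n = ((Finset.range n).filter fun i => f i = true).card := by
    intro n
    induction n with
    | zero => rfl
    | succ n ih =>
      show (Bool.rec (countLo f n) (Nat.succ (countLo f n)) (f n) : ℕ) = _
      rw [ih, Finset.range_add_one, Finset.filter_insert]
      cases hf : f n <;> simp [Finset.card_insert_of_notMem]
  rw [h, Nat.card_eq_fintype_card, Fintype.card_subtype, ← Finset.card_map Fin.valEmbedding]
  congr 1
  ext i
  simp only [Finset.mem_map, Finset.mem_filter, Finset.mem_univ, true_and, Fin.valEmbedding_apply, Finset.mem_range]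
  exact ⟨fun ⟨a, ha, e⟩ => e ▸ ⟨a.2, ha⟩, fun ⟨hi, hf⟩ => ⟨⟨i, hi⟩, hf, rfl⟩⟩

end

end Cfsg.Agent.HNRecog
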