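import Cfsg.Agent.Lib.HNRecog.Local.TableDefs

/-! The orders of the centralisers of the outer classes in the table. -/

set_option autoImplicit false
set_option maxRecDepth 100000
set_option maxHeartbeats 0

namespace Cfsg.Agent.HNRecog

open Cfsg.Agent.HN

theorem cent_count : (Nat.beq (countLo (fun i => commI i (cen Dat.cent0 1)) 2048) 256 &&
    Nat.beq (countLo (fun i => commI i (cen Dat.cent1 1)) 2048) 256) = true := by decide +kernel

end Cfsg.Agent.HNRecog
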