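import Cfsg.Agent.Lib.HNRecog.Local.Sylow
import Cfsg.Agent.Lib.HNRecog.Local.CheckCount

/-!
If the involution is conjugate to an outer involution of its untwisted centraliser, it is conjugate to `a`.
-/

set_option autoImplicit false
set_option maxRecDepth 100000
set_option linter.style.haveILetI false
set_option linter.unusedSectionVars false

namespace Cfsg.Agent.HNRecog

open Cfsg.Agent.HN Cfsg.Agent.HNMult

noncomputable section

universe u

theorem reps_lt {r : ℕ} (hr : r < 5) : Dat.reps.getD r 0 < 2048 := by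
  have h : allLo (fun r => Nat.blt (Dat.reps.getD r 0) 2048) 5 = true := by decide +kernel
  exact Nat.blt_eq ▸ allLo_spec h hr

theorem memL_iff {l : List ℕ} {i : ℕ} : memL l i = true ↔ i ∈ l := by
  induction l with
  | nil => simp [memL]
  | cons a l ih =>
    show (Nat.beq a i || memL l i) = true ↔ _
    rw [Bool.or_eq_true, ih, Nat.beq_eq, List.mem_cons]
    exact or_congr_left eq_comm

/-- What is listed of an outer class. -/
theorem head_spec {L : List ℕ} (h : okCenHead L = true) :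
    (∀ k < 8, cen L k < 2048) ∧ parI (cen L 1) = true ∧ sqI (cen L 1) = 0 ∧
    eS (cen L 1) * hx ^ 2 = eS (cen L 2) ∧ eS (cen L 3) * hx ^ 2 = eS (cen L 4) ∧
    eS (cen L 1) * eS (cen L 3) = eS (cen L 5) ∧ eS (cen L 2) * eS (cen L 3) = eS (cen L 6) ∧
    sqI (cen L 7) = cen L 3 ∧ commI (cen L 7) (cen L 1) = true ∧ commI (cen L 3) (cen L 1) = true ∧
    cen L 3 ≠ 0 ∧ sqI (cen L 3) = 0 ∧ sqI (cen L 2) = 0 ∧ sqI (cen L 4) = 0 ∧ sqI (cen L 6) = 0 ∧
    Dat.reps.getD (cen L 0) 0 = cen L 1 ∧ clsI (cen L 2) = cen L 0 ∧ clsI (cen L 6) = cen L 0 ∧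
    Dat.reps.getD (clsI (cen L 4)) 0 = iA := by
  simp only [okCenHead, Bool.and_eq_true, Nat.beq_eq, Bool.not_eq_true'] at h
  obtain ⟨⟨⟨⟨⟨⟨⟨⟨⟨⟨⟨⟨⟨⟨⟨⟨⟨⟨h0, h1⟩, h2⟩, h3⟩, h4⟩, h5⟩, h6⟩, h7⟩, h8⟩, h9⟩, h10⟩, h11⟩, h12⟩, h13⟩, h14⟩, h15⟩, h16⟩, h17⟩, h18⟩ := h
  have hk : ∀ k < 8, cen L k < 2048 := fun k hk => Nat.blt_eq ▸ allLo_spec h0 hk
  have hT := special_spec.1
  refine ⟨hk, h1, h2, ?_, ?_, ?_, ?_, h7, h8, h9, fun e => ?_, h11, h12, h13, h14, h15, h16, h17, h18⟩
  · rw [← eS_iT]; exact (mul_eq_iff (hk 1 (by norm_num)) hT (hk 2 (by norm_num))).1 h3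
  · rw [← eS_iT]; exact (mul_eq_iff (hk 3 (by norm_num)) hT (hk 4 (by norm_num))).1 h4
  · exact (mul_eq_iff (hk 1 (by norm_num)) (hk 3 (by norm_num)) (hk 5 (by norm_num))).1 h5
  · exact (mul_eq_iff (hk 2 (by norm_num)) (hk 3 (by norm_num)) (hk 6 (by norm_num))).1 h6
  · rw [e] at h10; simp at h10

namespace Twisted

variable {G : Type u} [Group G] {t : G} (D : Twisted t)

theorem mul_untwisted (htw : D.twist = false) (a b : H0) : D.ψ a * D.ψ b = D.ψ (a * b) := by
  by_cases h : a ∈ commutator H0 ∨ b ∈ commutator H0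
  · exact D.mul_in a b h
  · push Not at h
    rw [D.mul_out a b h.1 h.2, htw, cond_false, mul_one]

/-- The untwisted map as a homomorphism. -/
def hom (htw : D.twist = false) : H0 →* G := MonoidHom.mk' D.ψ fun a b => (D.mul_untwisted htw a b).symm

variable [Finite G]

/-- A 2-subgroup of the centralisers of `t` and of an outer involution has order at most 256. -/
theorem card_le_256 (htw : D.twist = false) {i : ℕ} (hi : i < 2048) (hp : parI i = true) (hs : sqI i = 0)
    {Q : Subgroup G} (hQ : IsPGroup 2 Q) (hle : Q ≤ Subgroup.centralizer ({t} : Set G))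
    (hcu : ∀ x ∈ Q, x * D.ψ (eS i) = D.ψ (eS i) * x) : Nat.card Q ≤ 256 := by
  haveI : Fact (Nat.Prime 2) := ⟨Nat.prime_two⟩
  haveI := finite_H0
  set v := D.ψ (eS i) with hv
  have hv2 : v * v = 1 := by
    rw [hv, D.mul_untwisted htw, ← D.psi_one, (sq_one_iff hi).2 hs]
  have hZ : IsPGroup 2 (Subgroup.zpowers v) := IsPGroup.of_card (n := 1) (by
    rw [Nat.card_zpowers, pow_one]
    refine orderOf_eq_prime (by rw [pow_two, hv2]) fun e => ?_
    rw [hv, ← D.psi_one] at e
    have h1 := (par_iff hi).2 hp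
    rw [D.inj e] at h1
    exact h1 (one_mem _))
  have hnorm : Subgroup.zpowers v ≤ Subgroup.normalizer (Q : Set G) :=
    Subgroup.zpowers_le.2 (Subgroup.mem_normalizer_iff.2 fun x => by
      constructor
      · intro hx'
        rw [← hcu x hx', mul_inv_cancel_right]
        exact hx'
      · intro hx'
        have e : v * x * v⁻¹ * v = v * (v * x * v⁻¹) := hcu _ hx'
        rw [inv_mul_cancel_right, ← mul_assoc, ← mul_assoc, hv2, one_mul] at e
        convert hx' using 1
        calc x = x * v⁻¹ * v := by group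
          _ = v * x * v := by rw [← e]
          _ = v * x * v⁻¹ := by rw [inv_eq_of_mul_eq_one_right hv2])
  obtain ⟨a, ha⟩ := D.conj_into (hQ.to_sup_of_normal_left' hZ hnorm)
    (sup_le hle (Subgroup.zpowers_le.2 (D.psi_mem _)))
  obtain ⟨j, hj, ej⟩ := D.mem_SG.1 (ha v (Subgroup.mem_sup_right (Subgroup.mem_zpowers v)))
  have hji : eS j = a * eS i * a⁻¹ := by
    refine D.inj (ej.trans ?_)
    rw [hv, D.psi_conj, mul_inv_cancel_right]
  have hjs : sqI j = 0 := by
    refine (sq_one_iff hj).1 ?_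
    rw [hji, show a * eS i * a⁻¹ * (a * eS i * a⁻¹) = a * (eS i * eS i) * a⁻¹ by group, (sq_one_iff hi).2 hs,
      mul_one, mul_inv_cancel]
  have hjp : parI j = true := (par_iff hj).1 fun hk => (par_iff hi).2 hp
    ((par_conj (h := a⁻¹) (by rw [inv_inv, hji])).1 hk)
  have hmem : ∀ x : Q, ∃ k < 2048, D.ψ (eS k) = D.ψ a * x * (D.ψ a)⁻¹ := fun x =>
    D.mem_SG.1 (ha x (Subgroup.mem_sup_left x.2))
  choose k hk ek using hmem
  let f : Q → ↥(Syl ⊓ Subgroup.centralizer {eS j}) := fun x => ⟨eS (k x), Subgroup.mem_inf.2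
    ⟨eS_mem _ (hk x), Subgroup.mem_centralizer_singleton_iff.2 (D.inj (by
      rw [← D.mul_untwisted htw, ← D.mul_untwisted htw, ek, ej]
      calc D.ψ a * x * (D.ψ a)⁻¹ * (D.ψ a * v * (D.ψ a)⁻¹) = D.ψ a * (x * v) * (D.ψ a)⁻¹ := by group
        _ = D.ψ a * (v * x) * (D.ψ a)⁻¹ := by rw [hcu x x.2]
        _ = _ := by group))⟩⟩
  have hf : Function.Injective f := fun x y e => by
    have e1 : eS (k x) = eS (k y) := congrArg Subtype.val e
    have e2 := congrArg D.ψ e1
    rw [ek, ek] at e2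
    exact Subtype.ext (mul_left_cancel (mul_right_cancel e2))
  exact (Nat.card_le_card_of_injective f hf).trans (card_cent_le hj hjs hjp)

/-- From an outer class fused with `t`. -/
theorem outer (htw : D.twist = false) {L : List ℕ} {nc : Trie} (hhead : okCenHead L = true)
    (hcen : allLo (okCen L nc) 2048 = true)
    (hcnt : countLo (fun i => commI i (cen L 1)) 2048 = 256) (hu : IsConj t (D.ψ (eS (cen L 1)))) :
    IsConj t (D.ψ (eS iA)) := by
  haveI : Fact (Nat.Prime 2) := ⟨Nat.prime_two⟩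
  obtain ⟨hk, hup, hus, eut, ewt, euw, eutw, hroot, hrootu, hwu, hw0, hws, huts, hwts, hutws, hrep, hcut, hcutw,
    hcwt⟩ := head_spec hhead
  set ψ := D.hom htw with hψ
  have hψa : ∀ a, D.ψ a = ψ a := fun a => rfl
  have kk : ∀ j : ℕ, j < 8 → cen L j < 2048 := hk
  have hu1 := kk 1 (by norm_num); have hut := kk 2 (by norm_num); have hwi := kk 3 (by norm_num)
  have hwti := kk 4 (by norm_num); have huwi := kk 5 (by norm_num); have hutwi := kk 6 (by norm_num)
  have hri := kk 7 (by norm_num)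
  set v := D.ψ (eS (cen L 1)) with hv
  set w := D.ψ (eS (cen L 3)) with hw
  let R : Subgroup G := D.SG ⊓ Subgroup.centralizer {v}
  have memR : ∀ {i : ℕ}, i < 2048 → (D.ψ (eS i) ∈ R ↔ commI i (cen L 1) = true) := fun {i} hi => by
    rw [Subgroup.mem_inf, Subgroup.mem_centralizer_singleton_iff, commI_iff hi hu1, hv, hψa, hψa, ← map_mul,
      ← map_mul]
    exact ⟨fun h => D.inj h.2, fun h => ⟨D.entry_mem hi, by rw [h]⟩⟩
  have cardR : Nat.card R = 256 := by
    rw [← hcnt, ← card_countLo]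
    let f : {i : Fin 2048 // commI i (cen L 1) = true} → R := fun i => ⟨D.ψ (eS i.1), (memR i.1.2).2 i.2⟩
    refine (Nat.card_eq_of_bijective f ⟨fun a b e => ?_, fun ⟨x, hx'⟩ => ?_⟩).symm
    · exact Subtype.ext (Fin.ext (eS_injective a.1.2 b.1.2 (D.inj (congrArg Subtype.val e))))
    · obtain ⟨i, hi, rfl⟩ := D.mem_SG.1 hx'.1
      exact ⟨⟨⟨i, hi⟩, (memR hi).1 hx'⟩, rfl⟩
  -- the centre of `R` is listed
  have center : ∀ i < 2048, commI i (cen L 1) = true → (∀ x ∈ R, x * D.ψ (eS i) = D.ψ (eS i) * x) →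
      i ∈ cenList L := by
    intro i hi hiR hc
    have h := allLo_spec hcen hi
    simp only [okCen, hiR, Bool.not_true, Bool.false_or, Bool.and_eq_true, Bool.or_eq_true] at h
    rcases h.2 with h' | h'
    · exact memL_iff.1 h'
    · obtain ⟨⟨hj, hju⟩, hne⟩ := h'
      rw [Nat.blt_eq] at hj
      exfalso
      have e := hc _ ((memR hj).2 hju)
      rw [hψa, hψa, ← map_mul, ← map_mul] at e
      rw [Bool.not_eq_true', ← Bool.not_eq_true, commI_iff hi hj] at hne
      exact hne (D.inj e).symm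
  -- an element moving `t`
  obtain ⟨g, hg⟩ := isConj_iff.1 hu
  have hv' : g * t * g⁻¹ = v := hg
  set Cv := Subgroup.centralizer ({v} : Set G) with hCv
  have hRv : R ≤ Cv := inf_le_right
  have hcardCv : Nat.card Cv = 177408000 := by
    rw [← D.card_centralizer]
    let e : ↥(Subgroup.centralizer ({t} : Set G)) → Cv := fun x =>
      ⟨g * x * g⁻¹, Subgroup.mem_centralizer_singleton_iff.2 (by
        rw [← hv', show g * x * g⁻¹ * (g * t * g⁻¹) = g * ((x : G) * t) * g⁻¹ by group,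
          Subgroup.mem_centralizer_singleton_iff.1 x.2]
        group)⟩
    refine (Nat.card_eq_of_bijective e ⟨fun a b h => Subtype.ext (mul_left_cancel (mul_right_cancel
      (congrArg Subtype.val h))), fun ⟨y, hy⟩ => ?_⟩).symm
    refine ⟨⟨g⁻¹ * y * g, Subgroup.mem_centralizer_singleton_iff.2 ?_⟩, Subtype.ext (by
      show g * (g⁻¹ * y * g) * g⁻¹ = y
      group)⟩
    calc g⁻¹ * y * g * t = g⁻¹ * (y * (g * t * g⁻¹)) * g := by group
      _ = g⁻¹ * (v * y) * g := by rw [hv', Subgroup.mem_centralizer_singleton_iff.1 hy]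
      _ = _ := by rw [← hv']; group
  obtain ⟨K, hK, hRK⟩ := Sylow.exists_subgroup_card_pow_succ (G := Cv) (p := 2) (n := 8)
    (by rw [hcardCv]; norm_num) (H := R.subgroupOf Cv)
    (by rw [Nat.card_congr (Subgroup.subgroupOfEquivOfLe hRv).toEquiv, cardR]; norm_num)
  let K' : Subgroup G := K.map Cv.subtype
  have hRK' : R ≤ K' := fun x hx' => ⟨⟨x, hRv hx'⟩, hRK hx', rfl⟩
  have hK' : Nat.card K' = 512 := by
    rw [Nat.card_congr (Subgroup.equivMapOfInjective K Cv.subtype (Subgroup.subtype_injective Cv)).toEquiv.symm, hK]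
    norm_num
  have hKv : ∀ x ∈ K', x * v = v * x := by
    rintro _ ⟨x, -, rfl⟩
    exact Subgroup.mem_centralizer_singleton_iff.1 x.2
  obtain ⟨q, hqK, hqt⟩ : ∃ q ∈ K', q * t ≠ t * q := by
    by_contra h
    push Not at h
    have := D.card_le_256 htw hu1 hup hus (IsPGroup.of_card (n := 9) (by rw [hK']; norm_num))
      (fun x hx' => Subgroup.mem_centralizer_singleton_iff.2 (h x hx')) hKv
    omega
  have hnormal : (R.subgroupOf K').Normal := by
    refine Subgroup.normal_of_index_eq_two ?_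
    have h := Subgroup.index_mul_card (R.subgroupOf K')
    rw [Nat.card_congr (Subgroup.subgroupOfEquivOfLe hRK').toEquiv, cardR, hK'] at h
    omega
  have hqR : ∀ x ∈ R, q * x * q⁻¹ ∈ R := fun x hx' =>
    (hnormal.conj_mem ⟨x, hRK' hx'⟩ hx' ⟨q, hqK⟩ : _)
  have hqR' : ∀ x ∈ R, ∃ y ∈ R, q * y * q⁻¹ = x := fun x hx' => by
    have := (hnormal.conj_mem ⟨x, hRK' hx'⟩ hx' ⟨q, hqK⟩⁻¹ : _)
    refine ⟨q⁻¹ * x * q, ?_, by group⟩
    simpa [Subgroup.mem_subgroupOf] using this
  have hqv : q * v * q⁻¹ = v := by rw [hKv q hqK, mul_inv_cancel_right]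
  have centralConj : ∀ z, (∀ x ∈ R, x * z = z * x) → ∀ x ∈ R, x * (q * z * q⁻¹) = q * z * q⁻¹ * x := by
    intro z hz x hx'
    obtain ⟨y, hy, rfl⟩ := hqR' x hx'
    calc q * y * q⁻¹ * (q * z * q⁻¹) = q * (y * z) * q⁻¹ := by group
      _ = q * (z * y) * q⁻¹ := by rw [hz y hy]
      _ = _ := by group
  -- `w` is fixed
  have hwR : ∀ x ∈ R, x * w = w * x := fun x hx' => by
    obtain ⟨i, hi, rfl⟩ := D.mem_SG.1 hx'.1
    have h := allLo_spec hcen hi
    simp only [okCen, (memR hi).1 hx', Bool.not_true, Bool.false_or, Bool.and_eq_true] at h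
    rw [hw, hψa, hψa, ← map_mul, ← map_mul, (commI_iff hi hwi).1 h.1.1]
  have hrr : D.ψ (eS (cen L 7)) * D.ψ (eS (cen L 7)) = w := by
    rw [D.mul_untwisted htw, (sq_spec hri).2, hroot, hw]
  have hqw : q * w * q⁻¹ = w := by
    have hyR := hqR _ ((memR hri).2 hrootu)
    obtain ⟨i, hi, ei⟩ := D.mem_SG.1 hyR.1
    have hiR : commI i (cen L 1) = true := (memR hi).1 (ei.symm ▸ hyR)
    have e2 : D.ψ (eS (sqI i)) = q * w * q⁻¹ := by
      rw [← (sq_spec hi).2, ← D.mul_untwisted htw, ei, ← hrr]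
      group
    have hsR : commI (sqI i) (cen L 1) = true :=
      (memR (sq_spec hi).1).1 (e2.symm ▸ hqR _ ((memR hwi).2 hwu))
    have hlist := center _ (sq_spec hi).1 hsR (fun x hx' => by rw [e2]; exact centralConj w hwR x hx')
    have h := allLo_spec hcen hi
    simp only [okCen, hiR, Bool.not_true, Bool.false_or, Bool.and_eq_true, Bool.or_eq_true] at h
    rcases h.1.2 with (h' | h') | h'
    · exfalso
      rw [Nat.beq_eq] at h'
      rw [h', eS_zero, D.psi_one, eq_comm, conj_eq_one_iff, hw, ← D.psi_one, ← eS_zero] at e2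
      exact hw0 (eS_injective hwi (by norm_num) (D.inj e2))
    · rw [Nat.beq_eq] at h'
      rw [← e2, h', hw]
    · rw [Bool.not_eq_true', ← Bool.not_eq_true, memL_iff] at h'
      exact absurd hlist h'
  -- the image of `t`
  have hTR : t ∈ R := by
    refine Subgroup.mem_inf.2 ⟨D.mem_SG.2 ⟨iT, special_spec.1, by rw [eS_iT, D.map_sq]⟩, ?_⟩
    exact Subgroup.mem_centralizer_singleton_iff.2
      (Subgroup.mem_centralizer_singleton_iff.1 (D.psi_mem (eS (cen L 1)))).symm
  have htc : ∀ x ∈ R, x * t = t * x := fun x hx' => Subgroup.mem_centralizer_singleton_iff.1 (D.SG_le hx'.1)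
  obtain ⟨i, hi, ei⟩ := D.mem_SG.1 (hqR t hTR).1
  have hiR : commI i (cen L 1) = true := (memR hi).1 (ei.symm ▸ hqR t hTR)
  have hlist := center i hi hiR (fun x hx' => by rw [ei]; exact centralConj t htc x hx')
  have ht1 : t ≠ 1 := fun e => hqt (by rw [e, mul_one, one_mul])
  have conj_cls : ∀ j < 2048, sqI j = 0 → j ≠ 0 → IsConj (D.ψ (eS j)) (D.ψ (eS (Dat.reps.getD (clsI j) 0))) :=
    fun j hj h0 h1 => D.isConj_psi (wit_spec hj h1 h0).2.2
  have hne0 : ∀ {j : ℕ}, clsI j = cen L 0 → IsConj (D.ψ (eS j)) v → j ≠ 0 := by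
    rintro j - hc rfl
    rw [eS_zero, D.psi_one, isConj_one_right] at hc
    rw [hv, ← D.psi_one, ← eS_zero] at hc
    have := eS_injective (by norm_num) hu1 (D.inj hc.symm)
    have h1 := (par_iff hu1).2 hup
    rw [← this, eS_zero] at h1
    exact h1 (one_mem _)
  have hwt0 : cen L 4 ≠ 0 := by
    intro e
    rw [e, eS_zero] at ewt
    have h1 : eS (cen L 3) = hx ^ 2 := by
      calc eS (cen L 3) = eS (cen L 3) * hx ^ 2 * hx ^ 2 := by rw [mul_assoc, T_mul_T, mul_one]
        _ = hx ^ 2 := by rw [ewt, one_mul]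
    rw [e] at hcwt
    have h2 : D.ψ (eS (cen L 3)) = t := by rw [h1, D.map_sq]
    rw [← hw] at h2
    exact hqt (by
      have := hqw
      rw [h2] at this
      calc q * t = q * t * q⁻¹ * q := by group
        _ = t * q := by rw [this])
  have hwt_a : IsConj (D.ψ (eS (cen L 4))) (D.ψ (eS iA)) := hcwt ▸ conj_cls _ hwti hwts hwt0
  have hut0 : cen L 2 ≠ 0 := by
    intro e
    rw [e, eS_zero] at eut
    have h1 := (par_iff hu1).2 hup
    refine h1 ?_
    rw [show eS (cen L 1) = hx ^ 2 by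
      calc eS (cen L 1) = eS (cen L 1) * hx ^ 2 * hx ^ 2 := by rw [mul_assoc, T_mul_T, mul_one]
        _ = hx ^ 2 := by rw [eut, one_mul]]
    exact sq_mem_derived
  have hutw0 : cen L 6 ≠ 0 := by
    intro e
    rw [e, eS_zero] at eutw
    have hh := congrArg D.ψ (show eS (cen L 2) = (eS (cen L 3))⁻¹ from eq_inv_of_mul_eq_one_left eutw)
    rw [inv_eq_of_mul_eq_one_right ((sq_one_iff hwi).2 hws)] at hh
    have h1 : parI (cen L 2) = true → False := fun hp2 => by
      have := (par_iff hut).2 hp2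
      rw [D.inj hh] at this
      refine this (Classical.byContradiction fun hn => ?_)
      have hwr : eS (cen L 3) = eS (cen L 7) * eS (cen L 7) := by rw [(sq_spec hri).2, hroot]
      rw [hwr] at hn
      exact hn ((Subgroup.mul_mem_iff_of_index_two index_derived.1).2 Iff.rfl)
    refine h1 ((par_iff hut).1 fun hm => (par_iff hu1).2 hup ?_)
    rw [← eut] at hm
    exact (Subgroup.mul_mem_cancel_right _ sq_mem_derived).1 hm
  have hut_u : IsConj (D.ψ (eS (cen L 2))) v := by
    have := conj_cls _ hut huts hut0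
    rwa [hcut, hrep] at this
  have hutw_u : IsConj (D.ψ (eS (cen L 6))) v := by
    have := conj_cls _ hutwi hutws hutw0
    rwa [hcutw, hrep] at this
  have comm_wu : w * v = v * w := by
    rw [hw, hv, hψa, hψa, ← map_mul, ← map_mul, (commI_iff hwi hu1).1 hwu]
  -- the image of `w t`
  have hqwt : q * D.ψ (eS (cen L 4)) * q⁻¹ = w * D.ψ (eS i) := by
    rw [← ewt, D.psi_mul_T, ← hw, ei]
    calc q * (w * t) * q⁻¹ = (q * w * q⁻¹) * (q * t * q⁻¹) := by group
      _ = _ := by rw [hqw]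
  have done : ∀ j, IsConj (D.ψ (eS j)) v → w * D.ψ (eS i) = D.ψ (eS j) → IsConj t (D.ψ (eS iA)) := by
    intro j hj e
    refine hu.trans (hj.symm.trans (IsConj.trans ?_ hwt_a))
    exact isConj_iff.2 ⟨q⁻¹, by rw [← e, ← hqwt]; group⟩
  simp only [cenList, List.mem_cons, List.not_mem_nil, or_false] at hlist
  have hct : ∀ {x : H0}, D.ψ x * t = t * D.ψ x := fun {x} => Subgroup.mem_centralizer_singleton_iff.1 (D.psi_mem x)
  rcases hlist with h | h | h | h | h | h | h | h <;> rw [h] at ei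
  · rw [eS_zero, D.psi_one, eq_comm, conj_eq_one_iff] at ei
    exact absurd ei ht1
  · rw [eS_iT, D.map_sq] at ei
    exact absurd (by
      calc q * t = q * t * q⁻¹ * q := by group
        _ = t * q := by rw [← ei]) hqt
  · rw [← hv] at ei
    exact absurd (mul_left_cancel (mul_right_cancel (ei.symm.trans hqv.symm))) fun e => hqt (by
      rw [e]; exact hKv q hqK)
  · refine done _ hutw_u ?_
    rw [h, ← eutw, ← D.mul_untwisted htw, ← eut, D.psi_mul_T, ← hv, ← hw]
    calc w * (v * t) = v * w * t := by rw [← mul_assoc, comm_wu]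
      _ = v * t * w := by rw [mul_assoc, hw, hct, ← mul_assoc]
  · rw [← hw] at ei
    exact absurd (mul_left_cancel (mul_right_cancel (ei.symm.trans hqw.symm))) fun e => hqt (by
      calc q * t = q * t * q⁻¹ * q := by group
        _ = t * q := by rw [← ei, e])
  · exact (isConj_iff.2 ⟨q, ei.symm⟩ : IsConj t (D.ψ (eS (cen L 4)))).trans hwt_a
  · exfalso
    rw [h, ← euw, ← D.mul_untwisted htw, ← hv, ← hw] at hqwt
    rw [show w * (v * w) = v by
      rw [← mul_assoc, comm_wu, mul_assoc, hw, D.mul_untwisted htw, (sq_one_iff hwi).2 hws, D.psi_one, mul_one],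
      ← hqv] at hqwt
    have e := D.inj (mul_left_cancel (mul_right_cancel hqwt) : D.ψ (eS (cen L 4)) = D.ψ (eS (cen L 1)))
    have hin : eS (cen L 4) ∈ commutator H0 := by
      rw [← ewt, ← hroot, ← (sq_spec hri).2]
      exact mul_mem ((Subgroup.mul_mem_iff_of_index_two index_derived.1).2 Iff.rfl) sq_mem_derived
    exact (par_iff hu1).2 hup (e ▸ hin)
  · refine done _ hut_u ?_
    rw [h, ← eutw, ← D.mul_untwisted htw, ← hw]
    have hc2 : w * D.ψ (eS (cen L 2)) = D.ψ (eS (cen L 2)) * w := by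
      rw [← eut, D.psi_mul_T, ← hv, ← mul_assoc, comm_wu, mul_assoc, hw, hct, ← mul_assoc]
    rw [← mul_assoc, hc2, mul_assoc, hw, D.mul_untwisted htw, (sq_one_iff hwi).2 hws, D.psi_one, mul_one]

end Twisted

end

end Cfsg.Agent.HNRecog
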