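import Cfsg.Agent.Lib.HNRecog.Local.Outer
import Cfsg.Agent.Lib.McLTwoA8.Isolated

/-!
In a simple group with an involution centraliser containing a non-split double cover of HS with index two, the
centraliser is the group of `x, y, z`, the involution is conjugate to `a` and not to `a t`, and every involution
commuting with it is conjugate to one of the two.
-/

set_option autoImplicit false
set_option maxRecDepth 100000
set_option linter.style.haveILetI false

namespace Cfsg.Agent.HNRecog

open Cfsg.Agent.HN Cfsg.Agent.HNMult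

noncomputable section

universe u

/-- The element `a`: an involution over the class 2A of HS fixing 128 of the 1408 points. -/
def elA : H0 := eS iA

/-- The element `a t`. -/
def elAT : H0 := eS iAT

theorem elA_mul : elA * hx ^ 2 = elAT := eS_AT

theorem dec_spec {L dec : List ℕ} (h : okDec L dec = true) :
    (∀ k < 3, cen dec k < 2048) ∧ sqI (cen dec 1) = iA ∧ sqI (cen dec 2) = iA ∧ sqI (cen dec 0) = 0 ∧
      cen dec 0 ≠ 0 ∧ clsI (cen dec 0) = cen L 0 ∧ eS (cen dec 1) * eS (cen dec 2) = eS (cen dec 0) := by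
  simp only [okDec, Bool.and_eq_true, Nat.beq_eq, Bool.not_eq_true'] at h
  obtain ⟨⟨⟨⟨⟨⟨h0, h1⟩, h2⟩, h3⟩, h4⟩, h5⟩, h6⟩ := h
  have hk : ∀ k < 3, cen dec k < 2048 := fun k hk => Nat.blt_eq ▸ allLo_spec h0 hk
  exact ⟨hk, h1, h2, h3, fun e => by rw [e] at h4; simp at h4, h5,
    (mul_eq_iff (hk 1 (by norm_num)) (hk 2 (by norm_num)) (hk 0 (by norm_num))).1 h6⟩

namespace Twisted

variable {G : Type u} [Group G] [Finite G] {t : G} (D : Twisted t)

include D in
/-- The involution is not isolated. -/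
theorem exists_fused [IsSimpleGroup G] (ht : orderOf t = 2) :
    ∃ x, orderOf x = 2 ∧ x * t = t * x ∧ x ≠ t ∧ IsConj t x := by
  by_contra hno
  push Not at hno
  have hiso : Cfsg.IsIsolated t := fun g hg => by
    by_contra hne
    exact hno (g * t * g⁻¹) (by rw [show g * t * g⁻¹ = MulAut.conj g t from rfl, MulEquiv.orderOf_eq, ht])
      hg.eq.symm hne (isConj_iff.2 ⟨g, rfl⟩)
  haveI hO : (Cfsg.oddCore G).Normal := Cfsg.Agent.FittingCores.pPrimeCore_normal 2
  have hsup := McLTwoA8.sup_oddCore_of_isolated t ht hiso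
  rcases hO.eq_bot_or_eq_top with hb | hb
  · rw [hb, sup_bot_eq] at hsup
    have hcen : t ∈ Subgroup.center G := Subgroup.mem_center_iff.2 fun g =>
      Subgroup.mem_centralizer_singleton_iff.1 (hsup ▸ Subgroup.mem_top g)
    have hle : Subgroup.zpowers t ≤ Subgroup.center G := Subgroup.zpowers_le.2 hcen
    have hn : (Subgroup.zpowers t).Normal := ⟨fun n hn g => by
      rw [Subgroup.mem_center_iff.1 (hle hn) g, mul_inv_cancel_right]; exact hn⟩
    rcases hn.eq_bot_or_eq_top with hz | hz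
    · rw [Subgroup.zpowers_eq_bot] at hz
      rw [hz, orderOf_one] at ht
      omega
    · have h1 := Subgroup.card_le_card_group (Subgroup.centralizer ({t} : Set G))
      rw [D.card_centralizer, ← Subgroup.card_top (G := G), ← hz, Nat.card_zpowers, ht] at h1
      omega
  · have hco : (Nat.card (pPrimeCore 2 G)).Coprime 2 := Cfsg.Agent.FittingCores.pPrimeCore_coprime (G := G) 2
    rw [show pPrimeCore 2 G = (⊤ : Subgroup G) from hb, Subgroup.card_top] at hco
    have := (ht ▸ orderOf_dvd_natCard t : 2 ∣ Nat.card G)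
    exact absurd (Nat.dvd_gcd this dvd_rfl) (by rw [Nat.coprime_iff_gcd_eq_one.1 hco]; norm_num)

theorem central_AAT : (∀ x ∈ D.SG, x * D.ψ elA = D.ψ elA * x) ∧ ∀ x ∈ D.SG, x * D.ψ elAT = D.ψ elAT * x := by
  have hA : allLo (fun i => commI i iA && commI i iAT) 2048 = true := by decide +kernel
  obtain ⟨-, hAl, hATl, -, -, -, -, -, pA, pAT, -⟩ := special_spec
  have hin : ∀ {j}, j < 2048 → parI j = false → eS j ∈ commutator H0 := fun {j} hj hp => by
    by_contra hn
    rw [(par_iff hj).1 hn] at hp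
    exact Bool.noConfusion hp
  constructor <;> intro x hx' <;> obtain ⟨i, hi, rfl⟩ := D.mem_SG.1 hx' <;> have h := allLo_spec hA hi <;>
    simp only [Bool.and_eq_true] at h
  · rw [elA, D.mul_in _ _ (Or.inr (hin hAl pA)), D.mul_in _ _ (Or.inl (hin hAl pA)), (commI_iff hi hAl).1 h.1]
  · rw [elAT, D.mul_in _ _ (Or.inr (hin hATl pAT)), D.mul_in _ _ (Or.inl (hin hATl pAT)),
      (commI_iff hi hATl).1 h.2]

theorem roots_t : Nat.card {x : D.SG // (x : G) * x = t} = rootCount D.twist iT 0 := by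
  have e : D.ψ (eS iT) = t := by rw [eS_iT, D.map_sq]
  conv_lhs => rw [show (fun x : D.SG => (x : G) * x = t) = fun x : D.SG => (x : G) * x = D.ψ (eS iT) by rw [e]]
  exact D.card_roots special_spec.1 (by norm_num) (by rw [eS_iT, T_mul_T, eS_zero])

/-- In the twisted case there is no fusion at all; otherwise `t` is not conjugate to `a t`. -/
theorem not_conj_AT : ¬IsConj t (D.ψ elAT) := by
  intro h
  obtain ⟨q, hq1, hq2⟩ := D.exists_mover D.central_AAT.2 h
  have e := D.roots_eq hq1 hq2
  rw [elAT, D.card_roots special_spec.2.2.1 special_spec.2.1 eS_AT', D.roots_t] at e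
  obtain ⟨r1, -, r3⟩ := roots_ok
  cases htw : D.twist <;> rw [htw] at e
  · have h0 : rootCount false iT 0 = rootCount false iT iA := rfl
    rw [h0] at e
    have h1 : rootCount false iAT iA = rootCount false iAT iT := rfl
    rw [h1] at e
    rw [e] at r1
    simp at r1
  · rw [e] at r3
    simp at r3

theorem twist_false [IsSimpleGroup G] (ht : orderOf t = 2) : D.twist = false := by
  rw [← Bool.not_eq_true]
  intro htw
  obtain ⟨x, hx2, hxt, hne, hconj⟩ := D.exists_fused ht
  obtain ⟨r, hr, hxr⟩ := D.classify hx2 hxt hne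
  obtain ⟨-, hAl, hATl, -, -, -, -, -, -, -, -, -, e1, e2, -⟩ := special_spec
  rcases hr with rfl | rfl | ⟨hf, -⟩
  · rw [e1] at hxr
    obtain ⟨q, hq1, hq2⟩ := D.exists_mover D.central_AAT.1 (hconj.trans hxr)
    have e := D.roots_eq hq1 hq2
    rw [elA, D.card_roots hAl hATl eS_AT, D.roots_t, htw] at e
    have r2 := roots_ok.2.1
    rw [e] at r2
    simp at r2
  · rw [e2] at hxr
    exact D.not_conj_AT (hconj.trans hxr)
  · rw [htw] at hf
    exact Bool.noConfusion hf

/-- The involution is conjugate to `a`. -/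
theorem conj_A [IsSimpleGroup G] (ht : orderOf t = 2) : IsConj t (D.ψ elA) := by
  have htw := D.twist_false ht
  obtain ⟨x, hx2, hxt, hne, hconj⟩ := D.exists_fused ht
  obtain ⟨r, hr, hxr⟩ := D.classify hx2 hxt hne
  obtain ⟨-, hAl, hATl, -, -, -, -, -, -, -, -, -, e1, e2, e3, e4⟩ := special_spec
  have hh := cent_head
  simp only [Bool.and_eq_true] at hh
  have hc := cent_count
  simp only [Bool.and_eq_true, Nat.beq_eq] at hc
  rcases hr with rfl | rfl | ⟨-, rfl | rfl⟩
  · rw [e1] at hxr
    exact hconj.trans hxr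
  · rw [e2] at hxr
    exact absurd (hconj.trans hxr) D.not_conj_AT
  · rw [e3] at hxr
    exact D.outer htw hh.1.1.1 cent0_ok hc.1 (hconj.trans hxr)
  · rw [e4] at hxr
    exact D.outer htw hh.1.1.2 cent1_ok hc.2 (hconj.trans hxr)

/-- An involution commuting with `t` is conjugate to `t` or to `a t`. -/
theorem two_classes [IsSimpleGroup G] (ht : orderOf t = 2) {x : G} (hx2 : orderOf x = 2) (hxt : x * t = t * x) :
    IsConj x t ∨ IsConj x (D.ψ elAT) := by
  by_cases hne : x = t
  · exact Or.inl (by rw [hne])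
  have htw := D.twist_false ht
  obtain ⟨r, hr, hxr⟩ := D.classify hx2 hxt hne
  obtain ⟨-, hAl, hATl, -, -, -, -, -, pA, pAT, pT, e0, e1, e2, e3, e4⟩ := special_spec
  have hta := D.conj_A ht
  obtain ⟨q, hq1, hq2⟩ := D.exists_mover D.central_AAT.1 hta
  have fromDec : ∀ {L dec : List ℕ}, okCenHead L = true → okDec L dec = true →
      IsConj x (D.ψ (eS (cen L 1))) → IsConj x t ∨ IsConj x (D.ψ elAT) := by
    intro L dec hL hdec hxu
    obtain ⟨-, -, -, -, -, -, -, -, -, -, -, -, -, -, -, hrep, -, -, -⟩ := head_spec hL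
    obtain ⟨hk, hr1, hr2, hsq, hn0, hcls, hprod⟩ := dec_spec hdec
    have h1 := hk 1 (by norm_num); have h2 := hk 2 (by norm_num); have h0 := hk 0 (by norm_num)
    have hroot : ∀ j < 2048, sqI j = iA → ∃ i < 2048, parI i = false ∧ D.ψ (eS i) = q * D.ψ (eS j) * q⁻¹ := by
      intro j hj hjs
      obtain ⟨i, hi, ei⟩ := D.mem_SG.1 (hq2 _ (D.entry_mem hj))
      refine ⟨i, hi, ?_, ei⟩
      have e : D.ψ (eS i) * D.ψ (eS i) = D.ψ (eS iT) := by
        rw [ei, show q * D.ψ (eS j) * q⁻¹ * (q * D.ψ (eS j) * q⁻¹) = q * (D.ψ (eS j) * D.ψ (eS j)) * q⁻¹ by group,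
          D.mul_untwisted htw, (sq_spec hj).2, hjs, ← elA, hq1, eS_iT, D.map_sq]
      rw [D.sq_entry hi special_spec.1 (zt := 0) (by norm_num) (by rw [eS_iT, T_mul_T, eS_zero]), htw, Bool.false_and,
        cond_false] at e
      have h := allLo_spec twist_ok hi
      simp only [e, Bool.or_eq_true, Bool.not_eq_true'] at h
      rcases h with h | h
      · exact h
      · simp at h
    obtain ⟨i1, hi1, p1, q1⟩ := hroot _ h1 hr1
    obtain ⟨i2, hi2, p2, q2⟩ := hroot _ h2 hr2
    -- the conjugated member is inner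
    set y := q * D.ψ (eS (cen dec 0)) * q⁻¹ with hy
    have hyS : y ∈ D.SG := hq2 _ (D.entry_mem h0)
    obtain ⟨i, hi, ei⟩ := D.mem_SG.1 hyS
    have hei : eS i = eS i1 * eS i2 := D.inj (by
      rw [← D.mul_untwisted htw, q1, q2, ei, hy, ← hprod, ← D.mul_untwisted htw]
      group)
    have hmem : eS i ∈ commutator H0 := by
      rw [hei]
      have hm : ∀ {j}, j < 2048 → parI j = false → eS j ∈ commutator H0 := fun {j} hj hp => by
        by_contra hn
        rw [(par_iff hj).1 hn] at hp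
        exact Bool.noConfusion hp
      exact mul_mem (hm hi1 p1) (hm hi2 p2)
    have hxy : IsConj x y := by
      refine hxu.trans (IsConj.trans ?_ (isConj_iff.2 ⟨q, rfl⟩))
      have := D.isConj_psi (wit_spec h0 hn0 hsq).2.2
      rw [hcls, hrep] at this
      exact this.symm
    have hy2 : D.ψ (eS i) * D.ψ (eS i) = 1 := by
      rw [ei, hy, show q * D.ψ (eS (cen dec 0)) * q⁻¹ * (q * D.ψ (eS (cen dec 0)) * q⁻¹) =
        q * (D.ψ (eS (cen dec 0)) * D.ψ (eS (cen dec 0))) * q⁻¹ by group,
        D.mul_untwisted htw, (sq_one_iff h0).2 hsq, D.psi_one, mul_one, mul_inv_cancel]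
    rw [D.sq_entry_one hi, htw, Bool.false_and, cond_false] at hy2
    have hi0 : i ≠ 0 := by
      rintro rfl
      rw [eS_zero, D.psi_one] at ei
      rw [← ei, isConj_one_left] at hxy
      rw [hxy, orderOf_one] at hx2
      omega
    obtain ⟨hr', hrl, hh⟩ := wit_spec hi hi0 hy2
    have hin : eS (Dat.reps.getD (clsI i) 0) ∈ commutator H0 := (par_conj hh).1 hmem
    have hxi := (ei ▸ hxy : IsConj x (D.ψ (eS i))).trans (D.isConj_psi hh)
    have h5 : clsI i = 0 ∨ clsI i = 1 ∨ clsI i = 2 ∨ clsI i = 3 ∨ clsI i = 4 := by omega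
    have hh' := cent_head
    simp only [Bool.and_eq_true] at hh'
    rcases h5 with h | h | h | h | h <;> rw [h] at hxi hin
    · rw [e0, eS_iT, D.map_sq] at hxi
      exact Or.inl hxi
    · rw [e1] at hxi
      exact Or.inl (hxi.trans hta.symm)
    · rw [e2] at hxi
      exact Or.inr hxi
    · obtain ⟨hkk, hp, -⟩ := head_spec hh'.1.1.1
      rw [e3] at hin
      exact absurd hin ((par_iff (hkk 1 (by norm_num))).2 hp)
    · obtain ⟨hkk, hp, -⟩ := head_spec hh'.1.1.2
      rw [e4] at hin
      exact absurd hin ((par_iff (hkk 1 (by norm_num))).2 hp)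
  have hh := cent_head
  simp only [Bool.and_eq_true] at hh
  rcases hr with rfl | rfl | ⟨-, rfl | rfl⟩
  · rw [e1] at hxr
    exact Or.inl (hxr.trans hta.symm)
  · rw [e2] at hxr
    exact Or.inr hxr
  · rw [e3] at hxr
    exact fromDec hh.1.1.1 hh.1.2 hxr
  · rw [e4] at hxr
    exact fromDec hh.1.1.2 hh.2 hxr

end Twisted

/-- **The local data.** -/
theorem exists_local {G : Type u} [Group G] [Finite G] [IsSimpleGroup G] (t : G) (ht : orderOf t = 2)
    (M : Subgroup (Subgroup.centralizer ({t} : Set G))) [M.Normal] (hM : M.index = 2)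
    (hout : Subgroup.centralizer (M : Set (Subgroup.centralizer ({t} : Set G))) ≤ M)
    (hcov : Cfsg.IsNonsplitDoubleCover M Cfsg.Spor.HS) :
    ∃ ψ : H0 →* G, Function.Injective ψ ∧ ψ.range = Subgroup.centralizer ({t} : Set G) ∧ ψ (hx ^ 2) = t ∧
      IsConj t (ψ elA) ∧ ¬IsConj t (ψ elAT) ∧
      ∀ x : G, orderOf x = 2 → x * t = t * x → IsConj x t ∨ IsConj x (ψ elAT) := by
  obtain ⟨D⟩ := exists_twisted t ht M hM hout hcov
  refine ⟨D.hom (D.twist_false ht), D.inj, ?_, D.map_sq, D.conj_A ht, D.not_conj_AT,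
    fun x h1 h2 => D.two_classes ht h1 h2⟩
  ext g
  exact ((D.range g).trans Iff.rfl).symm

end

end Cfsg.Agent.HNRecog
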