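import Cfsg.Agent.Lib.HNRecog.Local.TableDefs

/-! The words have the listed codes; squares; order. -/

set_option autoImplicit false
set_option maxRecDepth 100000
set_option maxHeartbeats 0

namespace Cfsg.Agent.HNRecog

open Cfsg.Agent.HN

theorem word_ok : allLo okWord 2048 = true := by decide +kernel

theorem sort_ok : allLo okSort 2048 = true := by decide +kernel

theorem sq_ok : allLo okSq 2048 = true := by decide +kernel

end Cfsg.Agent.HNRecog
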