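import Cfsg.Agent.Lib.HNMult.CoverHS
import Cfsg.Agent.Lib.HNOut.Induced
import Cfsg.Agent.Lib.MathieuOut.Congr
import Cfsg.Agent.S2072
import Cfsg.Prelude.Def_SporadicB
import Mathlib.Algebra.Group.Shrink
import Mathlib.Data.Countable.Small

/-!
A non-split double cover of HS is the commutator subgroup of the group of `x, y, z`; an automorphism of that
subgroup is conjugation in the group of `x, y, z`.
-/

set_option autoImplicit false
set_option maxRecDepth 100000
set_option linter.style.haveILetI false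

namespace Cfsg.Agent.HNRecog

open Cfsg.Agent.HN Cfsg.Agent.HNMult Cfsg.Agent.HNOut Cfsg.Agent.PermCert Cfsg.Agent.SporPerm
open scoped commutatorElement

noncomputable section

universe u

theorem finite_H0' : Finite H0 := Nat.finite_of_card_ne_zero (by rw [card_H0]; norm_num)

theorem commutator_hs : commutator ↥(genGroup 7 100 hsGens) = ⊤ := by
  obtain ⟨h1, -, -, h4⟩ := toHS_facts
  rw [commutator_def, ← Subgroup.map_top_of_surjective toHS h1, ← Subgroup.map_commutator, ← commutator_def, h4]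

theorem card_derived : Nat.card ↥(commutator H0) = 88704000 := by
  have h := Subgroup.card_mul_index (commutator H0)
  rw [index_derived.1, card_H0] at h
  omega

/-- Non-split double covers of HS are isomorphic to the commutator subgroup of the group of `x, y, z`. -/
theorem exists_iso_cover {M : Type u} [Group M] [Finite M] (h : Cfsg.IsNonsplitDoubleCover M Cfsg.Spor.HS) :
    Nonempty (↥(commutator H0) ≃* M) := by
  haveI := finite_H0'
  obtain ⟨hz2, ⟨q⟩, hns⟩ := h
  obtain ⟨i⟩ := hs_equiv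
  set S := genGroup 7 100 hsGens
  let π : M →* ↥S := (q.trans i).toMonoidHom.comp (QuotientGroup.mk' (Subgroup.center M))
  have hπ : Function.Surjective π := (q.trans i).surjective.comp (QuotientGroup.mk'_surjective _)
  have hπk : π.ker = Subgroup.center M := by
    ext a
    simp [π, MonoidHom.mem_ker]
  -- perfect
  have hmap : (commutator M).map π = ⊤ := by
    rw [commutator_def, Subgroup.map_commutator, Subgroup.map_top_of_surjective π hπ, ← commutator_def,
      commutator_hs]
  have hdec : ∀ a : M, ∃ c ∈ commutator M, c⁻¹ * a ∈ Subgroup.center M := fun a => by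
    obtain ⟨c, hc, e⟩ := hmap.ge (Subgroup.mem_top (π a))
    exact ⟨c, hc, by rw [← hπk, MonoidHom.mem_ker, map_mul, map_inv, e, inv_mul_cancel]⟩
  have hperf : commutator M = ⊤ := by
    by_cases hZ : Subgroup.center M ≤ commutator M
    · refine eq_top_iff.2 fun a _ => ?_
      obtain ⟨c, hc, hz⟩ := hdec a
      have := mul_mem hc (hZ hz)
      rwa [mul_inv_cancel_left] at this
    · exfalso
      obtain ⟨z, hzc, hzn⟩ := SetLike.not_le_iff_exists.1 hZ
      have hinf : Subgroup.center M ⊓ commutator M = ⊥ := by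
        rcases (Nat.dvd_prime Nat.prime_two).1 (hz2 ▸ Subgroup.card_dvd_of_le
          (inf_le_left : Subgroup.center M ⊓ commutator M ≤ Subgroup.center M)) with h | h
        · exact Subgroup.card_eq_one.1 h
        · exfalso
          have := Subgroup.eq_of_le_of_card_ge
            (inf_le_left : Subgroup.center M ⊓ commutator M ≤ Subgroup.center M) (by rw [h, hz2])
          exact hzn (this.ge hzc).2
      refine hns (commutator M) (Subgroup.isComplement'_of_disjoint_and_mul_eq_univ
        (disjoint_iff.2 hinf) (Set.eq_univ_iff_forall.2 fun a => ?_))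
      obtain ⟨c, hc, hz⟩ := hdec a
      refine ⟨c⁻¹ * a, hz, c, hc, ?_⟩
      show c⁻¹ * a * c = a
      rw [← Subgroup.mem_center_iff.1 hz c, mul_inv_cancel_left]
  -- the pull-back in the lowest universe
  haveI : Small.{0} M := inferInstance
  let e : Shrink.{0} M ≃* M := Shrink.mulEquiv
  haveI : Finite (Shrink.{0} M) := Finite.of_equiv M e.symm.toEquiv
  let P : Subgroup (↥(commutator H0) × Shrink.{0} M) :=
    (toHS.comp (MonoidHom.fst _ _)).eqLocus ((π.comp e.toMonoidHom).comp (MonoidHom.snd _ _))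
  have hP : ∀ z, z ∈ P ↔ toHS z.1 = π (e z.2) := fun _ => Iff.rfl
  let σ : ↥P →* ↥(commutator H0) := (MonoidHom.fst _ _).comp P.subtype
  have hσ : Function.Surjective σ := fun k => by
    obtain ⟨m, hm⟩ := hπ (toHS k)
    exact ⟨⟨(k, e.symm m), by rw [hP]; simp [hm]⟩, rfl⟩
  have hσc : σ.ker ≤ Subgroup.center ↥P := fun a ha => by
    have h1 : (a : ↥(commutator H0) × Shrink.{0} M).1 = 1 := ha
    have h2 : e (a : ↥(commutator H0) × Shrink.{0} M).2 ∈ Subgroup.center M := by
      rw [← hπk, MonoidHom.mem_ker, ← (hP a).1 a.2, h1, map_one]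
    refine Subgroup.mem_center_iff.2 fun b => Subtype.ext (Prod.ext ?_ ?_)
    · show (b : ↥(commutator H0) × Shrink.{0} M).1 * (a : ↥(commutator H0) × Shrink.{0} M).1 =
        (a : ↥(commutator H0) × Shrink.{0} M).1 * (b : ↥(commutator H0) × Shrink.{0} M).1
      rw [h1, mul_one, one_mul]
    · refine e.injective ?_
      show e ((b : ↥(commutator H0) × Shrink.{0} M).2 * (a : ↥(commutator H0) × Shrink.{0} M).2) =
        e ((a : ↥(commutator H0) × Shrink.{0} M).2 * (b : ↥(commutator H0) × Shrink.{0} M).2)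
      rw [map_mul, map_mul, Subgroup.mem_center_iff.1 h2]
  obtain ⟨ρ, hρ⟩ := exists_section_derived ↥P σ hσ hσc
  let η : ↥(commutator H0) →* M := e.toMonoidHom.comp ((MonoidHom.snd _ _).comp (P.subtype.comp ρ))
  have hη : ∀ k, π (η k) = toHS k := fun k => by
    show π (e (ρ k : ↥(commutator H0) × Shrink.{0} M).2) = _
    rw [← (hP _).1 (ρ k).2]
    exact congrArg toHS (DFunLike.congr_fun hρ k)
  have hsur : Function.Surjective η := by
    rw [← MonoidHom.range_eq_top, eq_top_iff, ← hperf, commutator_def, Subgroup.commutator_le]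
    intro a _ b _
    have hd : ∀ a : M, ∃ k, (η k)⁻¹ * a ∈ Subgroup.center M := fun a => by
      obtain ⟨k, hk⟩ := toHS_facts.1 (π a)
      exact ⟨k, by rw [← hπk, MonoidHom.mem_ker, map_mul, map_inv, hη, hk, inv_mul_cancel]⟩
    obtain ⟨k, hk⟩ := hd a
    obtain ⟨l, hl⟩ := hd b
    have key : ∀ (m n z w : M), z ∈ Subgroup.center M → w ∈ Subgroup.center M →
        ⁅m * z, n * w⁆ = ⁅m, n⁆ := fun m n z w hz hw => by
      have cz := Subgroup.mem_center_iff.1 hz
      have cw := Subgroup.mem_center_iff.1 hw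
      rw [commutatorElement_def, commutatorElement_def, mul_inv_rev, mul_inv_rev]
      calc m * z * (n * w) * (z⁻¹ * m⁻¹) * (w⁻¹ * n⁻¹)
          = m * (z * (n * w)) * z⁻¹ * m⁻¹ * (w⁻¹ * n⁻¹) := by group
        _ = m * n * (w * m⁻¹) * (w⁻¹ * n⁻¹) := by rw [← cz (n * w)]; group
        _ = m * n * m⁻¹ * n⁻¹ := by rw [← cw m⁻¹]; group
    have e1 := key (η k) (η l) _ _ hk hl
    rw [mul_inv_cancel_left, mul_inv_cancel_left] at e1
    rw [e1, ← map_commutatorElement]
    exact ⟨_, rfl⟩
  have hcard : Nat.card M = 88704000 := by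
    have h1 := Subgroup.card_eq_card_quotient_mul_card_subgroup π.ker
    rw [Nat.card_congr (QuotientGroup.quotientKerEquivOfSurjective π hπ).toEquiv, hπk, hz2, hs_facts.1] at h1
    rw [h1]
  exact ⟨MulEquiv.ofBijective η (hsur.bijective_of_nat_card_le (by rw [card_derived, hcard]))⟩

/-- An automorphism of the commutator subgroup fixing the square of `x` is conjugation in the group of `x, y, z`. -/
theorem exists_conj_aut (φ : MulAut ↥(commutator H0))
    (hfix : φ ⟨hx ^ 2, Subgroup.pow_mem _ gens_in_derived.1 2⟩ = ⟨hx ^ 2, Subgroup.pow_mem _ gens_in_derived.1 2⟩) :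
    ∃ h : H0, ∀ k : ↥(commutator H0), ((φ k : ↥(commutator H0)) : H0) = h * k * h⁻¹ := by
  haveI := finite_H0'
  obtain ⟨hs, hker, hcen, hperf⟩ := toHS_facts
  haveI := hs_facts.2
  set S := genGroup 7 100 hsGens
  have hout : Nat.card (Cfsg.Out ↥S) = 2 := by
    obtain ⟨i⟩ := hs_equiv
    exact (MathieuOut.card_out_congr i).symm.trans Cfsg.Agent.S2072.result
  have hidx : (Cfsg.Inn ↥S).index = 2 := by rw [Subgroup.index_eq_card]; exact hout
  have hle : toHS.ker ≤ (toHS.comp φ.toMonoidHom).ker := fun k hk => by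
    have h1 : rep100 (k : H0) = 1 := congrArg Subtype.val hk
    rw [MonoidHom.mem_ker, MonoidHom.comp_apply]
    show toHS (φ k) = 1
    rcases ker_cases k.2 h1 with h | h
    · rw [show k = 1 from Subtype.ext h, map_one, map_one]
    · rw [show k = ⟨hx ^ 2, Subgroup.pow_mem _ gens_in_derived.1 2⟩ from Subtype.ext h, hfix]
      exact Subtype.ext x_sq_trivial
  let ω0 := toHS.liftOfSurjective hs ⟨toHS.comp φ.toMonoidHom, hle⟩
  have hω : ∀ k, ω0 (toHS k) = toHS (φ k) := fun k =>
    toHS.liftOfRightInverse_comp_apply _ _ ⟨toHS.comp φ.toMonoidHom, hle⟩ k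
  have hsur : Function.Surjective ω0 := fun s => by
    obtain ⟨k, rfl⟩ := hs s
    exact ⟨toHS (φ.symm k), by rw [hω, MulEquiv.apply_symm_apply]⟩
  let ω : MulAut ↥S := MulEquiv.ofBijective ω0 ⟨Finite.injective_iff_surjective.2 hsur, hsur⟩
  obtain ⟨ζ, hζ⟩ := exists_induced (MulAut.conj hz).toMonoidHom (MulAut.conj hz).injective (by
    show hz * hx ^ 2 * hz⁻¹ = hx ^ 2
    rw [← hx_sq_comm_z.eq, mul_inv_cancel_right])
  have hinn : ∀ ρ : MulAut ↥S, ρ ∈ Cfsg.Inn ↥S →
      ∃ s : ↥(commutator H0), ∀ g : ↥S,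
        ((ρ g : ↥S) : Equiv.Perm (Fin 100)) = rep100 s * g * (rep100 s)⁻¹ := by
    rintro _ ⟨s, rfl⟩
    obtain ⟨k, rfl⟩ := hs s
    exact ⟨k, fun g => rfl⟩
  have hζo : ζ ∉ Cfsg.Inn ↥S := fun hmem => by
    obtain ⟨s, hs'⟩ := hinn ζ hmem
    obtain ⟨q, hqK, hq, -, -⟩ := exists_eleven
    have e := (hs' (toHS ⟨q, hqK⟩)).symm.trans (hζ ⟨q, hqK⟩)
    have hc : Commute (rep100 (hz⁻¹ * s)) X11 := by
      rw [← hq]
      have e' : rep100 s * rep100 q * (rep100 s)⁻¹ = rep100 hz * rep100 q * (rep100 hz)⁻¹ := by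
        refine e.trans ?_
        show rep100 (hz * q * hz⁻¹) = _
        rw [map_mul, map_mul, map_inv]
      rw [map_mul, map_inv]
      show (rep100 hz)⁻¹ * rep100 s * rep100 q = rep100 q * ((rep100 hz)⁻¹ * rep100 s)
      calc (rep100 hz)⁻¹ * rep100 s * rep100 q
          = (rep100 hz)⁻¹ * (rep100 s * rep100 q * (rep100 s)⁻¹) * rep100 s := by group
        _ = _ := by rw [e']; group
    have hmem' := (cent_eleven hc).1
    rw [Subgroup.mul_mem_cancel_right _ s.2, inv_mem_iff] at hmem'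
    exact z_not_hs (index_derived.2 hmem')
  have hh : ∃ h : H0, ∀ k : ↥(commutator H0), rep100 (φ k : H0) = rep100 (h * k * h⁻¹) := by
    by_cases hω' : ω ∈ Cfsg.Inn ↥S
    · obtain ⟨s, hs'⟩ := hinn ω hω'
      refine ⟨s, fun k => ?_⟩
      have e1 : ω (toHS k) = toHS (φ k) := hω k
      refine (congrArg Subtype.val e1).symm.trans ?_
      rw [hs', map_mul, map_mul, map_inv]
      rfl
    · have hprod : ω * ζ ∈ Cfsg.Inn ↥S := by
        rw [Subgroup.mul_mem_iff_of_index_two hidx]
        exact iff_of_false hω' hζo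
      obtain ⟨s, hs'⟩ := hinn _ hprod
      refine ⟨s * hz, fun k => ?_⟩
      have hk' : hz⁻¹ * (k : H0) * hz ∈ commutator H0 := by
        have := (inferInstance : (commutator H0).Normal).conj_mem _ k.2 hz⁻¹
        rwa [inv_inv] at this
      have h1 : ζ (toHS ⟨_, hk'⟩) = toHS k := Subtype.ext ((hζ ⟨_, hk'⟩).trans (congrArg rep100 (by
        show hz * (hz⁻¹ * (k : H0) * hz) * hz⁻¹ = k
        group)))
      have e1 : ω (toHS k) = toHS (φ k) := hω k
      refine (congrArg Subtype.val e1).symm.trans ?_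
      rw [← h1]
      refine (hs' (toHS ⟨_, hk'⟩)).trans ?_
      show rep100 (s : H0) * rep100 (hz⁻¹ * (k : H0) * hz) * (rep100 s)⁻¹ = _
      have e : hz⁻¹ * (k : H0) * hz = hz * k * hz⁻¹ := by rw [hz_inv]
      rw [e, show (s : H0) * hz * k * ((s : H0) * hz)⁻¹ = s * (hz * k * hz⁻¹) * (s : H0)⁻¹ by group]
      generalize hz * (k : H0) * hz⁻¹ = r
      rw [map_mul, map_mul, map_inv]
  obtain ⟨h, hh⟩ := hh
  refine ⟨h, ?_⟩
  let ψh : MulAut ↥(commutator H0) := MulAut.conjNormal h
  have hψ : ∀ k, ((ψh k : ↥(commutator H0)) : H0) = h * k * h⁻¹ := fun k => MulAut.conjNormal_apply h k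
  have hd : ∀ k, (ψh k)⁻¹ * φ k ∈ Subgroup.center ↥(commutator H0) := fun k => hcen (MonoidHom.mem_ker.2
    (Subtype.ext (by
      show rep100 ((((ψh k)⁻¹ * φ k : ↥(commutator H0))) : H0) = 1
      rw [Subgroup.coe_mul, Subgroup.coe_inv, map_mul, map_inv, hψ, hh, inv_mul_cancel])))
  let d : ↥(commutator H0) →* ↥(Subgroup.center ↥(commutator H0)) :=
    MonoidHom.mk' (fun k => ⟨_, hd k⟩) fun a b => Subtype.ext (by
      show (ψh (a * b))⁻¹ * φ (a * b) = (ψh a)⁻¹ * φ a * ((ψh b)⁻¹ * φ b)
      have := Subgroup.mem_center_iff.1 (hd a) (ψh b)⁻¹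
      rw [map_mul, map_mul, mul_inv_rev]
      calc (ψh b)⁻¹ * (ψh a)⁻¹ * (φ a * φ b) = (ψh b)⁻¹ * ((ψh a)⁻¹ * φ a) * φ b := by group
        _ = _ := by rw [this]; group)
  have hd1 : ∀ k, d k = 1 := fun k => by
    have hk : commutator ↥(commutator H0) ≤ d.ker := by
      refine (commutator_def ↥(commutator H0)).le.trans (Subgroup.commutator_le.2 ?_)
      intro x _ y _
      rw [MonoidHom.mem_ker, map_commutatorElement, commutatorElement_eq_one_iff_mul_comm]
      exact Subtype.ext (Subgroup.mem_center_iff.1 (d y).2 (d x : ↥(commutator H0)))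
    exact hk (hperf.ge (Subgroup.mem_top k))
  intro k
  have e : (ψh k)⁻¹ * φ k = 1 := congrArg Subtype.val (hd1 k)
  rw [inv_mul_eq_one] at e
  rw [← e, hψ]

end

end Cfsg.Agent.HNRecog
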