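import Cfsg.Agent.Lib.HN.Word

/-! Squares, tree, order and conjugators for the Sylow 2-subgroup. -/

set_option autoImplicit false
set_option maxRecDepth 100000
set_option maxHeartbeats 4000000
set_option Elab.async false

namespace Cfsg.Agent.HNRecog.Dat

noncomputable section

open Cfsg.Agent.HN

/-- part of squares -/
def sqT0 : Trie :=
  (.node (.node (.node (.node (.node (.node (.node (.leaf 0x0) (.leaf 0x11)) (.node (.leaf 0x2b3) (.leaf 0x78))) (.node (.node (.leaf 0x7c7) (.leaf 0x78)) (.node (.leaf 0x441) (.leaf 0x274)))) (.node (.node (.node (.leaf 0xcc) (.leaf 0x35c)) (.node (.leaf 0x0) (.leaf 0x36e))) (.node (.node (.leaf 0x783) (.leaf 0x302)) (.node (.leaf 0x350) (.leaf 0x350))))) (.node (.node (.node (.node (.leaf 0xb6) (.leaf 0x9)) (.node (.leaf 0x0) (.leaf 0x420))) (.node (.node (.leaf 0x9f) (.leaf 0x43d)) (.node (.leaf 0x3dd) (.leaf 0x27d)))) (.node (.node (.node (.leaf 0xbf) (.leaf 0x3ce)) (.node (.leaf 0x771)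 (.leaf 0x0))) (.node (.node (.leaf 0x7f5) (.leaf 0x374)) (.node (.leaf 0x784) (.leaf 0x7cf)))))) (.node (.node (.node (.node (.node (.leaf 0x9) (.leaf 0xcc)) (.node (.leaf 0x7d2) (.leaf 0x367))) (.node (.node (.leaf 0x3ee) (.leaf 0x7d8)) (.node (.leaf 0xb6) (.leaf 0x0)))) (.node (.node (.node (.leaf 0x771) (.leaf 0x2be)) (.node (.leaf 0x4c1) (.leaf 0x9f))) (.node (.node (.leaf 0x0) (.leaf 0x7c7)) (.node (.leaf 0xa2) (.leaf 0x771))))) (.node (.node (.node (.node (.leaf 0xcc) (.leaf 0x420)) (.node (.leaf 0x274) (.leaf 0x374))) (.node (.node (.leaf 0x420) (.leaf 0x373)) (.node (.leaf 0x84) (.leaf 0xcc)))) (.node (.node (.node (.leaf 0x420) (.leaf 0xcc)) (.node (.leaf 0x374) (.leaf 0x5c))) (.node (.node (.leaf 0x258) (.leaf 0x9f)) (.node (.leaf 0x41) (.leaf 0x3dd))))))) (.node (.node (.node (.node (.node (.node (.leaf 0xbf) (.leaf 0x3ce)) (.node (.leaf 0x0) (.leaf 0x350))) (.node (.node (.leaf 0x3d7) (.leaf 0x7a8)) (.node (.leaf 0x328)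 (.leaf 0x2d7)))) (.node (.node (.node (.leaf 0x35c) (.leaf 0x258)) (.node (.leaf 0x7c4) (.leaf 0xcc))) (.node (.node (.leaf 0x0) (.leaf 0xcc)) (.node (.leaf 0x7e7) (.leaf 0x302))))) (.node (.node (.node (.node (.leaf 0x441) (.leaf 0x11)) (.node (.leaf 0x36e) (.leaf 0x43e))) (.node (.node (.leaf 0x2b3) (.leaf 0x0)) (.node (.leaf 0xcc) (.leaf 0x60)))) (.node (.node (.node (.leaf 0xa2) (.leaf 0x771)) (.node (.leaf 0x2df) (.leaf 0x7a5))) (.node (.node (.leaf 0x302) (.leaf 0xcc)) (.node (.leaf 0x302) (.leaf 0x2be)))))) (.node (.node (.node (.node (.node (.leaf 0x0) (.leaf 0x3b5)) (.node (.leaf 0x3ad) (.leaf 0x0))) (.node (.node (.leaf 0xa2) (.leaf 0x306)) (.node (.leaf 0xcc) (.leaf 0xcc)))) (.node (.node (.node (.leaf 0x767) (.leaf 0xcc)) (.node (.leaf 0x7f7) (.leaf 0x7d2))) (.node (.node (.leaf 0x3ce) (.leaf 0x35c)) (.node (.leaf 0x3dd) (.leaf 0x0))))) (.node (.node (.node (.node (.leaf 0x78) (.leaf 0x2df)) (.node (.leaf 0x0) (.leaf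 0x0))) (.node (.node (.leaf 0x3ad) (.leaf 0x33b)) (.node (.leaf 0xbf) (.leaf 0x35c)))) (.node (.node (.node (.leaf 0x3ee) (.leaf 0x3e4)) (.node (.leaf 0x771) (.leaf 0x4da))) (.node (.node (.leaf 0x7a5) (.leaf 0x410)) (.node (.leaf 0x36e) (.leaf 0x0))))))))

/-- part of squares -/
def sqT8 : Trie :=
  (.node (.node (.node (.node (.node (.node (.node (.leaf 0x60) (.leaf 0x43e)) (.node (.leaf 0x7d8) (.leaf 0xcc))) (.node (.node (.leaf 0x325) (.leaf 0x0)) (.node (.leaf 0x8f) (.leaf 0x7c7)))) (.node (.node (.node (.leaf 0xcc) (.leaf 0x43e)) (.node (.leaf 0x25f) (.leaf 0xcc))) (.node (.node (.leaf 0x43d) (.leaf 0x3b5)) (.node (.leaf 0x3dd) (.leaf 0x9f))))) (.node (.node (.node (.node (.leaf 0x7cf) (.leaf 0x770)) (.node (.leaf 0x9) (.leaf 0x35d))) (.node (.node (.leaf 0x4da) (.leaf 0x9)) (.node (.leaf 0x35c) (.leaf 0x27d)))) (.node (.node (.node (.leaf 0x9f) (.leaf 0xcc)) (.node (.leaf 0x9) (.leaf 0x0))) (.node (.node (.leaf 0x420) (.leaf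 0x27d)) (.node (.leaf 0x60) (.leaf 0x3ce)))))) (.node (.node (.node (.node (.node (.leaf 0x2df) (.leaf 0x0)) (.node (.leaf 0x0) (.leaf 0xcc))) (.node (.node (.leaf 0x0) (.leaf 0x0)) (.node (.leaf 0x35c) (.leaf 0xcc)))) (.node (.node (.node (.leaf 0x11) (.leaf 0x381)) (.node (.leaf 0x2c7) (.leaf 0x274))) (.node (.node (.leaf 0x270) (.leaf 0xcc)) (.node (.leaf 0x420) (.leaf 0x771))))) (.node (.node (.node (.node (.leaf 0x2c7) (.leaf 0x3e4)) (.node (.leaf 0xcc) (.leaf 0x36e))) (.node (.node (.leaf 0x0) (.leaf 0x299)) (.node (.leaf 0x761) (.leaf 0x414)))) (.node (.node (.node (.leaf 0x325) (.leaf 0x36e)) (.node (.leaf 0x2c7) (.leaf 0x270))) (.node (.node (.leaf 0x374) (.leaf 0x35d)) (.node (.leaf 0xcc) (.leaf 0x302))))))) (.node (.node (.node (.node (.node (.node (.leaf 0x5c) (.leaf 0x35c)) (.node (.leaf 0x0) (.leaf 0x43d))) (.node (.node (.leaf 0x374) (.leaf 0x270)) (.node (.leaf 0x5c) (.leaf 0x483)))) (.node (.node (.node (.leaf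 0x2f2) (.leaf 0x91)) (.node (.leaf 0x78) (.leaf 0x2df))) (.node (.node (.leaf 0x33b) (.leaf 0x302)) (.node (.leaf 0x35c) (.leaf 0x2c7))))) (.node (.node (.node (.node (.leaf 0x441) (.leaf 0x7f3)) (.node (.leaf 0x0) (.leaf 0x43d))) (.node (.node (.leaf 0x0) (.leaf 0xa2)) (.node (.leaf 0x2be) (.leaf 0x469)))) (.node (.node (.node (.leaf 0xcc) (.leaf 0x0)) (.node (.leaf 0x771) (.leaf 0x11))) (.node (.node (.leaf 0x35c) (.leaf 0x60)) (.node (.leaf 0x350) (.leaf 0x771)))))) (.node (.node (.node (.node (.node (.leaf 0x4da) (.leaf 0x469)) (.node (.leaf 0x7c7) (.leaf 0xbf))) (.node (.node (.leaf 0x7a8) (.leaf 0x325)) (.node (.leaf 0x0) (.leaf 0x258)))) (.node (.node (.node (.leaf 0x7b3) (.leaf 0xa2)) (.node (.leaf 0x469) (.leaf 0x0))) (.node (.node (.leaf 0x0) (.leaf 0x367)) (.node (.leaf 0x78f) (.leaf 0x78f))))) (.node (.node (.node (.node (.leaf 0x0) (.leaf 0xa2)) (.node (.leaf 0x771) (.leaf 0x258))) (.node (.node (.leaf 0x414) (.leaf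 0x436)) (.node (.leaf 0x784) (.leaf 0x771)))) (.node (.node (.node (.leaf 0x2d7) (.leaf 0x420)) (.node (.leaf 0x771) (.leaf 0x274))) (.node (.node (.leaf 0x7b6) (.leaf 0x270)) (.node (.leaf 0x41) (.leaf 0x43e))))))))

/-- part of squares -/
def sqT4 : Trie :=
  (.node (.node (.node (.node (.node (.node (.node (.leaf 0x11) (.leaf 0x761)) (.node (.leaf 0x274) (.leaf 0x374))) (.node (.node (.leaf 0x7a5) (.leaf 0x78)) (.node (.leaf 0x7c4) (.leaf 0xa2)))) (.node (.node (.node (.leaf 0x3ce) (.leaf 0x3b5)) (.node (.leaf 0x25f) (.leaf 0x0))) (.node (.node (.leaf 0x7f5) (.leaf 0x0)) (.node (.leaf 0x0) (.leaf 0x35c))))) (.node (.node (.node (.node (.leaf 0x381) (.leaf 0x55)) (.node (.leaf 0xcc) (.leaf 0x0))) (.node (.node (.leaf 0x7cc) (.leaf 0x5c)) (.node (.leaf 0x761) (.leaf 0x0)))) (.node (.node (.node (.leaf 0x60) (.leaf 0x2f2)) (.node (.leaf 0x0) (.leaf 0x7c7))) (.node (.node (.leaf 0x3ad) (.leaf 0x374)) (.node (.leaf 0x7e7) (.leaf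 0x35c)))))) (.node (.node (.node (.node (.node (.leaf 0x410) (.leaf 0x374)) (.node (.leaf 0x0) (.leaf 0xcc))) (.node (.node (.leaf 0x0) (.leaf 0x414)) (.node (.leaf 0x350) (.leaf 0xcc)))) (.node (.node (.node (.leaf 0x84) (.leaf 0x3dd)) (.node (.leaf 0x3ce) (.leaf 0x9f))) (.node (.node (.leaf 0x374) (.leaf 0x0)) (.node (.leaf 0x55) (.leaf 0x7f3))))) (.node (.node (.node (.node (.leaf 0x274) (.leaf 0x374)) (.node (.leaf 0x33e) (.leaf 0x306))) (.node (.node (.leaf 0x9f) (.leaf 0xa2)) (.node (.leaf 0xa2) (.leaf 0x7f7)))) (.node (.node (.node (.leaf 0x302) (.leaf 0x33e)) (.node (.leaf 0x2b3) (.leaf 0x43e))) (.node (.node (.leaf 0x7f5) (.leaf 0x5c)) (.node (.leaf 0x0) (.leaf 0x274))))))) (.node (.node (.node (.node (.node (.node (.leaf 0x9f) (.leaf 0x0)) (.node (.leaf 0x7c7) (.leaf 0x27d))) (.node (.node (.leaf 0x9) (.leaf 0x0)) (.node (.leaf 0x35c) (.leaf 0x7c7)))) (.node (.node (.node (.leaf 0x771) (.leaf 0x7de)) (.node (.leaf 0x0)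 (.leaf 0x3a2))) (.node (.node (.leaf 0xcc) (.leaf 0x299)) (.node (.leaf 0x3dd) (.leaf 0xcc))))) (.node (.node (.node (.node (.leaf 0x350) (.leaf 0x306)) (.node (.leaf 0x2b3) (.leaf 0x410))) (.node (.node (.leaf 0x302) (.leaf 0x7f5)) (.node (.leaf 0x386) (.leaf 0x43d)))) (.node (.node (.node (.leaf 0x306) (.leaf 0x3dd)) (.node (.leaf 0x302) (.leaf 0x0))) (.node (.node (.leaf 0xbf) (.leaf 0x270)) (.node (.leaf 0xcc) (.leaf 0x0)))))) (.node (.node (.node (.node (.node (.leaf 0x0) (.leaf 0x4c1)) (.node (.leaf 0x3b5) (.leaf 0xa2))) (.node (.node (.leaf 0x9f) (.leaf 0x0)) (.node (.leaf 0x771) (.leaf 0x0)))) (.node (.node (.node (.leaf 0x3b5) (.leaf 0x11)) (.node (.leaf 0x3f2) (.leaf 0x8f))) (.node (.node (.leaf 0x7a5) (.leaf 0x0)) (.node (.leaf 0x25f) (.leaf 0x27d))))) (.node (.node (.node (.node (.leaf 0x35c) (.leaf 0x0)) (.node (.leaf 0x0) (.leaf 0x0))) (.node (.node (.leaf 0x35c) (.leaf 0x36e)) (.node (.leaf 0x0) (.leaf 0x84))))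 (.node (.node (.node (.leaf 0x91) (.leaf 0x771)) (.node (.leaf 0x350) (.leaf 0x302))) (.node (.node (.leaf 0x410) (.leaf 0x43d)) (.node (.leaf 0x60) (.leaf 0x469))))))))

/-- part of squares -/
def sqT12 : Trie :=
  (.node (.node (.node (.node (.node (.node (.node (.leaf 0x91) (.leaf 0x0)) (.node (.leaf 0x3e) (.leaf 0x7d2))) (.node (.node (.leaf 0x374) (.leaf 0x7b3)) (.node (.leaf 0x386) (.leaf 0x7a5)))) (.node (.node (.node (.leaf 0x2c7) (.leaf 0x2c7)) (.node (.leaf 0x33e) (.leaf 0x0))) (.node (.node (.leaf 0xcc) (.leaf 0x0)) (.node (.leaf 0xb6) (.leaf 0x386))))) (.node (.node (.node (.node (.leaf 0x374) (.leaf 0x33e)) (.node (.leaf 0x3d7) (.leaf 0x0))) (.node (.node (.leaf 0x373) (.leaf 0x2b3)) (.node (.leaf 0x258) (.leaf 0x3dd)))) (.node (.node (.node (.leaf 0x0) (.leaf 0xbf)) (.node (.leaf 0x7f3) (.leaf 0xa2))) (.node (.node (.leaf 0x0) (.leaf 0x3b5)) (.node (.leaf 0x770) (.leaf 0x771)))))) (.node (.node (.node (.node (.node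 (.leaf 0x410) (.leaf 0xcc)) (.node (.leaf 0x0) (.leaf 0x483))) (.node (.node (.leaf 0x374) (.leaf 0x0)) (.node (.leaf 0x3dd) (.leaf 0x0)))) (.node (.node (.node (.leaf 0x7de) (.leaf 0x771)) (.node (.leaf 0x3e) (.leaf 0x0))) (.node (.node (.leaf 0x7c7) (.leaf 0x258)) (.node (.leaf 0x2be) (.leaf 0x302))))) (.node (.node (.node (.node (.leaf 0x4c1) (.leaf 0x25f)) (.node (.leaf 0x771) (.leaf 0x31e))) (.node (.node (.leaf 0x0) (.leaf 0x35d)) (.node (.leaf 0x3dd) (.leaf 0x2b5)))) (.node (.node (.node (.leaf 0x7a5) (.leaf 0x3dd)) (.node (.leaf 0x306) (.leaf 0x2f0))) (.node (.node (.leaf 0x35c) (.leaf 0x0)) (.node (.leaf 0x27d) (.leaf 0x84))))))) (.node (.node (.node (.node (.node (.node (.leaf 0x374) (.leaf 0x7cf)) (.node (.leaf 0x3ad) (.leaf 0x0))) (.node (.node (.leaf 0x35d) (.leaf 0x7c7)) (.node (.leaf 0x771) (.leaf 0xcc)))) (.node (.node (.node (.leaf 0x33e) (.leaf 0x36e)) (.node (.leaf 0x0) (.leaf 0x11))) (.node (.node (.leaf 0x0)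 (.leaf 0x3ad)) (.node (.leaf 0x258) (.leaf 0x2df))))) (.node (.node (.node (.node (.leaf 0xcc) (.leaf 0x328)) (.node (.leaf 0x7e7) (.leaf 0x374))) (.node (.node (.leaf 0x0) (.leaf 0x7d2)) (.node (.leaf 0x0) (.leaf 0x386)))) (.node (.node (.node (.leaf 0x0) (.leaf 0x3dd)) (.node (.leaf 0x35c) (.leaf 0x33b))) (.node (.node (.leaf 0x367) (.leaf 0x0)) (.node (.leaf 0x9f) (.leaf 0x3ce)))))) (.node (.node (.node (.node (.node (.leaf 0x0) (.leaf 0x274)) (.node (.leaf 0x91) (.leaf 0xcc))) (.node (.node (.leaf 0x11) (.leaf 0x0)) (.node (.leaf 0x3f2) (.leaf 0x0)))) (.node (.node (.node (.leaf 0x258) (.leaf 0x3ce)) (.node (.leaf 0x2c7) (.leaf 0x306))) (.node (.node (.leaf 0x302) (.leaf 0x3ad)) (.node (.leaf 0x25f) (.leaf 0xcc))))) (.node (.node (.node (.node (.leaf 0x469) (.leaf 0x0)) (.node (.leaf 0xcc) (.leaf 0x3dd))) (.node (.node (.leaf 0x2df) (.leaf 0x2f0)) (.node (.leaf 0x11) (.leaf 0x0)))) (.node (.node (.node (.leaf 0x274) (.leaf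 0x55)) (.node (.leaf 0x3dd) (.leaf 0x35c))) (.node (.node (.leaf 0x41) (.leaf 0x35d)) (.node (.leaf 0x381) (.leaf 0x0))))))))

/-- part of squares -/
def sqT2 : Trie :=
  (.node (.node (.node (.node (.node (.node (.node (.leaf 0x9) (.leaf 0x302)) (.node (.leaf 0x274) (.leaf 0x33b))) (.node (.node (.leaf 0x3e) (.leaf 0x9)) (.node (.leaf 0xcc) (.leaf 0x0)))) (.node (.node (.node (.leaf 0xb6) (.leaf 0x0)) (.node (.leaf 0x7b3) (.leaf 0x43e))) (.node (.node (.leaf 0x0) (.leaf 0x0)) (.node (.leaf 0x7b3) (.leaf 0x84))))) (.node (.node (.node (.node (.leaf 0x420) (.leaf 0x3e)) (.node (.leaf 0x0) (.leaf 0x3ee))) (.node (.node (.leaf 0x306) (.leaf 0x0)) (.node (.leaf 0x3dd) (.leaf 0x0)))) (.node (.node (.node (.leaf 0x771) (.leaf 0x0)) (.node (.leaf 0x7f3) (.leaf 0x7cc))) (.node (.node (.leaf 0x7eb) (.leaf 0x274)) (.node (.leaf 0x771) (.leaf 0x78f)))))) (.node (.node (.node (.node (.node (.leaf 0x3ad) (.leaf 0x771)) (.node (.leaf 0x0) (.leaf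 0x258))) (.node (.node (.leaf 0x3e4) (.leaf 0x0)) (.node (.leaf 0x350) (.leaf 0x0)))) (.node (.node (.node (.leaf 0xcc) (.leaf 0x771)) (.node (.leaf 0x306) (.leaf 0x9f))) (.node (.node (.leaf 0x483) (.leaf 0x33b)) (.node (.leaf 0x771) (.leaf 0x771))))) (.node (.node (.node (.node (.leaf 0x274) (.leaf 0x302)) (.node (.leaf 0x441) (.leaf 0x258))) (.node (.node (.leaf 0x3ce) (.leaf 0x3a2)) (.node (.leaf 0x3e) (.leaf 0x5c)))) (.node (.node (.node (.leaf 0x3ce) (.leaf 0xcc)) (.node (.leaf 0x2be) (.leaf 0x31e))) (.node (.node (.leaf 0x0) (.leaf 0x78)) (.node (.leaf 0x414) (.leaf 0x771))))))) (.node (.node (.node (.node (.node (.node (.leaf 0x41) (.leaf 0x3ce)) (.node (.leaf 0x3dd) (.leaf 0x60))) (.node (.node (.leaf 0x270) (.leaf 0x0)) (.node (.leaf 0x771) (.leaf 0x35c)))) (.node (.node (.node (.leaf 0x84) (.leaf 0x767)) (.node (.leaf 0x0) (.leaf 0x374))) (.node (.node (.leaf 0x2d7) (.leaf 0x0)) (.node (.leaf 0x7c4) (.leaf 0x84)))))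 (.node (.node (.node (.node (.leaf 0x771) (.leaf 0x25f)) (.node (.leaf 0x0) (.leaf 0x0))) (.node (.node (.leaf 0x0) (.leaf 0x0)) (.node (.leaf 0x11) (.leaf 0x0)))) (.node (.node (.node (.leaf 0x4da) (.leaf 0x35c)) (.node (.leaf 0xb6) (.leaf 0xcc))) (.node (.node (.leaf 0x43d) (.leaf 0x3f2)) (.node (.leaf 0x770) (.leaf 0x3dd)))))) (.node (.node (.node (.node (.node (.leaf 0x2f0) (.leaf 0x0)) (.node (.leaf 0x0) (.leaf 0x3e))) (.node (.node (.leaf 0xbf) (.leaf 0x5c)) (.node (.leaf 0x771) (.leaf 0x0)))) (.node (.node (.node (.leaf 0xcc) (.leaf 0x27d)) (.node (.leaf 0xbf) (.leaf 0x3ce))) (.node (.node (.leaf 0x373) (.leaf 0x374)) (.node (.leaf 0x761) (.leaf 0x75b))))) (.node (.node (.node (.node (.leaf 0x75b) (.leaf 0x469)) (.node (.leaf 0x7b3) (.leaf 0x367))) (.node (.node (.leaf 0x0) (.leaf 0x3ad)) (.node (.leaf 0x761) (.leaf 0xbf)))) (.node (.node (.node (.leaf 0x7eb) (.leaf 0x374)) (.node (.leaf 0x35c) (.leaf 0x420))) (.node (.node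 (.leaf 0x7f5) (.leaf 0x7d2)) (.node (.leaf 0x0) (.leaf 0x441))))))))

/-- part of squares -/
def sqT10 : Trie :=
  (.node (.node (.node (.node (.node (.node (.node (.leaf 0x78) (.leaf 0x0)) (.node (.leaf 0x3d7) (.leaf 0x26c))) (.node (.node (.leaf 0x0) (.leaf 0x414)) (.node (.leaf 0xa2) (.leaf 0x0)))) (.node (.node (.node (.leaf 0x274) (.leaf 0x3dd)) (.node (.leaf 0x770) (.leaf 0x7d2))) (.node (.node (.leaf 0xcc) (.leaf 0x7c7)) (.node (.leaf 0x0) (.leaf 0xbf))))) (.node (.node (.node (.node (.leaf 0x3e) (.leaf 0x35c)) (.node (.leaf 0x7a5) (.leaf 0x0))) (.node (.node (.leaf 0x0) (.leaf 0x3ce)) (.node (.leaf 0x328) (.leaf 0x3ce)))) (.node (.node (.node (.leaf 0x7b3) (.leaf 0xcc)) (.node (.leaf 0xcc) (.leaf 0x436))) (.node (.node (.leaf 0x299) (.leaf 0x373)) (.node (.leaf 0x0) (.leaf 0x2c7)))))) (.node (.node (.node (.node (.node (.leaf 0xcc) (.leaf 0x7f3)) (.node (.leaf 0x0) (.leaf 0x0))) (.node (.node (.leaf 0x0) (.leaf 0x0)) (.node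 (.leaf 0x7b3) (.leaf 0x5c)))) (.node (.node (.node (.leaf 0xcc) (.leaf 0x27d)) (.node (.leaf 0x771) (.leaf 0x0))) (.node (.node (.leaf 0x0) (.leaf 0x3f2)) (.node (.leaf 0xcc) (.leaf 0x469))))) (.node (.node (.node (.node (.leaf 0x60) (.leaf 0x771)) (.node (.leaf 0x84) (.leaf 0x3e4))) (.node (.node (.leaf 0x7d2) (.leaf 0x0)) (.node (.leaf 0xcc) (.leaf 0x8f)))) (.node (.node (.node (.leaf 0xbf) (.leaf 0x25f)) (.node (.leaf 0x8f) (.leaf 0x436))) (.node (.node (.leaf 0x11) (.leaf 0x367)) (.node (.leaf 0x11) (.leaf 0x5c))))))) (.node (.node (.node (.node (.node (.node (.leaf 0x31e) (.leaf 0x350)) (.node (.leaf 0x7b6) (.leaf 0x274))) (.node (.node (.leaf 0x5c) (.leaf 0x78)) (.node (.leaf 0x2be) (.leaf 0x0)))) (.node (.node (.node (.leaf 0x2c7) (.leaf 0x3ce)) (.node (.leaf 0x35c) (.leaf 0x36e))) (.node (.node (.leaf 0x0) (.leaf 0x0)) (.node (.leaf 0x3e4) (.leaf 0x771))))) (.node (.node (.node (.node (.leaf 0x441) (.leaf 0x469)) (.node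 (.leaf 0x2df) (.leaf 0x274))) (.node (.node (.leaf 0x0) (.leaf 0x7f5)) (.node (.leaf 0x7b3) (.leaf 0x469)))) (.node (.node (.node (.leaf 0x41) (.leaf 0x3dd)) (.node (.leaf 0x25f) (.leaf 0x0))) (.node (.node (.leaf 0x3d7) (.leaf 0x0)) (.node (.leaf 0x2b3) (.leaf 0x0)))))) (.node (.node (.node (.node (.node (.leaf 0x35c) (.leaf 0xb6)) (.node (.leaf 0x7d2) (.leaf 0x374))) (.node (.node (.leaf 0x41) (.leaf 0xcc)) (.node (.leaf 0x386) (.leaf 0x35d)))) (.node (.node (.node (.leaf 0x35c) (.leaf 0x0)) (.node (.leaf 0x33e) (.leaf 0xbf))) (.node (.node (.leaf 0x7a8) (.leaf 0x436)) (.node (.leaf 0x25f) (.leaf 0x306))))) (.node (.node (.node (.node (.leaf 0x5c) (.leaf 0x0)) (.node (.leaf 0x84) (.leaf 0x3dd))) (.node (.node (.leaf 0x0) (.leaf 0x91)) (.node (.leaf 0x3e) (.leaf 0x771)))) (.node (.node (.node (.leaf 0xcc) (.leaf 0xcc)) (.node (.leaf 0x0) (.leaf 0x483))) (.node (.node (.leaf 0x783) (.leaf 0x60)) (.node (.leaf 0x0) (.leaf 0x0))))))))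

/-- part of squares -/
def sqT6 : Trie :=
  (.node (.node (.node (.node (.node (.node (.node (.leaf 0x0) (.leaf 0x2c7)) (.node (.leaf 0x0) (.leaf 0x4da))) (.node (.node (.leaf 0x374) (.leaf 0x91)) (.node (.leaf 0xcc) (.leaf 0x27d)))) (.node (.node (.node (.leaf 0x299) (.leaf 0x771)) (.node (.leaf 0x0) (.leaf 0x35c))) (.node (.node (.leaf 0x373) (.leaf 0x7eb)) (.node (.leaf 0x0) (.leaf 0x2b3))))) (.node (.node (.node (.node (.leaf 0x11) (.leaf 0x60)) (.node (.leaf 0x420) (.leaf 0x0))) (.node (.node (.leaf 0x0) (.leaf 0x274)) (.node (.leaf 0x33e) (.leaf 0x0)))) (.node (.node (.node (.leaf 0x2be) (.leaf 0x78f)) (.node (.leaf 0x11) (.leaf 0x3e))) (.node (.node (.leaf 0xcc) (.leaf 0x43e)) (.node (.leaf 0x5c) (.leaf 0x3b5)))))) (.node (.node (.node (.node (.node (.leaf 0x35d) (.leaf 0xcc)) (.node (.leaf 0x0) (.leaf 0x274))) (.node (.node (.leaf 0x4da) (.leaf 0x3dd)) (.node (.leaf 0x469) (.leaf 0x3ce)))) (.node (.node (.node (.leaf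 0x11) (.leaf 0x0)) (.node (.leaf 0x3b5) (.leaf 0xbf))) (.node (.node (.leaf 0x0) (.leaf 0x483)) (.node (.leaf 0x0) (.leaf 0xb6))))) (.node (.node (.node (.node (.leaf 0x33e) (.leaf 0x441)) (.node (.leaf 0x7f3) (.leaf 0x306))) (.node (.node (.leaf 0x0) (.leaf 0x410)) (.node (.leaf 0x350) (.leaf 0x771)))) (.node (.node (.node (.leaf 0x7b6) (.leaf 0x3ce)) (.node (.leaf 0x258) (.leaf 0x35c))) (.node (.node (.leaf 0x483) (.leaf 0x299)) (.node (.leaf 0x35c) (.leaf 0x75b))))))) (.node (.node (.node (.node (.node (.node (.leaf 0xbf) (.leaf 0x771)) (.node (.leaf 0x35c) (.leaf 0x410))) (.node (.node (.leaf 0x274) (.leaf 0x0)) (.node (.leaf 0x60) (.leaf 0x0)))) (.node (.node (.node (.leaf 0x2d7) (.leaf 0x2be)) (.node (.leaf 0x420) (.leaf 0x0))) (.node (.node (.leaf 0x5c) (.leaf 0x91)) (.node (.leaf 0x770) (.leaf 0x7b3))))) (.node (.node (.node (.node (.leaf 0x33e) (.leaf 0x350)) (.node (.leaf 0x7c4) (.leaf 0x374))) (.node (.node (.leaf 0x3dd)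 (.leaf 0x3e)) (.node (.leaf 0x60) (.leaf 0x60)))) (.node (.node (.node (.leaf 0x91) (.leaf 0x767)) (.node (.leaf 0x8f) (.leaf 0x274))) (.node (.node (.leaf 0x274) (.leaf 0x274)) (.node (.leaf 0x302) (.leaf 0x374)))))) (.node (.node (.node (.node (.node (.leaf 0x4da) (.leaf 0x771)) (.node (.leaf 0x374) (.leaf 0x2b3))) (.node (.node (.leaf 0x306) (.leaf 0x35d)) (.node (.leaf 0x328) (.leaf 0x35c)))) (.node (.node (.node (.leaf 0x3dd) (.leaf 0x3ce)) (.node (.leaf 0x258) (.leaf 0x5c))) (.node (.node (.leaf 0x9f) (.leaf 0x3ee)) (.node (.leaf 0x767) (.leaf 0x771))))) (.node (.node (.node (.node (.leaf 0x374) (.leaf 0x11)) (.node (.leaf 0x761) (.leaf 0x60))) (.node (.node (.leaf 0x11) (.leaf 0x31e)) (.node (.leaf 0x0) (.leaf 0x306)))) (.node (.node (.node (.leaf 0xbf) (.leaf 0x7b3)) (.node (.leaf 0x35c) (.leaf 0xa2))) (.node (.node (.leaf 0x3ad) (.leaf 0x2f0)) (.node (.leaf 0x2b3) (.leaf 0x374))))))))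

/-- part of squares -/
def sqT14 : Trie :=
  (.node (.node (.node (.node (.node (.node (.node (.leaf 0x55) (.leaf 0x441)) (.node (.leaf 0x3ce) (.leaf 0x3a2))) (.node (.node (.leaf 0x9f) (.leaf 0x0)) (.node (.leaf 0x5c) (.leaf 0x3f2)))) (.node (.node (.node (.leaf 0x78) (.leaf 0x3e4)) (.node (.leaf 0x3ce) (.leaf 0x35c))) (.node (.node (.leaf 0x4da) (.leaf 0x0)) (.node (.leaf 0xbf) (.leaf 0x350))))) (.node (.node (.node (.node (.leaf 0x11) (.leaf 0xb6)) (.node (.leaf 0x0) (.leaf 0xcc))) (.node (.node (.leaf 0x3b5) (.leaf 0x0)) (.node (.leaf 0xcc) (.leaf 0x35c)))) (.node (.node (.node (.leaf 0x2d7) (.leaf 0x3b5)) (.node (.leaf 0xa2) (.leaf 0x7a5))) (.node (.node (.leaf 0x4da) (.leaf 0x483)) (.node (.leaf 0x0) (.leaf 0x0)))))) (.node (.node (.node (.node (.node (.leaf 0x483) (.leaf 0x441)) (.node (.leaf 0x783) (.leaf 0xcc))) (.node (.node (.leaf 0x2df) (.leaf 0x7cc)) (.node (.leaf 0x5c) (.leaf 0x0)))) (.node (.node (.node (.leaf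 0x2c7) (.leaf 0x43e)) (.node (.leaf 0x3ce) (.leaf 0x2d7))) (.node (.node (.leaf 0x350) (.leaf 0x4da)) (.node (.leaf 0x3dd) (.leaf 0x771))))) (.node (.node (.node (.node (.leaf 0x91) (.leaf 0x771)) (.node (.leaf 0x91) (.leaf 0xcc))) (.node (.node (.leaf 0x7f5) (.leaf 0x0)) (.node (.leaf 0x0) (.leaf 0x75b)))) (.node (.node (.node (.leaf 0x373) (.leaf 0xcc)) (.node (.leaf 0x91) (.leaf 0x35c))) (.node (.node (.leaf 0x302) (.leaf 0x0)) (.node (.leaf 0x771) (.leaf 0x0))))))) (.node (.node (.node (.node (.node (.node (.leaf 0x0) (.leaf 0x441)) (.node (.leaf 0x0) (.leaf 0x0))) (.node (.node (.leaf 0x7eb) (.leaf 0x0)) (.node (.leaf 0x771) (.leaf 0x35c)))) (.node (.node (.node (.leaf 0x33e) (.leaf 0x36e)) (.node (.leaf 0x25f) (.leaf 0x11))) (.node (.node (.leaf 0x60) (.leaf 0x43d)) (.node (.leaf 0x2be) (.leaf 0x2df))))) (.node (.node (.node (.node (.leaf 0x771) (.leaf 0x306)) (.node (.leaf 0xbf) (.leaf 0x35d))) (.node (.node (.leaf 0x7b6)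 (.leaf 0x0)) (.node (.leaf 0x3ce) (.leaf 0x78f)))) (.node (.node (.node (.leaf 0x783) (.leaf 0x0)) (.node (.leaf 0x770) (.leaf 0xbf))) (.node (.node (.leaf 0x0) (.leaf 0x0)) (.node (.leaf 0x761) (.leaf 0x35c)))))) (.node (.node (.node (.node (.node (.leaf 0xcc) (.leaf 0x0)) (.node (.leaf 0x2b3) (.leaf 0xcc))) (.node (.node (.leaf 0x0) (.leaf 0x420)) (.node (.leaf 0x3dd) (.leaf 0x35c)))) (.node (.node (.node (.leaf 0x299) (.leaf 0x328)) (.node (.leaf 0x3ce) (.leaf 0x374))) (.node (.node (.leaf 0x7b6) (.leaf 0x483)) (.node (.leaf 0x0) (.leaf 0x274))))) (.node (.node (.node (.node (.leaf 0x7f7) (.leaf 0x771)) (.node (.leaf 0x2df) (.leaf 0x414))) (.node (.node (.leaf 0x350) (.leaf 0x0)) (.node (.leaf 0x3dd) (.leaf 0x306)))) (.node (.node (.node (.leaf 0x274) (.leaf 0x7f7)) (.node (.leaf 0x386) (.leaf 0x2f0))) (.node (.node (.leaf 0x410) (.leaf 0x7a5)) (.node (.leaf 0x306) (.leaf 0xb6))))))))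

/-- part of squares -/
def sqT1 : Trie :=
  (.node (.node (.node (.node (.node (.node (.node (.leaf 0x0) (.leaf 0x386)) (.node (.leaf 0xbf) (.leaf 0x2b3))) (.node (.node (.leaf 0x3a2) (.leaf 0xcc)) (.node (.leaf 0xcc) (.leaf 0x3e)))) (.node (.node (.node (.leaf 0x784) (.leaf 0x771)) (.node (.leaf 0x25f) (.leaf 0x414))) (.node (.node (.leaf 0x9f) (.leaf 0x60)) (.node (.leaf 0x35c) (.leaf 0x55))))) (.node (.node (.node (.node (.leaf 0x0) (.leaf 0x0)) (.node (.leaf 0x7a8) (.leaf 0x60))) (.node (.node (.leaf 0x7d8) (.leaf 0x274)) (.node (.leaf 0x75b) (.leaf 0x7c7)))) (.node (.node (.node (.leaf 0x3e) (.leaf 0x35c)) (.node (.leaf 0x4c1) (.leaf 0xbf))) (.node (.node (.leaf 0x3ad) (.leaf 0x0)) (.node (.leaf 0x33e) (.leaf 0x441)))))) (.node (.node (.node (.node (.node (.leaf 0xcc) (.leaf 0x3f2)) (.node (.leaf 0x274) (.leaf 0x3a2))) (.node (.node (.leaf 0xcc) (.leaf 0x3ce)) (.node (.leaf 0x27d) (.leaf 0x483)))) (.node (.node (.node (.leaf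 0x2d7) (.leaf 0x767)) (.node (.leaf 0x771) (.leaf 0x43e))) (.node (.node (.leaf 0x483) (.leaf 0x7f5)) (.node (.leaf 0x0) (.leaf 0x771))))) (.node (.node (.node (.node (.leaf 0x3e) (.leaf 0x2be)) (.node (.leaf 0x299) (.leaf 0x3ce))) (.node (.node (.leaf 0x26c) (.leaf 0x0)) (.node (.leaf 0x11) (.leaf 0x3dd)))) (.node (.node (.node (.leaf 0x367) (.leaf 0x0)) (.node (.leaf 0x4c1) (.leaf 0x33b))) (.node (.node (.leaf 0x0) (.leaf 0x3dd)) (.node (.leaf 0x469) (.leaf 0x0))))))) (.node (.node (.node (.node (.node (.node (.leaf 0xcc) (.leaf 0x771)) (.node (.leaf 0x783) (.leaf 0x8f))) (.node (.node (.leaf 0x420) (.leaf 0x5c)) (.node (.leaf 0x7b3) (.leaf 0x7a5)))) (.node (.node (.node (.leaf 0x0) (.leaf 0x7e7)) (.node (.leaf 0x5c) (.leaf 0x0))) (.node (.node (.leaf 0x35d) (.leaf 0x302)) (.node (.leaf 0x3ce) (.leaf 0x784))))) (.node (.node (.node (.node (.leaf 0x2f2) (.leaf 0x3ce)) (.node (.leaf 0x7d2) (.leaf 0x306))) (.node (.node (.leaf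 0x3d7) (.leaf 0x7d2)) (.node (.leaf 0x9f) (.leaf 0x414)))) (.node (.node (.node (.leaf 0x0) (.leaf 0x7b3)) (.node (.leaf 0x9f) (.leaf 0x0))) (.node (.node (.leaf 0x299) (.leaf 0x7b6)) (.node (.leaf 0x2d7) (.leaf 0x3e4)))))) (.node (.node (.node (.node (.node (.leaf 0x2b3) (.leaf 0x771)) (.node (.leaf 0x3f2) (.leaf 0xa2))) (.node (.node (.leaf 0x91) (.leaf 0x374)) (.node (.leaf 0x420) (.leaf 0x0)))) (.node (.node (.node (.leaf 0x35c) (.leaf 0x7e7)) (.node (.leaf 0x33e) (.leaf 0x3e))) (.node (.node (.leaf 0xcc) (.leaf 0x0)) (.node (.leaf 0x25f) (.leaf 0x5c))))) (.node (.node (.node (.node (.leaf 0x35c) (.leaf 0x2b3)) (.node (.leaf 0x9) (.leaf 0x0))) (.node (.node (.leaf 0xcc) (.leaf 0x350)) (.node (.leaf 0x7c4) (.leaf 0x0)))) (.node (.node (.node (.leaf 0x374) (.leaf 0x7b3)) (.node (.leaf 0x36e) (.leaf 0x0))) (.node (.node (.leaf 0x7a8) (.leaf 0x374)) (.node (.leaf 0x299) (.leaf 0x0))))))))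

/-- part of squares -/
def sqT9 : Trie :=
  (.node (.node (.node (.node (.node (.node (.node (.leaf 0x0) (.leaf 0x78f)) (.node (.leaf 0x2b3) (.leaf 0x374))) (.node (.node (.leaf 0x0) (.leaf 0x2f2)) (.node (.leaf 0x2b3) (.leaf 0x373)))) (.node (.node (.node (.leaf 0x41) (.leaf 0x35c)) (.node (.leaf 0x306) (.leaf 0x2df))) (.node (.node (.leaf 0x373) (.leaf 0x35d)) (.node (.leaf 0x9f) (.leaf 0x7f7))))) (.node (.node (.node (.node (.leaf 0xa2) (.leaf 0x35c)) (.node (.leaf 0x299) (.leaf 0x420))) (.node (.node (.leaf 0x7d8) (.leaf 0x7f5)) (.node (.leaf 0x75b) (.leaf 0x4da)))) (.node (.node (.node (.leaf 0x7de) (.leaf 0x0)) (.node (.leaf 0x7b3) (.leaf 0x31e))) (.node (.node (.leaf 0x43d) (.leaf 0x43d)) (.node (.leaf 0x420) (.leaf 0x414)))))) (.node (.node (.node (.node (.node (.leaf 0x350) (.leaf 0x306)) (.node (.leaf 0x7f5) (.leaf 0x7eb))) (.node (.node (.leaf 0x0) (.leaf 0x7d8)) (.node (.leaf 0x350) (.leaf 0x3dd)))) (.node (.node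 (.node (.leaf 0x771) (.leaf 0x84)) (.node (.leaf 0x75b) (.leaf 0x306))) (.node (.node (.leaf 0x0) (.leaf 0xa2)) (.node (.leaf 0x25f) (.leaf 0x771))))) (.node (.node (.node (.node (.leaf 0x60) (.leaf 0x3ce)) (.node (.leaf 0x7de) (.leaf 0x0))) (.node (.node (.leaf 0x306) (.leaf 0x2d7)) (.node (.leaf 0x386) (.leaf 0x27d)))) (.node (.node (.node (.leaf 0x3e) (.leaf 0x420)) (.node (.leaf 0x771) (.leaf 0x2b3))) (.node (.node (.leaf 0x41) (.leaf 0x325)) (.node (.leaf 0x770) (.leaf 0x0))))))) (.node (.node (.node (.node (.node (.node (.leaf 0x0) (.leaf 0x767)) (.node (.leaf 0x3ad) (.leaf 0x306))) (.node (.node (.leaf 0x306) (.leaf 0x7a5)) (.node (.leaf 0x771) (.leaf 0x306)))) (.node (.node (.node (.leaf 0x374) (.leaf 0x7c4)) (.node (.leaf 0x0) (.leaf 0x0))) (.node (.node (.leaf 0x374) (.leaf 0x7eb)) (.node (.leaf 0x771) (.leaf 0x2c7))))) (.node (.node (.node (.node (.leaf 0xcc) (.leaf 0x274)) (.node (.leaf 0x767) (.leaf 0x43d))) (.node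 (.node (.leaf 0x2d7) (.leaf 0x0)) (.node (.leaf 0x9f) (.leaf 0x386)))) (.node (.node (.node (.leaf 0x373) (.leaf 0x36e)) (.node (.leaf 0x299) (.leaf 0x2b3))) (.node (.node (.leaf 0x7a8) (.leaf 0x367)) (.node (.leaf 0x299) (.leaf 0x3e4)))))) (.node (.node (.node (.node (.node (.leaf 0x0) (.leaf 0x35c)) (.node (.leaf 0x41) (.leaf 0x5c))) (.node (.node (.leaf 0x0) (.leaf 0x3a2)) (.node (.leaf 0x0) (.leaf 0x3a2)))) (.node (.node (.node (.leaf 0x2c7) (.leaf 0xa2)) (.node (.leaf 0x771) (.leaf 0x410))) (.node (.node (.leaf 0x4da) (.leaf 0x3e)) (.node (.leaf 0x0) (.leaf 0x420))))) (.node (.node (.node (.node (.leaf 0x771) (.leaf 0x7de)) (.node (.leaf 0x328) (.leaf 0xcc))) (.node (.node (.leaf 0x410) (.leaf 0x302)) (.node (.leaf 0xa2) (.leaf 0x306)))) (.node (.node (.node (.leaf 0x4da) (.leaf 0x761)) (.node (.leaf 0x7cf) (.leaf 0x0))) (.node (.node (.leaf 0x3dd) (.leaf 0x0)) (.node (.leaf 0x35c) (.leaf 0x767))))))))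

/-- part of squares -/
def sqT5 : Trie :=
  (.node (.node (.node (.node (.node (.node (.node (.leaf 0x3e) (.leaf 0xcc)) (.node (.leaf 0x36e) (.leaf 0x3b5))) (.node (.node (.leaf 0x306) (.leaf 0x771)) (.node (.leaf 0x2d7) (.leaf 0x274)))) (.node (.node (.node (.leaf 0x35c) (.leaf 0x761)) (.node (.leaf 0x420) (.leaf 0x325))) (.node (.node (.leaf 0x8f) (.leaf 0x302)) (.node (.leaf 0x386) (.leaf 0xbf))))) (.node (.node (.node (.node (.leaf 0x374) (.leaf 0x60)) (.node (.leaf 0x7a5) (.leaf 0x27d))) (.node (.node (.leaf 0x3dd) (.leaf 0x5c)) (.node (.leaf 0x386) (.leaf 0x0)))) (.node (.node (.node (.leaf 0x41) (.leaf 0x11)) (.node (.leaf 0x3e) (.leaf 0x373))) (.node (.node (.leaf 0x274) (.leaf 0xa2)) (.node (.leaf 0x5c) (.leaf 0x36e)))))) (.node (.node (.node (.node (.node (.leaf 0x420) (.leaf 0x7e7)) (.node (.leaf 0x43e) (.leaf 0x0))) (.node (.node (.leaf 0x0) (.leaf 0x7f5)) (.node (.leaf 0x771) (.leaf 0x27d)))) (.node (.node (.node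 (.leaf 0x4c1) (.leaf 0x0)) (.node (.leaf 0x767) (.leaf 0x26c))) (.node (.node (.leaf 0x3f2) (.leaf 0x3ce)) (.node (.leaf 0x2b5) (.leaf 0x3ce))))) (.node (.node (.node (.node (.leaf 0x2c7) (.leaf 0xcc)) (.node (.leaf 0x9) (.leaf 0x410))) (.node (.node (.leaf 0x3e) (.leaf 0x410)) (.node (.leaf 0x386) (.leaf 0x78f)))) (.node (.node (.node (.leaf 0x274) (.leaf 0x35c)) (.node (.leaf 0x9f) (.leaf 0x2f0))) (.node (.node (.leaf 0x0) (.leaf 0x41)) (.node (.leaf 0x41) (.leaf 0x258))))))) (.node (.node (.node (.node (.node (.node (.leaf 0x2b3) (.leaf 0x25f)) (.node (.leaf 0xcc) (.leaf 0x5c))) (.node (.node (.leaf 0x7c7) (.leaf 0x0)) (.node (.leaf 0x9) (.leaf 0x0)))) (.node (.node (.node (.leaf 0x469) (.leaf 0x3dd)) (.node (.leaf 0xcc) (.leaf 0x9f))) (.node (.node (.leaf 0x7a5) (.leaf 0x3ad)) (.node (.leaf 0x25f) (.leaf 0x9f))))) (.node (.node (.node (.node (.leaf 0x35c) (.leaf 0x784)) (.node (.leaf 0x274) (.leaf 0x306))) (.node (.node (.leaf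 0x2df) (.leaf 0x0)) (.node (.leaf 0x3dd) (.leaf 0x0)))) (.node (.node (.node (.leaf 0x483) (.leaf 0x9f)) (.node (.leaf 0x33e) (.leaf 0x7a5))) (.node (.node (.leaf 0x3e) (.leaf 0x3f2)) (.node (.leaf 0x2f2) (.leaf 0x3f2)))))) (.node (.node (.node (.node (.node (.leaf 0x373) (.leaf 0x0)) (.node (.leaf 0x7d2) (.leaf 0x0))) (.node (.node (.leaf 0x3d7) (.leaf 0x7d2)) (.node (.leaf 0x5c) (.leaf 0x35c)))) (.node (.node (.node (.leaf 0xcc) (.leaf 0x7e7)) (.node (.leaf 0x35c) (.leaf 0xa2))) (.node (.node (.leaf 0x0) (.leaf 0x7d2)) (.node (.leaf 0x0) (.leaf 0x306))))) (.node (.node (.node (.node (.leaf 0xcc) (.leaf 0x2b5)) (.node (.leaf 0x78) (.leaf 0x436))) (.node (.node (.leaf 0x2b3) (.leaf 0xa2)) (.node (.leaf 0x761) (.leaf 0x2f2)))) (.node (.node (.node (.leaf 0x3ce) (.leaf 0x9)) (.node (.leaf 0xb6) (.leaf 0x350))) (.node (.node (.leaf 0x43e) (.leaf 0x373)) (.node (.leaf 0x7cf) (.leaf 0x3dd))))))))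

/-- part of squares -/
def sqT13 : Trie :=
  (.node (.node (.node (.node (.node (.node (.node (.leaf 0x9f) (.leaf 0x5c)) (.node (.leaf 0x7a8) (.leaf 0xcc))) (.node (.node (.leaf 0x0) (.leaf 0x43e)) (.node (.leaf 0x7c4) (.leaf 0x0)))) (.node (.node (.node (.leaf 0x374) (.leaf 0x771)) (.node (.leaf 0x35c) (.leaf 0x270))) (.node (.node (.leaf 0x367) (.leaf 0x414)) (.node (.leaf 0x3b5) (.leaf 0xcc))))) (.node (.node (.node (.node (.leaf 0x2b3) (.leaf 0x420)) (.node (.leaf 0x0) (.leaf 0x43d))) (.node (.node (.leaf 0x483) (.leaf 0x3dd)) (.node (.leaf 0x0) (.leaf 0x374)))) (.node (.node (.node (.leaf 0x374) (.leaf 0x767)) (.node (.leaf 0x3ce) (.leaf 0x7a5))) (.node (.node (.leaf 0x26c) (.leaf 0x7cc)) (.node (.leaf 0x2b3) (.leaf 0x43e)))))) (.node (.node (.node (.node (.node (.leaf 0x31e) (.leaf 0x302)) (.node (.leaf 0x302) (.leaf 0x3a2))) (.node (.node (.leaf 0x7a8) (.leaf 0xcc)) (.node (.leaf 0xcc) (.leaf 0x374)))) (.node (.node (.node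 (.leaf 0x7c4) (.leaf 0xa2)) (.node (.leaf 0x9) (.leaf 0xcc))) (.node (.node (.leaf 0x3dd) (.leaf 0x410)) (.node (.leaf 0x0) (.leaf 0x2f2))))) (.node (.node (.node (.node (.leaf 0x2b3) (.leaf 0x43e)) (.node (.leaf 0x302) (.leaf 0x60))) (.node (.node (.leaf 0x8f) (.leaf 0x91)) (.node (.leaf 0x55) (.leaf 0x5c)))) (.node (.node (.node (.leaf 0x3b5) (.leaf 0x4c1)) (.node (.leaf 0x771) (.leaf 0x0))) (.node (.node (.leaf 0x3d7) (.leaf 0x78)) (.node (.leaf 0x0) (.leaf 0x771))))))) (.node (.node (.node (.node (.node (.node (.leaf 0x302) (.leaf 0x441)) (.node (.leaf 0xcc) (.leaf 0x420))) (.node (.node (.leaf 0x60) (.leaf 0x11)) (.node (.leaf 0x414) (.leaf 0xcc)))) (.node (.node (.node (.leaf 0x3f2) (.leaf 0x761)) (.node (.leaf 0x420) (.leaf 0x78))) (.node (.node (.leaf 0x420) (.leaf 0x7eb)) (.node (.leaf 0x761) (.leaf 0x299))))) (.node (.node (.node (.node (.leaf 0x3e) (.leaf 0x771)) (.node (.leaf 0x761) (.leaf 0x60))) (.node (.node (.leaf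 0x302) (.leaf 0x299)) (.node (.leaf 0x0) (.leaf 0x2b3)))) (.node (.node (.node (.leaf 0x350) (.leaf 0x414)) (.node (.leaf 0x306) (.leaf 0x91))) (.node (.node (.leaf 0x373) (.leaf 0x35c)) (.node (.leaf 0x0) (.leaf 0x771)))))) (.node (.node (.node (.node (.node (.leaf 0xa2) (.leaf 0x3ce)) (.node (.leaf 0x3ce) (.leaf 0x0))) (.node (.node (.leaf 0x8f) (.leaf 0x0)) (.node (.leaf 0x469) (.leaf 0x270)))) (.node (.node (.node (.leaf 0x274) (.leaf 0x767)) (.node (.leaf 0x274) (.leaf 0x26c))) (.node (.node (.leaf 0x274) (.leaf 0x483)) (.node (.leaf 0x60) (.leaf 0x5c))))) (.node (.node (.node (.node (.leaf 0x41) (.leaf 0x2be)) (.node (.leaf 0x0) (.leaf 0x0))) (.node (.node (.leaf 0xcc) (.leaf 0x0)) (.node (.leaf 0x2b5) (.leaf 0x0)))) (.node (.node (.node (.leaf 0x783) (.leaf 0x3e)) (.node (.leaf 0xcc) (.leaf 0x0))) (.node (.node (.leaf 0x9f) (.leaf 0x26c)) (.node (.leaf 0x35c) (.leaf 0xa2))))))))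

/-- part of squares -/
def sqT3 : Trie :=
  (.node (.node (.node (.node (.node (.node (.node (.leaf 0x0) (.leaf 0x7b3)) (.node (.leaf 0x0) (.leaf 0x4da))) (.node (.node (.leaf 0x9f) (.leaf 0x60)) (.node (.leaf 0x2b3) (.leaf 0x31e)))) (.node (.node (.node (.leaf 0x771) (.leaf 0x3dd)) (.node (.leaf 0x2f2) (.leaf 0x0))) (.node (.node (.leaf 0x9) (.leaf 0x60)) (.node (.leaf 0x4c1) (.leaf 0x771))))) (.node (.node (.node (.node (.leaf 0x374) (.leaf 0x7f7)) (.node (.leaf 0x3dd) (.leaf 0x35c))) (.node (.node (.leaf 0x0) (.leaf 0x374)) (.node (.leaf 0x386) (.leaf 0x2b3)))) (.node (.node (.node (.leaf 0x7de) (.leaf 0x0)) (.node (.leaf 0x274) (.leaf 0x11))) (.node (.node (.leaf 0x43d) (.leaf 0x3e4)) (.node (.leaf 0x3ce) (.leaf 0xb6)))))) (.node (.node (.node (.node (.node (.leaf 0xcc) (.leaf 0xcc)) (.node (.leaf 0x60) (.leaf 0x3dd))) (.node (.node (.leaf 0x0) (.leaf 0x373)) (.node (.leaf 0x84) (.leaf 0x274)))) (.node (.node (.node (.leaf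 0x9f) (.leaf 0xcc)) (.node (.leaf 0x784) (.leaf 0x41))) (.node (.node (.leaf 0x0) (.leaf 0x0)) (.node (.leaf 0x3ce) (.leaf 0x2c7))))) (.node (.node (.node (.node (.leaf 0x7e7) (.leaf 0x441)) (.node (.leaf 0x350) (.leaf 0x274))) (.node (.node (.leaf 0x0) (.leaf 0x35c)) (.node (.leaf 0x2b3) (.leaf 0x8f)))) (.node (.node (.node (.leaf 0xcc) (.leaf 0x414)) (.node (.leaf 0xa2) (.leaf 0x7f5))) (.node (.node (.leaf 0x3e4) (.leaf 0x11)) (.node (.leaf 0x469) (.leaf 0x7cf))))))) (.node (.node (.node (.node (.node (.node (.leaf 0x274) (.leaf 0x3ce)) (.node (.leaf 0x3e4) (.leaf 0x270))) (.node (.node (.leaf 0x7c7) (.leaf 0x3dd)) (.node (.leaf 0x3dd) (.leaf 0x35c)))) (.node (.node (.node (.leaf 0x5c) (.leaf 0xa2)) (.node (.leaf 0x5c) (.leaf 0x0))) (.node (.node (.leaf 0x350) (.leaf 0x325)) (.node (.leaf 0x420) (.leaf 0x9f))))) (.node (.node (.node (.node (.leaf 0x2be) (.leaf 0x771)) (.node (.leaf 0x11) (.leaf 0x7cc))) (.node (.node (.leaf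 0x7cc) (.leaf 0x5c)) (.node (.leaf 0x2b3) (.leaf 0x27d)))) (.node (.node (.node (.leaf 0x0) (.leaf 0x7f3)) (.node (.leaf 0x441) (.leaf 0x3f2))) (.node (.node (.leaf 0x26c) (.leaf 0x0)) (.node (.leaf 0x386) (.leaf 0x2b5)))))) (.node (.node (.node (.node (.node (.leaf 0x35c) (.leaf 0x771)) (.node (.leaf 0x0) (.leaf 0x7a5))) (.node (.node (.leaf 0x2b3) (.leaf 0x9)) (.node (.leaf 0x770) (.leaf 0x374)))) (.node (.node (.node (.leaf 0x771) (.leaf 0xbf)) (.node (.leaf 0xcc) (.leaf 0x7f5))) (.node (.node (.leaf 0xcc) (.leaf 0x35c)) (.node (.leaf 0x55) (.leaf 0x3dd))))) (.node (.node (.node (.node (.leaf 0x84) (.leaf 0x784)) (.node (.leaf 0x3e) (.leaf 0x270))) (.node (.node (.leaf 0x325) (.leaf 0x7d2)) (.node (.leaf 0x0) (.leaf 0x350)))) (.node (.node (.node (.leaf 0xbf) (.leaf 0x27d)) (.node (.leaf 0x302) (.leaf 0x350))) (.node (.node (.leaf 0x11) (.leaf 0x3ee)) (.node (.leaf 0x35c) (.leaf 0x35c))))))))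

/-- part of squares -/
def sqT11 : Trie :=
  (.node (.node (.node (.node (.node (.node (.node (.leaf 0x84) (.leaf 0x374)) (.node (.leaf 0x0) (.leaf 0x78))) (.node (.node (.leaf 0x0) (.leaf 0xcc)) (.node (.leaf 0x302) (.leaf 0x0)))) (.node (.node (.node (.leaf 0x420) (.leaf 0x761)) (.node (.leaf 0x3ce) (.leaf 0x35d))) (.node (.node (.leaf 0x60) (.leaf 0x7cc)) (.node (.leaf 0x771) (.leaf 0xbf))))) (.node (.node (.node (.node (.leaf 0x2df) (.leaf 0x2b5)) (.node (.leaf 0x7f5) (.leaf 0x35d))) (.node (.node (.leaf 0x350) (.leaf 0xbf)) (.node (.leaf 0x0) (.leaf 0x3e)))) (.node (.node (.node (.leaf 0xbf) (.leaf 0x3f2)) (.node (.leaf 0x3ce) (.leaf 0x2b3))) (.node (.node (.leaf 0x436) (.leaf 0x483)) (.node (.leaf 0x0) (.leaf 0x33e)))))) (.node (.node (.node (.node (.node (.leaf 0x8f) (.leaf 0x441)) (.node (.leaf 0x7d2) (.leaf 0x0))) (.node (.node (.leaf 0xbf) (.leaf 0x3ee)) (.node (.leaf 0x35c) (.leaf 0x274)))) (.node (.node (.node (.leaf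 0x374) (.leaf 0x381)) (.node (.leaf 0x328) (.leaf 0x36e))) (.node (.node (.leaf 0x2d7) (.leaf 0x374)) (.node (.leaf 0x41) (.leaf 0x771))))) (.node (.node (.node (.node (.leaf 0x374) (.leaf 0x420)) (.node (.leaf 0x350) (.leaf 0x0))) (.node (.node (.leaf 0x2df) (.leaf 0x0)) (.node (.leaf 0x386) (.leaf 0x302)))) (.node (.node (.node (.leaf 0x11) (.leaf 0x381)) (.node (.leaf 0x2b3) (.leaf 0x35c))) (.node (.node (.leaf 0x9f) (.leaf 0x11)) (.node (.leaf 0xbf) (.leaf 0x771))))))) (.node (.node (.node (.node (.node (.node (.leaf 0x35c) (.leaf 0xb6)) (.node (.leaf 0x7c7) (.leaf 0x5c))) (.node (.node (.leaf 0x4da) (.leaf 0x0)) (.node (.leaf 0x8f) (.leaf 0x35c)))) (.node (.node (.node (.leaf 0x35c) (.leaf 0x761)) (.node (.leaf 0x2df) (.leaf 0x9))) (.node (.node (.leaf 0x35c) (.leaf 0x7f5)) (.node (.leaf 0x3dd) (.leaf 0x84))))) (.node (.node (.node (.node (.leaf 0x274) (.leaf 0x381)) (.node (.leaf 0x9f) (.leaf 0x3e4))) (.node (.node (.leaf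 0x350) (.leaf 0x0)) (.node (.leaf 0xbf) (.leaf 0x35c)))) (.node (.node (.node (.leaf 0x302) (.leaf 0x35c)) (.node (.leaf 0x381) (.leaf 0x3ce))) (.node (.node (.leaf 0x0) (.leaf 0x374)) (.node (.leaf 0x2d7) (.leaf 0x33e)))))) (.node (.node (.node (.node (.node (.leaf 0x2df) (.leaf 0x3ce)) (.node (.leaf 0x0) (.leaf 0x0))) (.node (.node (.leaf 0x0) (.leaf 0x3dd)) (.node (.leaf 0x771) (.leaf 0x0)))) (.node (.node (.node (.leaf 0xb6) (.leaf 0xcc)) (.node (.leaf 0x2c7) (.leaf 0x5c))) (.node (.node (.leaf 0x0) (.leaf 0x0)) (.node (.leaf 0x7b3) (.leaf 0xcc))))) (.node (.node (.node (.node (.leaf 0x35c) (.leaf 0x2b5)) (.node (.leaf 0x771) (.leaf 0x325))) (.node (.node (.leaf 0x3ce) (.leaf 0x350)) (.node (.leaf 0x0) (.leaf 0x3e4)))) (.node (.node (.node (.leaf 0x350) (.leaf 0x3e)) (.node (.leaf 0x3f2) (.leaf 0x270))) (.node (.node (.leaf 0x9f) (.leaf 0x3ad)) (.node (.leaf 0x25f) (.leaf 0x3dd))))))))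

/-- part of squares -/
def sqT7 : Trie :=
  (.node (.node (.node (.node (.node (.node (.node (.leaf 0x55) (.leaf 0x274)) (.node (.leaf 0x0) (.leaf 0x0))) (.node (.node (.leaf 0x483) (.leaf 0x36e)) (.node (.leaf 0x9f) (.leaf 0x414)))) (.node (.node (.node (.leaf 0x60) (.leaf 0xcc)) (.node (.leaf 0x60) (.leaf 0x0))) (.node (.node (.leaf 0x3ee) (.leaf 0x0)) (.node (.leaf 0x3e) (.leaf 0x8f))))) (.node (.node (.node (.node (.leaf 0x2be) (.leaf 0x41)) (.node (.leaf 0x7c7) (.leaf 0x35d))) (.node (.node (.leaf 0xbf) (.leaf 0x0)) (.node (.leaf 0x8f) (.leaf 0x414)))) (.node (.node (.node (.leaf 0x2d7) (.leaf 0x3dd)) (.node (.leaf 0x0) (.leaf 0x3ce))) (.node (.node (.leaf 0x373) (.leaf 0x11)) (.node (.leaf 0x0) (.leaf 0x3ce)))))) (.node (.node (.node (.node (.node (.leaf 0x43d) (.leaf 0x2b5)) (.node (.leaf 0x270) (.leaf 0x3e4))) (.node (.node (.leaf 0x7eb) (.leaf 0x78)) (.node (.leaf 0x302) (.leaf 0x420)))) (.node (.node (.node (.leaf 0x3e)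 (.leaf 0x7cf)) (.node (.leaf 0x35c) (.leaf 0xcc))) (.node (.node (.leaf 0x270) (.leaf 0x0)) (.node (.leaf 0x0) (.leaf 0x9f))))) (.node (.node (.node (.node (.leaf 0x7de) (.leaf 0x771)) (.node (.leaf 0x441) (.leaf 0x0))) (.node (.node (.leaf 0x7f5) (.leaf 0x0)) (.node (.leaf 0x771) (.leaf 0x3ce)))) (.node (.node (.node (.leaf 0x7c7) (.leaf 0x3dd)) (.node (.leaf 0x771) (.leaf 0x33b))) (.node (.node (.leaf 0x3b5) (.leaf 0x302)) (.node (.leaf 0xb6) (.leaf 0x35c))))))) (.node (.node (.node (.node (.node (.node (.leaf 0x2f0) (.leaf 0x306)) (.node (.leaf 0x78) (.leaf 0x374))) (.node (.node (.leaf 0x36e) (.leaf 0x3ad)) (.node (.leaf 0x78) (.leaf 0x3ad)))) (.node (.node (.node (.leaf 0xa2) (.leaf 0x767)) (.node (.leaf 0x3ce) (.leaf 0xcc))) (.node (.node (.leaf 0x0) (.leaf 0x350)) (.node (.leaf 0x2be) (.leaf 0xcc))))) (.node (.node (.node (.node (.leaf 0x75b) (.leaf 0x84)) (.node (.leaf 0x60) (.leaf 0x420))) (.node (.node (.leaf 0x350)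 (.leaf 0x8f)) (.node (.leaf 0xcc) (.leaf 0x420)))) (.node (.node (.node (.leaf 0x8f) (.leaf 0xcc)) (.node (.leaf 0x0) (.leaf 0x436))) (.node (.node (.leaf 0xcc) (.leaf 0xcc)) (.node (.leaf 0x771) (.leaf 0x3dd)))))) (.node (.node (.node (.node (.node (.leaf 0x3e4) (.leaf 0x3e4)) (.node (.leaf 0x7d8) (.leaf 0x3e))) (.node (.node (.leaf 0x0) (.leaf 0x420)) (.node (.leaf 0x3b5) (.leaf 0x0)))) (.node (.node (.node (.leaf 0x3f2) (.leaf 0x2be)) (.node (.leaf 0x84) (.leaf 0x35c))) (.node (.node (.leaf 0x7d8) (.leaf 0x43d)) (.node (.leaf 0x2b3) (.leaf 0x0))))) (.node (.node (.node (.node (.leaf 0x91) (.leaf 0x3ce)) (.node (.leaf 0x91) (.leaf 0x35c))) (.node (.node (.leaf 0x410) (.leaf 0x274)) (.node (.leaf 0x328) (.leaf 0x306)))) (.node (.node (.node (.leaf 0x0) (.leaf 0x43e)) (.node (.leaf 0x7f3) (.leaf 0x0))) (.node (.node (.leaf 0x0) (.leaf 0x420)) (.node (.leaf 0x2d7) (.leaf 0x35c))))))))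

/-- part of squares -/
def sqT15 : Trie :=
  (.node (.node (.node (.node (.node (.node (.node (.leaf 0xb6) (.leaf 0x33e)) (.node (.leaf 0x7d8) (.leaf 0x270))) (.node (.node (.leaf 0x35c) (.leaf 0x3e)) (.node (.leaf 0xcc) (.leaf 0x306)))) (.node (.node (.node (.leaf 0x0) (.leaf 0xcc)) (.node (.leaf 0x2be) (.leaf 0x3f2))) (.node (.node (.leaf 0x270) (.leaf 0x0)) (.node (.leaf 0x11) (.leaf 0x35c))))) (.node (.node (.node (.node (.leaf 0x302) (.leaf 0x258)) (.node (.leaf 0x7d2) (.leaf 0x7cc))) (.node (.node (.leaf 0xa2) (.leaf 0x11)) (.node (.leaf 0x386) (.leaf 0xcc)))) (.node (.node (.node (.leaf 0x0) (.leaf 0x35c)) (.node (.leaf 0x274) (.leaf 0x26c))) (.node (.node (.leaf 0x0) (.leaf 0x0)) (.node (.leaf 0xbf) (.leaf 0x35c)))))) (.node (.node (.node (.node (.node (.leaf 0xa2) (.leaf 0x274)) (.node (.leaf 0x373) (.leaf 0x3b5))) (.node (.node (.leaf 0x0) (.leaf 0x410)) (.node (.leaf 0x374) (.leaf 0x274)))) (.node (.node (.node (.leaf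 0x381) (.leaf 0x302)) (.node (.leaf 0xa2) (.leaf 0x60))) (.node (.node (.leaf 0x0) (.leaf 0x0)) (.node (.leaf 0x7f7) (.leaf 0x0))))) (.node (.node (.node (.node (.leaf 0x761) (.leaf 0x784)) (.node (.leaf 0x3e) (.leaf 0x783))) (.node (.node (.leaf 0x43d) (.leaf 0x33b)) (.node (.leaf 0x767) (.leaf 0x469)))) (.node (.node (.node (.leaf 0x0) (.leaf 0x0)) (.node (.leaf 0x767) (.leaf 0x4da))) (.node (.node (.leaf 0x299) (.leaf 0x0)) (.node (.leaf 0x414) (.leaf 0x771))))))) (.node (.node (.node (.node (.node (.node (.leaf 0x274) (.leaf 0x771)) (.node (.leaf 0x258) (.leaf 0x35c))) (.node (.node (.leaf 0x35c) (.leaf 0x3e)) (.node (.leaf 0xcc) (.leaf 0x374)))) (.node (.node (.node (.leaf 0xcc) (.leaf 0xcc)) (.node (.leaf 0x60) (.leaf 0x350))) (.node (.node (.leaf 0x7b6) (.leaf 0xcc)) (.node (.leaf 0x7cf) (.leaf 0x78f))))) (.node (.node (.node (.node (.leaf 0x7de) (.leaf 0x0)) (.node (.leaf 0x0) (.leaf 0x410))) (.node (.node (.leaf 0x35d)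 (.leaf 0x3ee)) (.node (.leaf 0xa2) (.leaf 0x7f7)))) (.node (.node (.node (.leaf 0x270) (.leaf 0x771)) (.node (.leaf 0x0) (.leaf 0x436))) (.node (.node (.leaf 0x3ad) (.leaf 0x783)) (.node (.leaf 0x350) (.leaf 0xcc)))))) (.node (.node (.node (.node (.node (.leaf 0x299) (.leaf 0x35c)) (.node (.leaf 0x3d7) (.leaf 0x43e))) (.node (.node (.leaf 0x3e) (.leaf 0x35d)) (.node (.leaf 0xcc) (.leaf 0x31e)))) (.node (.node (.node (.leaf 0xcc) (.leaf 0x11)) (.node (.leaf 0x0) (.leaf 0x0))) (.node (.node (.leaf 0xbf) (.leaf 0x0)) (.node (.leaf 0x771) (.leaf 0x27d))))) (.node (.node (.node (.node (.leaf 0x306) (.leaf 0xcc)) (.node (.leaf 0x767) (.leaf 0x274))) (.node (.node (.leaf 0x274) (.leaf 0x2f0)) (.node (.leaf 0x469) (.leaf 0x0)))) (.node (.node (.node (.leaf 0x2b3) (.leaf 0x2d7)) (.node (.leaf 0xb6) (.leaf 0x274))) (.node (.node (.leaf 0x7b6) (.leaf 0x258)) (.node (.leaf 0x3ce) (.leaf 0x767))))))))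

/-- squares -/
def sqT : Trie :=
  (.node (.node (.node (.node sqT0 sqT8) (.node sqT4 sqT12)) (.node (.node sqT2 sqT10) (.node sqT6 sqT14))) (.node (.node (.node sqT1 sqT9) (.node sqT5 sqT13)) (.node (.node sqT3 sqT11) (.node sqT7 sqT15))))

/-- part of right multiples by the generators -/
def tblT0 : Trie :=
  (.node (.node (.node (.node (.node (.node (.node (.leaf 0x4000030000200001) (.leaf 0x6c100601001f800566)) (.node (.leaf 0x4d000a8004ab004a9) (.leaf 0x32a0034700441002e4))) (.node (.node (.leaf 0x2e6000b0002e50004e) (.leaf 0x6650069b000d8006f4)) (.node (.leaf 0x62e0010b0062d0062c) (.leaf 0x26d003d70050d00422)))) (.node (.node (.node (.leaf 0x19d0019c0019b0014e) (.leaf 0x56a005fb001f40067b)) (.node (.leaf 0x56f0056e001fd00166) (.leaf 0x7f90049e00770003d4))) (.node (.node (.leaf 0x3ff00333003fe003fd) (.leaf 0x9a003c8000a000502)) (.node (.leaf 0x543001420002400144) (.leaf 0x74d006e000519006e1))))) (.node (.node (.node (.node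 (.leaf 0xd6000d5000d4000d3) (.leaf 0x540005e20067000598)) (.node (.leaf 0x4fa0033a002de004f9) (.leaf 0x48f007ba003af007ec))) (.node (.node (.leaf 0x37c003530037b0026e) (.leaf 0x2d90026a002dc0077e)) (.node (.leaf 0x55f0012300683001e2) (.leaf 0x4a1004aa00381007fc)))) (.node (.node (.node (.leaf 0x23b0014f0023a00151) (.leaf 0x2d0058e005c1005f1)) (.node (.leaf 0x5d9000f100222005d3) (.leaf 0x267007fc0043c004aa))) (.node (.node (.leaf 0x447003820045600365) (.leaf 0x290002cf0006d002b3)) (.node (.leaf 0x5b40015e0061200647) (.leaf 0xfe0060e006570060f)))))) (.node (.node (.node (.node (.node (.leaf 0x6f0006e000000006d) (.leaf 0x176001b5000da00199)) (.node (.leaf 0x4dd0035a0007900395) (.leaf 0x3ca0045b0030e004db))) (.node (.node (.leaf 0x6b003360033500334) (.leaf 0x3a30025c000460025e)) (.node (.leaf 0x1e3006030022f00561) (.leaf 0x7bd007fa003910050a)))) (.node (.node (.node (.leaf 0x1ed001ec001eb00030) (.leaf 0x62f007110054f00743)) (.node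 (.leaf 0x5a5001cd0019d00191) (.leaf 0x4c5004fb0006b0079d))) (.node (.node (.leaf 0x42c0042b0042a00082) (.leaf 0x76a0046100312003c6)) (.node (.leaf 0x1bf00150001c2006d5) (.leaf 0x52e007120013200702))))) (.node (.node (.node (.node (.leaf 0x13c0013b0013a0001c) (.leaf 0x2100022d005e1001ca)) (.node (.leaf 0x529001e800164000d1) (.leaf 0x4f003ee0042100451))) (.node (.node (.leaf 0x33f003c5003c400358) (.leaf 0x4140027800472004a7)) (.node (.leaf 0x6a1005ad0063100133) (.leaf 0x1890064c0023c00677)))) (.node (.node (.node (.leaf 0x29200291002900028f) (.leaf 0x7500063e006c700574)) (.node (.leaf 0x19f000fe000db00215) (.leaf 0x7d80078000492003af))) (.node (.node (.leaf 0x485004840048300482) (.leaf 0x3a000442004d0003f8)) (.node (.leaf 0x107005680010d006a2) (.leaf 0xdf0072e005c600752))))))) (.node (.node (.node (.node (.node (.node (.leaf 0x39000040003800032) (.leaf 0x5e8005a70062f0071e)) (.node (.leaf 0x3c900288004c60049b) (.leaf 0x2e8007b900062002ee)))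 (.node (.node (.leaf 0x2860030d0030c0030b) (.leaf 0x3940049400759002f4)) (.node (.leaf 0x643006420064100112) (.leaf 0x43a004700009f00471)))) (.node (.node (.node (.leaf 0x17d001c4001c3001c2) (.leaf 0x6b0001e7007450073c)) (.node (.leaf 0x54d0023f005520011a) (.leaf 0x75c0034b0034000468))) (.node (.node (.leaf 0x2f600412002fb00411) (.leaf 0x7f0031f0047a002f1)) (.node (.leaf 0x661001490010200564) (.leaf 0x67f0070f0011300675))))) (.node (.node (.node (.node (.leaf 0x10a001090010800107) (.leaf 0x1eb0051f007390021b)) (.node (.leaf 0x38c0049c004e60050b) (.leaf 0x7cb004ae0041200501))) (.node (.node (.leaf 0xc1003a00039f0039e) (.leaf 0x78b00373004f500495)) (.node (.leaf 0x5c50012a001920012c) (.leaf 0x487007ea00781007aa)))) (.node (.node (.node (.leaf 0x25f0025e0025d0025c) (.leaf 0x18d002160019300218)) (.node (.leaf 0x58a001e9005160015d) (.leaf 0x437007d00078500478))) (.node (.node (.leaf 0x46c0046b0037e00096) (.leaf 0x3fe00482007d600484))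 (.node (.leaf 0x6f80066600238006df) (.leaf 0x622006d000575006e9)))))) (.node (.node (.node (.node (.node (.leaf 0xa3000a2000a1000a0) (.leaf 0x59e006220072d00624)) (.node (.leaf 0x4ee00416004cd004ed) (.leaf 0x75900301007ee007e5))) (.node (.node (.leaf 0x35c0035b0035a000ac) (.leaf 0x4c10026300095003c4)) (.node (.leaf 0x1c4006700060b0011f) (.leaf 0x29100432007a9007d1)))) (.node (.node (.node (.leaf 0x213001000000400102) (.leaf 0x7220064e005b2006a1)) (.node (.leaf 0x204005ba0050f000eb) (.leaf 0x7f8004f10009000452))) (.node (.node (.leaf 0x41c002ae0044600088) (.leaf 0x448004070048f007c7)) (.node (.leaf 0x6e2005130069500635) (.leaf 0x61d00582007420067e))))) (.node (.node (.node (.node (.leaf 0x16e0016d0016c000f3) (.leaf 0x1ce00710000cf001d4)) (.node (.leaf 0x54f0054e0051a0054d) (.leaf 0x2a700330002ad00332))) (.node (.node (.leaf 0x3e400071003e3002c2) (.leaf 0x7a1004c60035200788)) (.node (.leaf 0x53400634006b0001da) (.leaf 0x6a90072b0021f0074a))))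 (.node (.node (.node (.leaf 0x2bd00048002bc002b9) (.leaf 0x6b3002310022600608)) (.node (.leaf 0x11a002020058d00204) (.leaf 0x2ea004e400327007f2))) (.node (.node (.leaf 0x498004970046a002a2) (.leaf 0x3050037f007e200335)) (.node (.leaf 0xec002050061a001d7) (.leaf 0x732006aa0073300751))))))))

/-- part of right multiples by the generators -/
def tblT8 : Trie :=
  (.node (.node (.node (.node (.node (.node (.node (.leaf 0x1e0001d0001c00002) (.leaf 0x100006a1006170064e)) (.node (.leaf 0x4b6004b5004b4004b3) (.leaf 0x3c6004ef004df004f0))) (.node (.node (.leaf 0x2f8002f70007f002f6) (.leaf 0x5f6006610012100663)) (.node (.leaf 0x55c005ed006350010e) (.leaf 0x337004bd0078b004b4)))) (.node (.node (.node (.leaf 0x1b2001b10016b001b0) (.leaf 0x741002250063a006ad)) (.node (.leaf 0x580002100057f001f2) (.leaf 0x50004fa002c3007c5))) (.node (.node (.leaf 0x408003e3003510030a) (.leaf 0xa40034c000550034e)) (.node (.leaf 0x1cb00145006c100252) (.leaf 0x146006b50014800570)))))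 (.node (.node (.node (.node (.leaf 0xf1000f0000ef000ee) (.leaf 0x737005d9005a4001b2)) (.node (.leaf 0x32300504002df00503) (.leaf 0x4dc00314004d1007b2))) (.node (.node (.leaf 0x38d0038c0038b00065) (.leaf 0x4f90026e0035c00353)) (.node (.leaf 0x68c0068b0016700127) (.leaf 0x3e7007bf003c3004a5)))) (.node (.node (.node (.leaf 0x3001ea0024b001ba) (.leaf 0x6760071c006b20069a)) (.node (.leaf 0x16a000f400252000f6) (.leaf 0x781003fa0036200771))) (.node (.node (.leaf 0x45f0045e0005100092) (.leaf 0x4cd003ec007cf007ce)) (.node (.leaf 0x68400580006eb0051a) (.leaf 0x112005b1005aa005b2)))))) (.node (.node (.node (.node (.node (.leaf 0x53000890008800087) (.leaf 0x66d0058c0072600725)) (.node (.leaf 0x3fd004e70046d004a4) (.leaf 0x7ea0033f0049a0050d))) (.node (.node (.leaf 0x34b0005a0034a00346) (.leaf 0x2e50025f0076a0036c)) (.node (.leaf 0x664006630066200661) (.leaf 0x385007b7007d7007d9)))) (.node (.node (.node (.leaf 0x20100200001ff001fe) (.leaf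 0x67c001fa0067100709)) (.node (.leaf 0x157005af00520005ae) (.leaf 0x456004c1000b4004c3))) (.node (.node (.leaf 0x43b000850043a0028a) (.leaf 0x930050100477004ae)) (.node (.leaf 0x699001540024200239) (.leaf 0x530005c20068200577))))) (.node (.node (.node (.node (.leaf 0x1540001e001530014d) (.leaf 0x5660068f0067f00690)) (.node (.leaf 0x53d0053c0053b000ed) (.leaf 0x4d6007c50075b004fa))) (.node (.node (.leaf 0x3d4003d3003d20006f) (.leaf 0x4e4003e0007940037a)) (.node (.leaf 0x698005b5006a900137) (.leaf 0x14800524005d300683)))) (.node (.node (.node (.leaf 0x2aa002a9002a8002a7) (.leaf 0x2e0069a001a90071c)) (.node (.leaf 0x1ee00172001f100606) (.leaf 0x7fb00505003680041c))) (.node (.node (.leaf 0x49100260002c50009f) (.leaf 0x7e00043900404002cc)) (.node (.leaf 0x111002320003300234) (.leaf 0x5c4006a9001f0006ec))))))) (.node (.node (.node (.node (.node (.node (.leaf 0x55000540005300007) (.leaf 0x6460056c0055100593)) (.node (.leaf 0x4d2000b200265004d0)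 (.leaf 0x2d000792003bf00779))) (.node (.node (.leaf 0x3220005500321000ab) (.leaf 0x7610046a0006f002f9)) (.node (.leaf 0x64a006490052e00115) (.leaf 0x421007db003f300406)))) (.node (.node (.node (.leaf 0x1d60002d001d50002f) (.leaf 0x61600557000e3006f5)) (.node (.leaf 0x59b0013d0059a0012b) (.leaf 0x56003d10005c00786))) (.node (.node (.leaf 0x41f0007e0041e0041a) (.leaf 0x2bc003f40005200440)) (.node (.leaf 0x61e0014c006ce005ea) (.leaf 0x1ae005610020800603))))) (.node (.node (.node (.node (.leaf 0x12100019001200011b) (.leaf 0x609001c2001b8001c4)) (.node (.leaf 0x51700516000120013e) (.leaf 0x261003230048900777))) (.node (.node (.leaf 0x316003b4003b3003b2) (.leaf 0x794007930044e00765)) (.node (.leaf 0x2001ac005d400160) (.leaf 0x6ab005f40014f0050f)))) (.node (.node (.node (.leaf 0x278000410027700043) (.leaf 0x6490021d0074e0021f)) (.node (.leaf 0x1b3005f5005f4005f3) (.leaf 0x5c0078b0038c003a4))) (.node (.node (.leaf 0x4750009900474002f2)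 (.leaf 0x4a5004170044b00419)) (.node (.leaf 0x5ab006bb00245006dc) (.leaf 0x142007050063f00723)))))) (.node (.node (.node (.node (.node (.leaf 0xbc000bb000ba000b9) (.leaf 0x645005b7005eb005b9)) (.node (.leaf 0x4f5003ac0034800293) (.leaf 0x476003b7000760079e))) (.node (.node (.leaf 0x36c0005f0036b00366) (.leaf 0x47e00266007770044a)) (.node (.leaf 0x67b0067a006790021e) (.leaf 0x49b007c60032c0045f)))) (.node (.node (.node (.leaf 0x1170022b001700022a) (.leaf 0x1470020900629006ce)) (.node (.leaf 0x5c8001c3005c70013f) (.leaf 0x2ab004c700292007b3))) (.node (.node (.leaf 0x44d002bc003a50044c) (.leaf 0x4a6003cc003b1003f3)) (.node (.leaf 0x6eb006ea005ee006bc) (.leaf 0x74e006e700200006f6))))) (.node (.node (.node (.node (.leaf 0x18600023001850017f) (.leaf 0x1b6006e90055f006d0)) (.node (.leaf 0x19400560001d20055f) (.leaf 0x4a900337007f700339))) (.node (.node (.leaf 0x2e2003ef003ee003ed) (.leaf 0x40b007640035f00785)) (.node (.leaf 0x6b80060a000dc001df)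 (.leaf 0x74500613005f200539)))) (.node (.node (.node (.leaf 0x2d20004b000bf0004d) (.leaf 0x34005710003a006dd)) (.node (.leaf 0x6200061f001570061e) (.leaf 0x42d007cc004f7007ae))) (.node (.node (.leaf 0x4a4000a5003ba004a2) (.leaf 0x469002dc002d2002de)) (.node (.leaf 0x1a20059400030005e0) (.leaf 0x38006e4001cf00724))))))))

/-- part of right multiples by the generators -/
def tblT4 : Trie :=
  (.node (.node (.node (.node (.node (.node (.node (.leaf 0x11000100000f0000e) (.leaf 0x5680060c006e000696)) (.node (.leaf 0x4b1000a9004b0002f0) (.leaf 0x30b007e70050700464))) (.node (.node (.leaf 0x2ee0027f002ed002ec) (.leaf 0x65400248000fa00579)) (.node (.leaf 0x5e1001350053d00532) (.leaf 0xbf003dc007cb004c4)))) (.node (.node (.node (.leaf 0x1a7001a6001a5001a4) (.leaf 0x22b001e000646005d0)) (.node (.leaf 0x579000dc0057800573) (.leaf 0x28700799004b1007c3))) (.node (.node (.leaf 0x3db004030040200401) (.leaf 0x76e0038a0008b003e4)) (.node (.leaf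 0x5ec006bf006be00681) (.leaf 0x16900546001e000726))))) (.node (.node (.node (.node (.leaf 0xe2000e1000e0000df) (.leaf 0x7350057f001330069c)) (.node (.leaf 0x4a200405004ff0028b) (.leaf 0x4530048a007c900342))) (.node (.node (.leaf 0x280000630038500380) (.leaf 0x2b500456003ac00781)) (.node (.leaf 0x689005510010500125) (.leaf 0x27b004ee003080077a)))) (.node (.node (.node (.leaf 0x1f70014b002430003b) (.leaf 0x22100703005b900704)) (.node (.leaf 0x1080050e00579001aa) (.leaf 0x34c007ff00788004bf))) (.node (.node (.leaf 0x3f2000900045a00458) (.leaf 0x2d4007c40049c00424)) (.node (.leaf 0x1ad0052e0063b00530) (.leaf 0x545005c4007530071b)))))) (.node (.node (.node (.node (.node (.leaf 0x7d0007c0007b0007a) (.leaf 0x1ba0071b0063c005c4)) (.node (.leaf 0x4be002fc004e1000b6) (.leaf 0x345002fa004a600430))) (.node (.node (.leaf 0x34300059003420033c) (.leaf 0x44c0076800767004e1)) (.node (.leaf 0x65a001190065900241) (.leaf 0x33500426004c0007f8))))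 (.node (.node (.node (.leaf 0x1f5001f4000d000031) (.leaf 0x5f30062a0072000228)) (.node (.leaf 0x52b0017b005970017d) (.leaf 0x4b4003620008d003d9))) (.node (.node (.leaf 0x434004330043200084) (.leaf 0x3c80046c00789004f6)) (.node (.leaf 0x19b005f60054c006d8) (.leaf 0x73300629005bb00572))))) (.node (.node (.node (.node (.leaf 0x1380010c0014700146) (.leaf 0x1f10073e006a700604)) (.node (.leaf 0x533000d2005320052c) (.leaf 0x33b007ac00419007ad))) (.node (.node (.leaf 0xa80006d003cb0006e) (.leaf 0x2c70038e0049b00390)) (.node (.leaf 0x6a600632006a5005c9) (.leaf 0x6ff00578006370069e)))) (.node (.node (.node (.leaf 0x29e0029d0029c0029b) (.leaf 0x16d006f0006510071a)) (.node (.leaf 0x601001eb001b000600) (.leaf 0x9e007f80008400426))) (.node (.node (.leaf 0x2f10048b002a7003fb) (.leaf 0x7de003df000c6004fc)) (.node (.leaf 0x6c50052a000f800584) (.leaf 0x1ff006860018c005f9))))))) (.node (.node (.node (.node (.node (.node (.leaf 0x4600005000450003f)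 (.leaf 0x21c0056b006a3005b4)) (.node (.leaf 0x4ce004cd004cc0038f) (.leaf 0xbb003210043d007af))) (.node (.node (.leaf 0x26a003170008f00316) (.leaf 0x75e003be0075d00374)) (.node (.leaf 0x228006480055400586) (.leaf 0x430004a100772004c5)))) (.node (.node (.node (.leaf 0x1cf00191001ce001cd) (.leaf 0x6c8005100012500619)) (.node (.leaf 0x59300592005910017a) (.leaf 0x467004be000b900766))) (.node (.node (.leaf 0x416002ca003db002cb) (.leaf 0x2d5003f8007bb00442)) (.node (.leaf 0x6c90054d006a20054e) (.leaf 0x6c300702001d100712))))) (.node (.node (.node (.node (.leaf 0x11600018001150001a) (.leaf 0x628006af0014100633)) (.node (.leaf 0x50f001810050e00183) (.leaf 0xc500326004e5007b1))) (.node (.node (.leaf 0x3a9003a8003a70025a) (.leaf 0x3f700272007900078c)) (.node (.leaf 0x69700696001800060c) (.leaf 0xbe007ec003fd007ba)))) (.node (.node (.node (.leaf 0x26c0026b0026a00269) (.leaf 0xf00070a0058f00667)) (.node (.leaf 0x5f100532005f000135) (.leaf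 0x94007f5004b20077d))) (.node (.node (.leaf 0x450004710004300470) (.leaf 0x4da003190027200377)) (.node (.leaf 0x6fd006a7006fc00680) (.leaf 0x5a2006c7006300065a)))))) (.node (.node (.node (.node (.node (.leaf 0x42000ae000ad0000f) (.leaf 0x67a001ff0015800517)) (.node (.leaf 0x3b2000bc004da003e8) (.leaf 0x77100370000b800479))) (.node (.node (.leaf 0x364003630028b002d6) (.leaf 0x772003ad00502003ae)) (.node (.leaf 0x674001a7001c000120) (.leaf 0x5050043b004370079a)))) (.node (.node (.node (.leaf 0x2200021f0021e0021d) (.leaf 0x1320020c0068500708)) (.node (.leaf 0x5ad005c3005c2005c1) (.leaf 0x77400506002d7003c9))) (.node (.node (.leaf 0xa002ef0044a003fe) (.leaf 0x336003cb0050300414)) (.node (.leaf 0x59700158006e7006e3) (.leaf 0x5be00725001a30058c))))) (.node (.node (.node (.node (.leaf 0x17a000220017900173) (.leaf 0x12800207005dd00706)) (.node (.leaf 0x55800547005570015a) (.leaf 0x83007b3003ef004c7))) (.node (.node (.leaf 0x3e9002bd003e8003c3)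 (.leaf 0x7a600507007a5004e0)) (.node (.leaf 0x6b50055e006b400514) (.leaf 0x249006590067300537)))) (.node (.node (.node (.leaf 0x2c9002c8002c70004a) (.leaf 0x6070065e00126006bd)) (.node (.leaf 0x61a006190061800510) (.leaf 0x798004450025500500))) (.node (.node (.leaf 0x49e000a4000a3000a6) (.leaf 0x488007580025b00493)) (.node (.leaf 0x1bb0059800712005e2) (.leaf 0x1e90065f0073d00756))))))))

/-- part of right multiples by the generators -/
def tblT12 : Trie :=
  (.node (.node (.node (.node (.node (.node (.node (.leaf 0x2c0002b0002a00029) (.leaf 0xe00018c0071b00662)) (.node (.leaf 0x61004b4004be004bd) (.leaf 0x79c00404007e800354))) (.node (.node (.leaf 0x304000640030300302) (.leaf 0x74800251005600057e)) (.node (.leaf 0x63c0063b006200016e) (.leaf 0x77b0047d003cf004ad)))) (.node (.node (.node (.leaf 0x1bc001bb001ba001b9) (.leaf 0xdb001e5006c2001e6)) (.node (.leaf 0x13d001ce0014200587) (.leaf 0x2dc007fb007cd007d7))) (.node (.node (.leaf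 0x2890040c0040b0038d) (.leaf 0x7b500428004c3007b4)) (.node (.leaf 0x65b00148006c50014a) (.leaf 0x70b00552005fd00554))))) (.node (.node (.node (.node (.leaf 0xfd000fc000fb000fa) (.leaf 0x738005ce00595001b8)) (.node (.leaf 0x508000c9004ad000cb) (.leaf 0x2e700760002ea007ef))) (.node (.node (.leaf 0x8f003980039700396) (.leaf 0x4fb00352004ed002b7)) (.node (.leaf 0x5f4005880069200129) (.leaf 0x2c20077d0031f007f5)))) (.node (.node (.node (.leaf 0x2530016c0011400139) (.leaf 0xd10025300749006e5)) (.node (.leaf 0x1c5005e9001c8005e8) (.leaf 0x60007950006600509))) (.node (.node (.leaf 0x42900465004640044f) (.leaf 0x49d0044f007d200465)) (.node (.leaf 0x62a005b800515005ca) (.leaf 0x639006f8007470072f)))))) (.node (.node (.node (.node (.node (.leaf 0x96000950009400093) (.leaf 0x63d005ef0072900605)) (.node (.leaf 0x29f000b9004b5000bb) (.leaf 0x6e002ff0076b00300))) (.node (.node (.leaf 0x30d0005b0035300350) (.leaf 0x4bb002620076e00264)) (.node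 (.leaf 0x5f8006690066800212) (.leaf 0x365004ca004c7004cb)))) (.node (.node (.node (.leaf 0x20b0020a0020900130) (.leaf 0x1cd006b7001d000746)) (.node (.leaf 0x1d5001bf005b400185) (.leaf 0x7f10036b003c0003de))) (.node (.node (.leaf 0x440003580043f003c5) (.leaf 0x73002a6007c4004c2)) (.node (.leaf 0x69b002380068d0019d) (.leaf 0x69200664006330057c))))) (.node (.node (.node (.node (.leaf 0x16200161001600015f) (.leaf 0x6f3005a40073f0023a)) (.node (.leaf 0x54400543001e300542) (.leaf 0x640036d007f20078e))) (.node (.node (.leaf 0x3dc000cc002ee00286) (.leaf 0x48a00418003750042a)) (.node (.leaf 0x1a00526001fb00528) (.leaf 0x514005290069100615)))) (.node (.node (.node (.leaf 0x2b4000470000d00049) (.leaf 0x1c200752007240072e)) (.node (.leaf 0x60d00223001b700104) (.leaf 0xc200775007c1007e8))) (.node (.node (.leaf 0x494000a00004a000a2) (.leaf 0x7e10042e003f5002d2)) (.node (.leaf 0x70c005c8006630070b) (.leaf 0x3b007540073a00640))))))) (.node (.node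 (.node (.node (.node (.node (.leaf 0x63000620006100060) (.leaf 0x1f0062d00025006e8)) (.node (.leaf 0x4d7000b3002a5002c1) (.leaf 0x28d0039b007c50047c))) (.node (.node (.leaf 0x32c0032b0032a00057) (.leaf 0x763004960043100762)) (.node (.leaf 0x64f001d60064e00116) (.leaf 0x77e004c8004ba004e8)))) (.node (.node (.node (.leaf 0x1e00002e001df001db) (.leaf 0x5ce00250005cf00679)) (.node (.leaf 0x1980057d0001400182) (.leaf 0x30600772007a600444))) (.node (.node (.leaf 0x2a200080004240039c) (.leaf 0x88004d20079b00341)) (.node (.leaf 0x2510014e006d40019c) (.leaf 0x126005690012a006a6))))) (.node (.node (.node (.node (.leaf 0x1300012f0012e0001b) (.leaf 0x5dd00739005af001c7)) (.node (.leaf 0x521005200051f000d0) (.leaf 0x41a00325007d100391))) (.node (.node (.leaf 0x3bd003bc002b0003bb) (.leaf 0x4b002760004f0034f)) (.node (.leaf 0x69c005590069b00242) (.leaf 0x20700512001cd00549)))) (.node (.node (.node (.leaf 0x285002840028300282) (.leaf 0x6fb00233006800067c))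 (.node (.leaf 0x5f9005f8001a1000fd) (.leaf 0x7a2004fe00267003d8))) (.node (.node (.leaf 0x47c003e9004150009b) (.leaf 0x312007a5004ce002c3)) (.node (.leaf 0x3c00704005bd00703) (.leaf 0x64b006f1005c3005db)))))) (.node (.node (.node (.node (.node (.leaf 0xc800011000c7000c2) (.leaf 0x1f8006fc0066e001a9)) (.node (.leaf 0x403002ad0025f000c1) (.leaf 0x42e0036a0042f004d9))) (.node (.node (.leaf 0x373003070037200371) (.leaf 0x36b002680077d002b6)) (.node (.leaf 0x565001220011600124) (.leaf 0x2ec0048f0009900490)))) (.node (.node (.node (.leaf 0x235002340023300232) (.leaf 0x5ba0020b0072800531)) (.node (.leaf 0x17e001b800151005ce) (.leaf 0x7e70040200496003b8))) (.node (.node (.leaf 0x45200331003ae000c7) (.leaf 0x410048d0004700791)) (.node (.leaf 0x290015c0002d00235) (.leaf 0x1700061e006000061f))))) (.node (.node (.node (.node (.leaf 0x19200024001910018b) (.leaf 0x1730053b0071c0061c)) (.node (.leaf 0x1df001b3005680023d) (.leaf 0x7a40034d004e0004dc)))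 (.node (.node (.leaf 0x264003f700011003f6) (.leaf 0x5e007ad0041d007ac)) (.node (.leaf 0x6ba00636005d1006b9) (.leaf 0x6960053a00752005aa)))) (.node (.node (.node (.leaf 0x2db0004c0029d002d7) (.leaf 0x1ec006c9006fd005e4)) (.node (.leaf 0x629002240062800226) (.leaf 0x3960043c000800043d))) (.node (.node (.leaf 0x82003f1002b3000a7) (.leaf 0x43d007e20040f002e1)) (.node (.leaf 0xf500672006f200227) (.leaf 0x5ee006c00071e00740))))))))

/-- part of right multiples by the generators -/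
def tblT2 : Trie :=
  (.node (.node (.node (.node (.node (.node (.node (.leaf 0xb0000a0000900008) (.leaf 0x700006bc00247006ea)) (.node (.leaf 0x4af002f0004ae000a9) (.leaf 0x31c007c2002c6002e5))) (.node (.node (.leaf 0x2540004e002a9000b0) (.leaf 0x7540051a0021800580)) (.node (.leaf 0x63100146001ab0010c) (.leaf 0x3eb007940007d007a0)))) (.node (.node (.node (.leaf 0x131001a100136001a0) (.leaf 0x6f2005d0001d8001e0)) (.node (.leaf 0x5740057300572000dc) (.leaf 0x660050d007c80033f))) (.node (.node (.leaf 0x2b2003dd0000a0029c) (.leaf 0x32e007b0004bc004dd)) (.node (.leaf 0x6ae001c0006bc00143) (.leaf 0x1d10064d005f80061d))))) (.node (.node (.node (.node (.leaf 0xdc000db00001000da) (.leaf 0x6c6005e00064300594)) (.node (.leaf 0x4fc003b9004fb0035c) (.leaf 0x4500310007ea00312))) (.node (.node (.leaf 0x381003800037f00063) (.leaf 0xe004b6004ca0026c)) (.node (.leaf 0x59d006870060d00644) (.leaf 0x7c2004770077c00783)))) (.node (.node (.node (.leaf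 0x23f0003a001030003c) (.leaf 0x1430052d0074c005ac)) (.node (.leaf 0x5db000f2005da00170) (.leaf 0x4c300475007fd00389))) (.node (.node (.leaf 0x45900458002bb00090) (.leaf 0x26b007a800768007a9)) (.node (.leaf 0x6f10015f006f000161) (.leaf 0x1d80060200601005a9)))))) (.node (.node (.node (.node (.node (.leaf 0x75000740007300072) (.leaf 0x151006ff006bf00700)) (.node (.leaf 0x3c5000b5000a9000b7) (.leaf 0x79b00430002f2002fa))) (.node (.node (.leaf 0x33d0033c0033b00059) (.leaf 0x757002da007650025d)) (.node (.leaf 0x656006550065400653) (.leaf 0x34e0041e002f7007fe)))) (.node (.node (.node (.leaf 0x14f0003000155001ec) (.leaf 0x23001f600741001f8)) (.node (.leaf 0x5a80058300237001f0) (.leaf 0x7fd0037a00332003e0))) (.node (.node (.leaf 0x298002d20026b0042e) (.leaf 0x7a9007650036100793)) (.node (.leaf 0x18006560066a00152) (.leaf 0x65300736000f6005bf))))) (.node (.node (.node (.node (.leaf 0x1410001c001400013b) (.leaf 0x20200719001ac001cb)) (.node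 (.leaf 0x52d0052c0052b000d2) (.leaf 0x25d0038d007f50040c))) (.node (.node (.leaf 0x2f9002cd003c800357) (.leaf 0x79a00279007990027b)) (.node (.leaf 0x209006a4001c5006a3) (.leaf 0x652005f7006530051c)))) (.node (.node (.node (.leaf 0x266002970029600295) (.leaf 0xd3006ad0071f00225)) (.node (.leaf 0x5ff005fe0002f000ff) (.leaf 0x255007810046600456))) (.node (.node (.leaf 0x4890033e0048800340) (.leaf 0x76f00440004a3003f4)) (.node (.leaf 0x214007070065c0067d) (.leaf 0x734005fc000f9005fd))))))) (.node (.node (.node (.node (.node (.node (.leaf 0x400003f0003e00005) (.leaf 0x68d001900068f0071f)) (.node (.leaf 0x458004c9004c80032c) (.leaf 0x7e9003fe0037d002ef))) (.node (.node (.leaf 0x313003120031100310) (.leaf 0x4b00075c002db00311)) (.node (.leaf 0x644001120055a00642) (.leaf 0x44b007a00036300794)))) (.node (.node (.node (.leaf 0x1ca001c9001a8001c8) (.leaf 0x57a0024a005e8005fa)) (.node (.leaf 0x1c80058f0058e0058d) (.leaf 0x327007f7004e8004f2)))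 (.node (.node (.leaf 0x2ef002d9004140029f) (.leaf 0x7b200294007b9003f2)) (.node (.leaf 0x6c7001ba000e9001ea) (.leaf 0x1ef00618006fb00727))))) (.node (.node (.node (.node (.leaf 0x1100010f0010e0010d) (.leaf 0x6100051500703006b0)) (.node (.leaf 0x10003860031500388) (.leaf 0x45e007af0077f00321))) (.node (.node (.leaf 0x3a4003a3002fd003a2) (.leaf 0x78d0078c0004400272)) (.node (.leaf 0x6950054c0022e00179) (.leaf 0x45c004ec007b0007e0)))) (.node (.node (.node (.leaf 0x265002640026300262) (.leaf 0x1aa0059c0056500685)) (.node (.leaf 0x5ed001a200545005ec) (.leaf 0x7620040a007a10039a))) (.node (.node (.leaf 0x46d0033d002d100097) (.leaf 0x3e1007d9007d8007b7)) (.node (.leaf 0x50e0066f006af006fb) (.leaf 0x26007310070600729)))))) (.node (.node (.node (.node (.node (.leaf 0xa90000e000a800010) (.leaf 0x581007300072f0070e)) (.node (.leaf 0x454003e8004f2000bc) (.leaf 0x3da00364004480045a))) (.node (.node (.leaf 0x35f0005d0035e00265) (.leaf 0x770002d40007c00304))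 (.node (.leaf 0x6720011f0014b00670) (.leaf 0x4c2007c1007c00043a)))) (.node (.node (.node (.leaf 0x219002180021700216) (.leaf 0x5fe00706006d600207)) (.node (.leaf 0x5bf000eb005be005ba) (.leaf 0x980077f007e100381))) (.node (.node (.leaf 0x2df00449002e200448) (.leaf 0x4ed002aa004ef007c8)) (.node (.leaf 0x6e4006e30002200158) (.leaf 0x713005860075600648))))) (.node (.node (.node (.node (.leaf 0x174001730017200022) (.leaf 0x7400059e0051d001d5)) (.node (.leaf 0x1fc005540055300552) (.leaf 0x2c4003fc003c5004e5))) (.node (.node (.leaf 0x257002e80025c003e7) (.leaf 0x36e004cf00758007a4)) (.node (.leaf 0x650006b3001c1001f7) (.leaf 0x1b50069c001b90057f)))) (.node (.node (.node (.leaf 0x2c3002c20006800071) (.leaf 0x20d0074e0068800692)) (.node (.leaf 0x6150010600614001d8) (.leaf 0x7fa003c60030d00461))) (.node (.node (.leaf 0x49c0049b0048000288) (.leaf 0x47000375007ac00759)) (.node (.leaf 0x7090017a0071000592) (.leaf 0x6300071a0011e006f0))))))))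

/-- part of right multiples by the generators -/
def tblT10 : Trie :=
  (.node (.node (.node (.node (.node (.node (.node (.leaf 0x2400002000230001d) (.leaf 0x19e006d2006ff006d3)) (.node (.leaf 0x4ba000ac004b90035b) (.leaf 0x4c9003780046c00481))) (.node (.node (.leaf 0x2fe002fd002fc002fb) (.leaf 0x5ae00747005b100720)) (.node (.leaf 0x638006370060a00188) (.leaf 0x2a9004d40050100761)))) (.node (.node (.node (.leaf 0x1b700199001b6001b5) (.leaf 0x73d00644001f500687)) (.node (.leaf 0x584000de00583001a8) (.leaf 0x79e003de003d60036b))) (.node (.node (.leaf 0x38b00295003f700297) (.leaf 0x7870028f0033400291)) (.node (.leaf 0x538005840001d0052a) (.leaf 0x7020054f005cb006d7))))) (.node (.node (.node (.node (.leaf 0x31000f6000f5000f4) (.leaf 0x21e005360053500538)) (.node (.leaf 0x506004920050500429) (.leaf 0x776007e9007d400769))) (.node (.node (.leaf 0x39300065003920038c) (.leaf 0x42a0028b004e900405)) (.node (.leaf 0x68e005b60066d0068d) (.leaf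 0x75f004ba0042c00770)))) (.node (.node (.node (.leaf 0x2500024f002190024e) (.leaf 0x1370072c0073700213)) (.node (.leaf 0x5bc00194005e6000f5) (.leaf 0x7d60075f002ce003cf))) (.node (.node (.leaf 0x46100305002ca00460) (.leaf 0x9003f3007d0003cc)) (.node (.leaf 0x5e900163006f40056a) (.leaf 0xdd005bb0020a005bd)))))) (.node (.node (.node (.node (.node (.leaf 0x900008f0008e0008d) (.leaf 0x1300593007270056c)) (.node (.leaf 0x4e9003b100098000b8) (.leaf 0x7e6004a40030f004e7))) (.node (.node (.leaf 0x351003500029b0005b) (.leaf 0x398003e40003f0038a)) (.node (.leaf 0x5690016e006660063b) (.leaf 0x7b60042d000920044b)))) (.node (.node (.node (.leaf 0x206001d70017400205) (.leaf 0x6cd007400072b006c0)) (.node (.leaf 0x1dc005b2001e1005b1) (.leaf 0x40e007f000411007c9))) (.node (.node (.leaf 0x9b0036e003d9002c4) (.leaf 0x2b80077b007a80077c)) (.node (.leaf 0x5ca0017100689005a5) (.leaf 0x239006160022700750))))) (.node (.node (.node (.node (.leaf 0x15c0015b0015a00159)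 (.leaf 0x669005180060c00621)) (.node (.leaf 0x12e005400053f0053e) (.leaf 0xca007d5007e00032d))) (.node (.node (.leaf 0x3d90006f003d8003d3) (.leaf 0x4490027d0079d003ca)) (.node (.leaf 0x52c0063c00686006ab) (.leaf 0x1c90056d006d10069f)))) (.node (.node (.node (.leaf 0x2af000c1002ae002ad) (.leaf 0x6f50057e0057600251)) (.node (.leaf 0x60c0060b0051e00103) (.leaf 0xbd003b80040e00402))) (.node (.node (.leaf 0x441000c80039d00392) (.leaf 0x338003960039500398)) (.node (.leaf 0x6de001750021a00177) (.leaf 0x73c00750006ea00616))))))) (.node (.node (.node (.node (.node (.node (.leaf 0x5b000070005a00054) (.leaf 0x118001960019500198)) (.node (.leaf 0x4d4002c1002da000b3) (.leaf 0x78e007cf007c6003a6))) (.node (.node (.leaf 0x328003270032600290) (.leaf 0x75a00502004ee003c8)) (.node (.leaf 0x2b001150064b00649) (.leaf 0x435007f200336004e4)))) (.node (.node (.node (.leaf 0xfb001db001da0002e) (.leaf 0x73f006da0010a00617)) (.node (.leaf 0x59f002190059e0059d)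 (.leaf 0xf004e800410004c8))) (.node (.node (.leaf 0x40d004230042200421) (.leaf 0x7a70077100498003fa)) (.node (.leaf 0x5a1006d300674006d2) (.leaf 0x1d3007330073000734))))) (.node (.node (.node (.node (.leaf 0x129001280012700126) (.leaf 0x205005c90013000632)) (.node (.leaf 0x51c002390051b00154) (.leaf 0x54007f30038d007d4))) (.node (.node (.leaf 0x3b8003a7003b700274) (.leaf 0x3f8007960078e00343)) (.node (.leaf 0x69a00220001c400699) (.leaf 0x159006650015f00641)))) (.node (.node (.node (.leaf 0x27f0027e0027d00042) (.leaf 0x73a0021e007400067a)) (.node (.leaf 0x5e700522005f60024b) (.leaf 0x7650049a0034b007eb))) (.node (.node (.leaf 0x47a004790047800370) (.leaf 0x33100406007d3007db)) (.node (.leaf 0x701006ba0011f0016b) (.leaf 0xe8007290059000731)))))) (.node (.node (.node (.node (.node (.leaf 0xc3000c2000c100011) (.leaf 0x217005a60072a00732)) (.node (.leaf 0x4f7004f60029a0046c) (.leaf 0x7e8007830009d00477))) (.node (.node (.leaf 0x36f0029b0036e0029d)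 (.leaf 0x4010077c004d40077b)) (.node (.leaf 0x67d00240000e600535) (.leaf 0x7c800453007fe00455)))) (.node (.node (.node (.leaf 0xe30022f000e70022e) (.leaf 0x320074a0052d0072b)) (.node (.leaf 0x5cc005cb005ca000ef) (.leaf 0x478003da007ed003db))) (.node (.node (.leaf 0x4510039200450000c8) (.leaf 0xab002b0002af002b2)) (.node (.leaf 0x598006ed006e500229) (.leaf 0x1e100640006ec00754))))) (.node (.node (.node (.node (.leaf 0x18c0018b0001a00024) (.leaf 0x6e5007260071d00546)) (.node (.leaf 0x22500565005640023e) (.leaf 0x7e300338007e9004da))) (.node (.node (.leaf 0x3f3003f2003f100294) (.leaf 0x7aa00763000b200285)) (.node (.leaf 0x6b1006a20068e00568) (.leaf 0x5fd006430022d00744)))) (.node (.node (.node (.leaf 0x2d8002d70026e0004c) (.leaf 0x1900688005b000668)) (.node (.leaf 0x625006240062300622) (.leaf 0x77007fe004af0041e))) (.node (.node (.leaf 0x342004a8003b4003e6) (.leaf 0x31f00429000c300492)) (.node (.leaf 0x6fe006c8006380059a) (.leaf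 0x53700720006da00747))))))))

/-- part of right multiples by the generators -/
def tblT6 : Trie :=
  (.node (.node (.node (.node (.node (.node (.node (.leaf 0x17000010001600003) (.leaf 0x15b005da0024c00718)) (.node (.leaf 0x2fd0046300349003c1) (.leaf 0x39c003e7003e6002e8))) (.node (.node (.leaf 0x2f3002f2002f100099) (.leaf 0x65f006b400215006f3)) (.node (.leaf 0x6340010d000280010f) (.leaf 0x2a5004b2007f300474)))) (.node (.node (.node (.leaf 0x1ac001ab001aa000dd) (.leaf 0x20a005d60067d0067f)) (.node (.leaf 0x57c00139001d40016c) (.leaf 0x3cc007e40046500413))) (.node (.node (.leaf 0x405002e7002b7002ab) (.leaf 0x4c007b2007b100314)) (.node (.leaf 0x2f002520056d00145) (.leaf 0x74b006de0061f00698))))) (.node (.node (.node (.node (.leaf 0xea000e9000e8000e7) (.leaf 0x22c005e7007360069d)) (.node (.leaf 0x5010040d00491000c6) (.leaf 0x4e5003130049e004a6))) (.node (.node (.leaf 0x389003020027e00064) (.leaf 0x3d000784000bc0047a)) (.node (.leaf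 0x185001260065500128) (.leaf 0x766004d7002d6004ac)))) (.node (.node (.node (.leaf 0x24800247001a700246) (.leaf 0x71b0057000175006b5)) (.node (.leaf 0x5e00023e005df00565) (.leaf 0x2c50038f0045c004cd))) (.node (.node (.leaf 0x2b9000910006e0032f) (.leaf 0x39e007cd003a20078d)) (.node (.leaf 0x693006f200144005a0) (.leaf 0x57300738007310066e)))))) (.node (.node (.node (.node (.node (.leaf 0x84000830008200081) (.leaf 0x53e0072400542006e4)) (.node (.leaf 0x3bf000b6004e3002fc) (.leaf 0x32400436004dd004df))) (.node (.node (.leaf 0x34700346002f30005a) (.leaf 0x510036c003cd0025f)) (.node (.leaf 0xce006540065e0065d) (.leaf 0x2b00047a0026800784)))) (.node (.node (.node (.leaf 0x1fb00031001fa001f4) (.leaf 0x685001f90063e00646)) (.node (.leaf 0x16f005ac005ab0052d) (.leaf 0x4bf0075d0032f0079c))) (.node (.node (.leaf 0x439000840033c00433) (.leaf 0x2750043a00366007c1)) (.node (.leaf 0x570006db001290061a) (.leaf 0x66a005ae00709005af))))) (.node (.node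 (.node (.node (.leaf 0x14e0014d0014c0001e) (.leaf 0x53c0058700586001ce)) (.node (.leaf 0xfc005380053700536) (.leaf 0x7c4003d00028f0075e))) (.node (.node (.leaf 0x3cf003ce0031700280) (.leaf 0x4f30079b0025e00400)) (.node (.leaf 0x6a8001360064d00138) (.leaf 0x56b00523001fe00694)))) (.node (.node (.node (.leaf 0x2a4002a3002a2002a1) (.leaf 0x56c0073b00605005b3)) (.node (.leaf 0x5c90060500604005ef) (.leaf 0x479007d6004fa0078f))) (.node (.node (.leaf 0x48e0009e0048d0048c) (.leaf 0x34600447007df004fd)) (.node (.leaf 0x2a0070900708001fa) (.leaf 0x6fc0067b0022c005fb))))))) (.node (.node (.node (.node (.node (.node (.leaf 0x4e0004d0004c0004b) (.leaf 0xfa0023000100005d1)) (.node (.leaf 0x2de004d00046b000b2) (.leaf 0xc7007aa004f4007ea))) (.node (.node (.leaf 0x2f40031e0031d0031c) (.leaf 0x399002580004b00376)) (.node (.leaf 0xef005910019900114) (.leaf 0x42b007f1007e4004f3)))) (.node (.node (.node (.leaf 0x104001d1001b1001d0) (.leaf 0x6b40051c0068b005f7))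 (.node (.leaf 0x14a005970001b00596) (.leaf 0x7fc003540045500404))) (.node (.node (.leaf 0x31e0041a0036f0007e) (.leaf 0x37f0031b007bc00296)) (.node (.leaf 0x123005ea0015c0014c) (.leaf 0x7100055a0070f00625))))) (.node (.node (.node (.node (.leaf 0x200011b0011a00019) (.leaf 0x5c2005440058a006e2)) (.node (.leaf 0x513001ed0051200511) (.leaf 0x773003a20039a003a3))) (.node (.node (.leaf 0x3af003ae0037a003ad) (.leaf 0x4fd0035f00791003e1)) (.node (.leaf 0x5a300193001450012e) (.leaf 0xb50076d004fc007f4)))) (.node (.node (.node (.leaf 0x27200271002700026f) (.leaf 0x5c30021b002530051f)) (.node (.leaf 0x5f2002170054e00134) (.leaf 0x7900075b0039c003a1))) (.node (.node (.leaf 0xad0031c003ed0031e) (.leaf 0x4b5004860078d0033b)) (.node (.leaf 0x604001690024a006fe) (.leaf 0x20f006e60070b0072d)))))) (.node (.node (.node (.node (.node (.leaf 0xb40000f000b3000ae) (.leaf 0x65500626006e400221)) (.node (.leaf 0x425000bd002ac000bf) (.leaf 0x75d0037c004eb00457)))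 (.node (.node (.leaf 0x367003660000b0005f) (.leaf 0xb60044a0027600266)) (.node (.leaf 0x677001200018b001a7) (.leaf 0x427007a2002e400797)))) (.node (.node (.node (.leaf 0x227002260022500224) (.leaf 0x6ca005420053a00543)) (.node (.leaf 0x188000ed005c40053c) (.leaf 0x436007730027f00443))) (.node (.node (.leaf 0x3ea003030037600277) (.leaf 0x8d0034a0009300431)) (.node (.leaf 0x69d00245006e800581) (.leaf 0x666005f1005d50058e))))) (.node (.node (.node (.node (.leaf 0x1800017f0017e00023) (.leaf 0x134007010069400741)) (.node (.leaf 0x55d0055c001960055b) (.leaf 0x423003350036d0037f))) (.node (.node (.leaf 0x3ad00359003b2000ad) (.leaf 0x4640028300364007a7)) (.node (.leaf 0x5390013e0002900516) (.leaf 0x60800537006e100659)))) (.node (.node (.node (.leaf 0x2ce0004a002cd002c8) (.leaf 0x7530023a005f5005a4)) (.node (.leaf 0x61c00589005b500108) (.leaf 0x797004d5000bb007b8))) (.node (.node (.leaf 0x4a3004a2004a1000a5) (.leaf 0x422003a4003ea0078b))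 (.node (.leaf 0x51f00201007130017c) (.leaf 0x14900735006c00074d))))))))

/-- part of right multiples by the generators -/
def tblT14 : Trie :=
  (.node (.node (.node (.node (.node (.node (.node (.leaf 0x33000320003100004) (.leaf 0x71d006fd006420018e)) (.node (.leaf 0x4c4004c3004c2004c1) (.leaf 0x4ac007c000776002ed))) (.node (.node (.leaf 0x30a003090029700308) (.leaf 0x57002c4007570036e)) (.node (.leaf 0x63e001110011000113) (.leaf 0x50c007d10076100432)))) (.node (.node (.node (.leaf 0x1c00018500003001bf) (.leaf 0x6e3005d500644005d7)) (.node (.leaf 0x589001a30058800563) (.leaf 0x3c0007ed00069004a3))) (.node (.node (.leaf 0x2710040f003800040e) (.leaf 0x7b8004c0007b7007b6)) (.node (.leaf 0x18200564005a100149) (.leaf 0x62600553005a00066c))))) (.node (.node (.node (.node (.leaf 0x103001020010100100) (.leaf 0x70e001b900517001bb)) (.node (.leaf 0x4f80041500509000ca) (.leaf 0x7f2004b0007dd00408))) (.node (.node (.leaf 0x39d0039c0039b00080)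 (.leaf 0x788002700078700394)) (.node (.leaf 0x552001290067a00588) (.leaf 0x47b004f2007ce007f7)))) (.node (.node (.node (.leaf 0x259000be0025800257) (.leaf 0x1c3005ff0074d0071d)) (.node (.leaf 0x14001d5005ea0059e) (.leaf 0x33c004b7007a7004b8))) (.node (.node (.leaf 0x3080028c0030b00466) (.leaf 0x7d50044c00398002bc)) (.node (.leaf 0x6f600166006110056e) (.leaf 0x71a0070b005b3005c8)))))) (.node (.node (.node (.node (.node (.leaf 0x9d0009c0009b0009a) (.leaf 0x72c005ec00538001a2)) (.node (.leaf 0x4ec004eb00281000ba) (.leaf 0x78c00435004a400437))) (.node (.node (.leaf 0x3580007d0035700356) (.leaf 0x29c003c40040100263)) (.node (.leaf 0x66e0066d0066c0052f) (.leaf 0x2a1007e0003e2004ec)))) (.node (.node (.node (.leaf 0x193000340020f00036) (.leaf 0x7490065000734005a8)) (.node (.leaf 0x5b6001b00057b001b1) (.leaf 0x2f50079e00060003b7))) (.node (.node (.leaf 0x284000870036c00089) (.leaf 0x7c6007a6004a2002a8)) (.node (.leaf 0x6df00156006de00534)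 (.leaf 0x24c0072f006aa006f8))))) (.node (.node (.node (.node (.leaf 0x167000200016600164) (.leaf 0x64c00717006cd001d3)) (.node (.leaf 0x549005480054700140) (.leaf 0x2dd0045f007f6007c6))) (.node (.node (.leaf 0x3e00032a003df0030c) (.leaf 0x79f0028000471003ce)) (.node (.leaf 0x35001aa006ae0050e) (.leaf 0x21600599007500064b)))) (.node (.node (.node (.leaf 0x258002b9002b800048) (.leaf 0x56000744000d600643)) (.node (.leaf 0x5f0006110002100610) (.leaf 0x37d0041f00309007df))) (.node (.node (.leaf 0x3bc0044d00495000a1) (.leaf 0x7b7002d300377002d5)) (.node (.leaf 0x70f006600070e0070d) (.leaf 0x562006230064a00745))))))) (.node (.node (.node (.node (.node (.node (.leaf 0x69000680006700066) (.leaf 0x6900072200621006fa)) (.node (.leaf 0x4db004da004d900338) (.leaf 0x74007bc002c8002f8))) (.node (.node (.leaf 0x32f000570032e0032b) (.leaf 0x4d5002c70031b00355)) (.node (.leaf 0x6510011600650001d6) (.leaf 0x46f007be0040c00410)))) (.node (.node (.node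 (.leaf 0x1e7001e6001b2001e5) (.leaf 0x6ce0068000541006a7)) (.node (.leaf 0x57b005a3005a2005a1) (.leaf 0x30200785007db00764))) (.node (.node (.leaf 0x428002dd0042700259) (.leaf 0x4e300472000c0002ce)) (.node (.leaf 0x605006d5005e300150) (.leaf 0x6f0006ae0014600638))))) (.node (.node (.node (.node (.leaf 0x1350001b001340012f) (.leaf 0x730001c800198001c9)) (.node (.leaf 0x166000d00052500520) (.leaf 0x7c7004f40005600383))) (.node (.node (.leaf 0x2ae003c0002ec003bf) (.leaf 0x78a0037400500003be)) (.node (.leaf 0x642005a50069f00171) (.leaf 0x736006df0058700666)))) (.node (.node (.node (.leaf 0x28b0028a0028900085) (.leaf 0x1970067d005db00707)) (.node (.leaf 0x592000fd005fa005f8) (.leaf 0x4b900786007ef003d1))) (.node (.node (.leaf 0x4800047f002710047e) (.leaf 0x34a003c7004450043e)) (.node (.leaf 0x5e60068a006bb006ac) (.leaf 0xd40074d0025000735)))))) (.node (.node (.node (.node (.node (.leaf 0xd0000cf000ce000cd) (.leaf 0x23000567005e5005de))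 (.node (.leaf 0x5002c6004340027a) (.leaf 0x777004e0003a100507))) (.node (.node (.leaf 0x377003760000800258) (.leaf 0x4650077e004430026a)) (.node (.leaf 0x65e001e20068100123) (.leaf 0x7d300464007f1007e7)))) (.node (.node (.node (.leaf 0x238000ce0017a0017e) (.leaf 0x71e006940003400523)) (.node (.leaf 0x5d4005d3005d2000f1) (.leaf 0x4a8004670032d00469))) (.node (.node (.leaf 0x2cd004550045400453) (.leaf 0x4f0007cb00481007a3)) (.node (.leaf 0x6e100514006a00055e) (.leaf 0x5df0071e001cc005a7))))) (.node (.node (.node (.node (.leaf 0x199001980019700196) (.leaf 0xe100713001ae001de)) (.node (.leaf 0x115000da0056b000db) (.leaf 0x2b1004dd0043b007b0))) (.node (.node (.leaf 0x3fb00257003fa000be) (.leaf 0x446004ea007640050c)) (.node (.leaf 0x675001ad002010023b) (.leaf 0x66b0053e0057c00540)))) (.node (.node (.node (.leaf 0x2e1002e000287002df) (.leaf 0x1e8006dc00732006bb)) (.node (.leaf 0x1d70062b0018d0059b) (.leaf 0xa0003d50042e003d6))) (.node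 (.node (.leaf 0x4aa004a90038e000a8) (.leaf 0x7d9002e2002b2002e3)) (.node (.leaf 0x683006120012d001b4) (.leaf 0xf4006fa0061900722))))))))

/-- part of right multiples by the generators -/
def tblT1 : Trie :=
  (.node (.node (.node (.node (.node (.node (.node (.leaf 0x7000060000500000) (.leaf 0x7160063d006bd00184)) (.node (.leaf 0x4ad003f6004ac003f7) (.leaf 0x47100400004a80079b))) (.node (.node (.leaf 0x2e9002ab002e8002e7) (.leaf 0x25005a80020b00650)) (.node (.leaf 0x51200630001f90062f) (.leaf 0x3530047600341007f9)))) (.node (.node (.node (.leaf 0x13e0019f0019e00026) (.leaf 0x744001df005fe0060a)) (.node (.leaf 0x571001af0057000525) (.leaf 0x7d0004e3007b600384))) (.node (.node (.leaf 0x40000254003c700077) (.leaf 0x7af002890076c003b6)) (.node (.leaf 0x6bb0054100234006b2) (.leaf 0x3a006e20052c00544))))) (.node (.node (.node (.node (.leaf 0xd9000d8000d700013) (.leaf 0x7040023b00596001ad)) (.node (.leaf 0x3b0000c30034f00324) (.leaf 0x2bf007bd0075e0075a)))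 (.node (.node (.leaf 0x37e0037d003690026d) (.leaf 0x3df00381004840077f)) (.node (.leaf 0x68600685006840059c) (.leaf 0x7e5007f90079300476)))) (.node (.node (.node (.leaf 0x23e000ea0023d0023c) (.leaf 0x6e0006a8001e70020e)) (.node (.leaf 0x53b0021a001af0021c) (.leaf 0x2e3003cd0077a004ff))) (.node (.node (.leaf 0x3aa002a700457002a9) (.leaf 0x30c004bb004ec002b4)) (.node (.leaf 0x183006ef0051100206) (.leaf 0x5c10073200593005a6)))))) (.node (.node (.node (.node (.node (.leaf 0x7100009000700006b) (.leaf 0x1f20065b0068c0019a)) (.node (.leaf 0x371004df004de00436) (.leaf 0x7ed002f90045e0046a))) (.node (.node (.leaf 0x33a003390033800337) (.leaf 0x764003a10034e0075b)) (.node (.leaf 0x1e600614005a700652) (.leaf 0x700041b003240041d)))) (.node (.node (.node (.leaf 0x1f0001ef0017d001ee) (.leaf 0x1a500714006b5006b1)) (.node (.leaf 0x5a70053f005a6000e6) (.leaf 0x470040800325004b0))) (.node (.node (.leaf 0x277000820042d0042b) (.leaf 0x7bf0049d007660029e))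 (.node (.leaf 0x57f0052100624006d6) (.leaf 0x5cd007230069700705))))) (.node (.node (.node (.node (.leaf 0x13f0012b0013e0013d) (.leaf 0x611005a000648006f2)) (.node (.leaf 0x247001590052a0015b) (.leaf 0x789005080030100328))) (.node (.node (.leaf 0x3c70006c003c6003c2) (.leaf 0x29d007980037100320)) (.node (.leaf 0x6a20013300211005ad) (.leaf 0x19100667001780070a)))) (.node (.node (.node (.leaf 0x29400044002930028d) (.leaf 0x727006830070d00524)) (.node (.leaf 0x17b005fd00246005fc) (.leaf 0x7ab003af0042b00780))) (.node (.node (.leaf 0x30e00487004860009d) (.leaf 0x7ad00355003f6002c7)) (.node (.leaf 0x7060016f006c300556) (.leaf 0x63b0071d00212005ff))))))) (.node (.node (.node (.node (.node (.node (.leaf 0x3d0003c0003b0003a) (.leaf 0x5ea0071f0066b00190)) (.node (.leaf 0x4c7000af0029e000b1) (.leaf 0x782002ee00078007b9))) (.node (.node (.leaf 0x30f0030e0006300053) (.leaf 0x75b002f30075a00256)) (.node (.leaf 0x12005490001800512) (.leaf 0x2fb004a000795007fd))))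 (.node (.node (.node (.leaf 0x1c7001c60016d001c5) (.leaf 0x1560058b0062500651)) (.node (.leaf 0x58c000e00058b0058a) (.leaf 0x7ce00759002a300375))) (.node (.node (.leaf 0x4130009400264002a0) (.leaf 0x2a8003160005b00317)) (.node (.leaf 0x5780024d0062e0065c) (.leaf 0x752006a50024e005bc))))) (.node (.node (.node (.node (.leaf 0x10c000170010b00105) (.leaf 0x5760070d0012400660)) (.node (.leaf 0x50d0050c004cf004ea) (.leaf 0x7f300329007aa00491))) (.node (.node (.leaf 0x3a100067002e3000c0) (.leaf 0x3f003440041a00345)) (.node (.leaf 0x54e005c7002200064f) (.leaf 0x397007c900783007f0)))) (.node (.node (.node (.leaf 0xcb0009f0026100260) (.leaf 0xf80059b007190062b)) (.node (.leaf 0x528005eb00573005cd) (.leaf 0x45d004a300347007ed))) (.node (.node (.leaf 0x31a000960027c0046b) (.leaf 0x7d7004ed0028800416)) (.node (.leaf 0x6fa00698006f9006de) (.leaf 0x5250070e0072e00730)))))) (.node (.node (.node (.node (.node (.leaf 0xa7000a6000a5000a4) (.leaf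 0x72e0068d0016e005b6)) (.node (.leaf 0x4f1004f0004e7004ef) (.leaf 0x270003eb00485004b1))) (.node (.node (.leaf 0x311002650035d0005d) (.leaf 0x3d8003670048e004bc)) (.node (.leaf 0x671001bc0051300249) (.leaf 0x7b007d2003f0007da)))) (.node (.node (.node (.leaf 0x215000350021400211) (.leaf 0x74a0020f0070100631)) (.node (.leaf 0x21f005bd005bc005bb) (.leaf 0x273004c500279004a1))) (.node (.node (.leaf 0xba0008800447002ae) (.leaf 0x44a007c8004cb002aa)) (.node (.leaf 0x1d0022a005ba0022b) (.leaf 0x21d0065d006e200654))))) (.node (.node (.node (.node (.leaf 0x171001700016f000f2) (.leaf 0x6d9001d4000e500710)) (.node (.leaf 0x551000d6005500054b) (.leaf 0x8b003fb007c20048b))) (.node (.node (.leaf 0x3e6003aa003e50035e) (.leaf 0x7a3004f8007a200787)) (.node (.leaf 0x6b2001d9006b10013c) (.leaf 0x6d80059a00248006c8)))) (.node (.node (.node (.leaf 0x2c1002c0002bf002be) (.leaf 0x725006b00018900515)) (.node (.leaf 0x5bd00117005f900590) (.leaf 0x2ed007dc007d9007dd)))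 (.node (.node (.leaf 0x49a004990004e000a3) (.leaf 0x3d6007b6000b7004c0)) (.node (.leaf 0x18e001fc00039001fd) (.leaf 0x587007160056300645))))))))

/-- part of right multiples by the generators -/
def tblT9 : Trie :=
  (.node (.node (.node (.node (.node (.node (.node (.leaf 0x2200021000200001f) (.leaf 0x712001cb0071a00719)) (.node (.leaf 0x26f004b8004a7004b7) (.leaf 0x4eb002e90048700767))) (.node (.node (.leaf 0x2fa00050002f9002f5) (.leaf 0x7230073f00556006cc)) (.node (.leaf 0x6360010e005a5005ed) (.leaf 0x7bc003e6007ff004a8)))) (.node (.node (.node (.leaf 0x1b400028001b3001ae) (.leaf 0x5cf006fb006fa0066f)) (.node (.leaf 0x582005810024100245) (.leaf 0x40f004ff000a2003cd))) (.node (.node (.leaf 0x3b500079003e10039f) (.leaf 0x7b3002f6003de002f7)) (.node (.leaf 0x635006c30022b006c2) (.leaf 0x72f006d7006320054f))))) (.node (.node (.node (.node (.leaf 0xf300015000f2000ec) (.leaf 0x218001b2006d5005d9)) (.node (.leaf 0x28f000c70029500331)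 (.leaf 0x4e100318003040031a))) (.node (.node (.leaf 0x391003900038f0038e) (.leaf 0x4ff00311004620075c)) (.node (.leaf 0x61f00127006760068b) (.leaf 0x490007c3000b100799)))) (.node (.node (.node (.leaf 0x24d0024c000150003d) (.leaf 0x739002120058c00669)) (.node (.leaf 0x5e500167005e40053d) (.leaf 0x2cf004fc002d3003df))) (.node (.node (.leaf 0x27e00092000830045e) (.leaf 0x7cd0045a0038900364)) (.node (.leaf 0x5bb006f3005c0006b4) (.leaf 0x7140075100531006aa)))))) (.node (.node (.node (.node (.node (.leaf 0x8c0008b0008a0000c) (.leaf 0x724005fa005290024a)) (.node (.leaf 0x4e80048500074003ba) (.leaf 0x42f007a4007a3004cf))) (.node (.node (.leaf 0x34f0034e0034d0034c) (.leaf 0x4950076c003450076b)) (.node (.leaf 0x65c00651006650058b) (.leaf 0x48007da007af007d2)))) (.node (.node (.node (.leaf 0x1da002040020300202) (.leaf 0x681001fe001ea00200)) (.node (.leaf 0x5b0000e8001bb001c1) (.leaf 0x7cc007e8003b600775))) (.node (.node (.leaf 0x3480043d0034c0043c)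 (.leaf 0x7bb002e5007c3007c2)) (.node (.leaf 0x69f001f700602006b3) (.leaf 0x15300577006ad005c2))))) (.node (.node (.node (.node (.leaf 0x158001570015600155) (.leaf 0x68b001cf00627006be)) (.node (.leaf 0x10012d00168000d4) (.leaf 0x7e20032c003ec004c9))) (.node (.node (.leaf 0x3d7003d600259003d5) (.leaf 0x41b0079c004200075d)) (.node (.leaf 0x6aa00137001be005b5) (.leaf 0x14d00753005dc0064a)))) (.node (.node (.node (.leaf 0x2ac00046002ab002a5) (.leaf 0x5af0069f0010f0056d)) (.node (.leaf 0x60a006090060800607) (.leaf 0x30900478007a4007d0))) (.node (.node (.leaf 0x492002d0003f200393) (.leaf 0x332002cc0077e00439)) (.node (.leaf 0x70a001dc0057e001dd) (.leaf 0x6410064a0052100753))))))) (.node (.node (.node (.node (.node (.node (.leaf 0x59000580005700056) (.leaf 0x527001950060f005d8)) (.node (.leaf 0x27d0029a0033d004d3) (.leaf 0x3a2002f4007ec00494))) (.node (.node (.leaf 0x3250032400323000c3) (.leaf 0x50400259002f6002dd)) (.node (.leaf 0x226005d40059b0052b)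 (.leaf 0x2f2004620046100409)))) (.node (.node (.node (.leaf 0x1d9001d8001d700106) (.leaf 0x6db001f1006c6001f3)) (.node (.leaf 0x59c000e300548000e5) (.leaf 0x29600395004c40035a))) (.node (.node (.leaf 0x3c40008a0027300420) (.leaf 0x430076e007bd0043f)) (.node (.leaf 0x6d100595006d0006cf) (.leaf 0x1d0006840020d00749))))) (.node (.node (.node (.node (.leaf 0x125001240012300122) (.leaf 0x211005b30073c0073b)) (.node (.leaf 0x51a00519005180019e) (.leaf 0x25a007740045300776))) (.node (.node (.leaf 0x3b600261003b50006a) (.leaf 0x7950035c00506003b9)) (.node (.leaf 0x59a00176001e40020d) (.leaf 0x74f00691000fd005f2)))) (.node (.node (.node (.leaf 0x27c0027b0027a00279) (.leaf 0x711006ab006a80063c)) (.node (.leaf 0x113001920056a000fb) (.leaf 0x2eb004ad004580047d))) (.node (.node (.leaf 0x477003710047600307) (.leaf 0x7da004480028400449)) (.node (.leaf 0x11b006a3001b5006a4) (.leaf 0x177005d20070000728)))))) (.node (.node (.node (.node (.node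 (.leaf 0xc0000bf000be000bd) (.leaf 0x731005e80016a005e9)) (.node (.leaf 0x4970025a003e4003a8) (.leaf 0x7840030b0076f0030d))) (.node (.node (.leaf 0x36d00286000a7000cc) (.leaf 0x77a003f50077900778)) (.node (.leaf 0x62b001210067c00678) (.leaf 0x7dd0045c0008c0045d)))) (.node (.node (.node (.leaf 0x22d0022c001d900038) (.leaf 0x140006cb005f3006cd)) (.node (.leaf 0x244000ee005c9000f0) (.leaf 0x4b200457004b30037c))) (.node (.node (.leaf 0x44f0044e003f90008c) (.leaf 0x387002af0046f00438)) (.node (.leaf 0x6ec00242006a600559) (.leaf 0x5da006100010c00611))))) (.node (.node (.node (.node (.leaf 0x18a001890018800187) (.leaf 0x542001da0074300634)) (.node (.leaf 0x5630056200561000d9) (.leaf 0x7ba0050b005080049c))) (.node (.node (.leaf 0x3f0002b70030700352) (.leaf 0xae00503002cf00504)) (.node (.leaf 0x6a40013f001dc001c3) (.leaf 0x5d700727006dc00618)))) (.node (.node (.node (.leaf 0x2d6002d5002d4002d3) (.leaf 0x17c005350066400240)) (.node (.leaf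 0x1bd006210053e00518) (.leaf 0x4b3007df000890041f))) (.node (.node (.leaf 0x4a7004a6004a500313) (.leaf 0x32b00413007e5007e4)) (.node (.leaf 0x21006c500714005df) (.leaf 0x62700741006d800701))))))))

/-- part of right multiples by the generators -/
def tblT5 : Trie :=
  (.node (.node (.node (.node (.node (.node (.node (.leaf 0x15000140001300012) (.leaf 0x717002440055d0054a)) (.node (.leaf 0xb0003f000328000aa) (.leaf 0x360002e6007de0042c))) (.node (.node (.leaf 0x2f00004f002ef00051) (.leaf 0x6d4006e80068a0062d)) (.node (.leaf 0x633001ca0059f0022d) (.leaf 0x366007d80050a007a1)))) (.node (.node (.node (.leaf 0x1a9001a8000d5000de) (.leaf 0x67e00229001c7006ed)) (.node (.leaf 0x5610057b001ec0057a) (.leaf 0x4110034100798004d2))) (.node (.node (.leaf 0x4040008e003ce002ac) (.leaf 0x406003bd0005e00315)) (.node (.leaf 0x6c00053d0016100167) (.leaf 0x6f90069e0014d00578))))) (.node (.node (.node (.node (.leaf 0xe6000e5000e4000e3) (.leaf 0x1e5006f4001e80069b))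 (.node (.leaf 0x500003b60043900289) (.leaf 0x4bd004f3004c1007f1))) (.node (.node (.leaf 0x7e003880038700386) (.leaf 0x7830026d007820037d)) (.node (.leaf 0x203001250019f00551) (.leaf 0x3c200483004aa007ee)))) (.node (.node (.node (.leaf 0x2450003b002440014b) (.leaf 0x54b006b10067b00714)) (.node (.leaf 0x5b9000f3005de0016d) (.leaf 0x330003f9007f9004ab))) (.node (.node (.leaf 0x45b0032f0039300091) (.leaf 0x35d004b30048b004b5)) (.node (.leaf 0x6790016000135001ac) (.leaf 0x6d5006680065a00688)))))) (.node (.node (.node (.node (.node (.leaf 0x800007f0007e0000b) (.leaf 0x243006530062b00655)) (.node (.leaf 0x4b70048800367004e2) (.leaf 0x4de00343002e100796))) (.node (.node (.leaf 0xaa003450028a00344) (.leaf 0x7690039d0027b00281)) (.node (.leaf 0x5530065c0065b0024d) (.leaf 0x7c3007b40041300428)))) (.node (.node (.node (.leaf 0x1f9001f8001f7001f6) (.leaf 0x65d006930066100748)) (.node (.leaf 0x5aa000e7005a9000e9) (.leaf 0x77d00791004ea0048d)))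 (.node (.node (.leaf 0x438004370043600435) (.leaf 0x7c00035e003bd003aa)) (.node (.leaf 0x6da00153006d90051d) (.leaf 0x536005dc000ed005dd))))) (.node (.node (.node (.node (.leaf 0x14b0014a0014900148) (.leaf 0x246001cc00735005cc)) (.node (.leaf 0x535001310053400132) (.leaf 0x3ab0075a004db007bd))) (.node (.node (.leaf 0x3cd00097003cc0033d) (.leaf 0x4d90027a000c8002c6)) (.node (.leaf 0x6a70014300672001c0) (.leaf 0x73e005a20063600558)))) (.node (.node (.node (.leaf 0x2a0000450029f00299) (.leaf 0x5b100227006ef00672)) (.node (.leaf 0xcf005a90060300602) (.leaf 0x486003b300400004cc))) (.node (.node (.leaf 0x3560048c000ac0009e) (.leaf 0x2ff0079d00302004fb)) (.node (.leaf 0x5a60055d0003c001fb) (.leaf 0x1d20062f0010600630))))))) (.node (.node (.node (.node (.node (.node (.leaf 0x4a000490004800047) (.leaf 0x6f40024e006d70024f)) (.node (.leaf 0x4cf002df00275002e0) (.leaf 0x3ee0076b007920076c))) (.node (.node (.leaf 0x31b0031a0031900318) (.leaf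 0x3f4004520075f004f1)) (.node (.leaf 0x27005270061e00585) (.leaf 0x43f007c7002e600407)))) (.node (.node (.node (.leaf 0x13a0002c0018f0011d) (.leaf 0x6ea00243006ba00550)) (.node (.leaf 0x5950018a00594000e2) (.leaf 0x4b8004fd002f800447))) (.node (.node (.leaf 0x317004190041800417) (.leaf 0x7800399004a000473)) (.node (.leaf 0x59100699006ca00220) (.leaf 0x12f006cc007180073f))))) (.node (.node (.node (.node (.leaf 0x119001180011700033) (.leaf 0x5de001be005d80073a)) (.node (.leaf 0x510000cd001bf000cf) (.leaf 0x7cf00322007f400425))) (.node (.node (.leaf 0x3ac003ab003aa00069) (.leaf 0x3100037b00316003b5)) (.node (.leaf 0x66c005e1005e00051e) (.leaf 0x87007a300479007cb)))) (.node (.node (.node (.leaf 0x26e000400026d00267) (.leaf 0xf7006f600036006e7)) (.node (.leaf 0xd7000f900530005ee) (.leaf 0x4cb0039e003dc003a0))) (.node (.node (.leaf 0x442002ce0047300472) (.leaf 0x3bb0048e0033e002bf)) (.node (.leaf 0x5c0006fe001a000169) (.leaf 0x24b0066a006670066b))))))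 (.node (.node (.node (.node (.node (.leaf 0xb2000b1000b0000af) (.leaf 0x55b0062e00224001a5)) (.node (.leaf 0x4ae003bb00071003bc) (.leaf 0x7930035d00763003b0))) (.node (.node (.leaf 0x60030400365002d4) (.leaf 0x3f1004f9007730033a)) (.node (.leaf 0x19c0067600675005f0) (.leaf 0x67007f60036a007de)))) (.node (.node (.node (.leaf 0x223002220022100037) (.leaf 0x726002080074b005c5)) (.node (.leaf 0x136005ab005740019b) (.leaf 0x7df00788003e7004c6))) (.node (.node (.leaf 0x35b00420000860008a) (.leaf 0x79d003680078000369)) (.node (.leaf 0x1f60051b001fc00555) (.leaf 0x6d20061d0056f0064d))))) (.node (.node (.node (.node (.leaf 0x14c0017d0017c0017b) (.leaf 0x58e006c2006e9006c3)) (.node (.leaf 0x55a000d70055900147) (.leaf 0x8a0079f0005800790))) (.node (.node (.leaf 0x3b7003ea000af00073) (.leaf 0x420007a7002ba00283)) (.node (.leaf 0x594005f2006b600691) (.leaf 0xcd006ec000d3006a9)))) (.node (.node (.node (.leaf 0x2cc002cb00285002ca) (.leaf 0x6580069d001de005e7))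 (.node (.leaf 0x600001070061b00109) (.leaf 0x799007570026000498))) (.node (.node (.leaf 0x4a00046d0026c0049f) (.leaf 0x43e002d800438007e3)) (.node (.leaf 0xe5005390064000613) (.leaf 0x1a8006d4002050074c))))))))

/-- part of right multiples by the generators -/
def tblT13 : Trie :=
  (.node (.node (.node (.node (.node (.node (.node (.leaf 0x300002f0002e0002d) (.leaf 0x71c002460023f00247)) (.node (.leaf 0x4c0000ad004bf00359) (.leaf 0x76d0030f00451004f7))) (.node (.node (.leaf 0x307003060030500052) (.leaf 0x1b900682006f100628)) (.node (.leaf 0x526001100063d00639) (.leaf 0x4c60045100435003ee)))) (.node (.node (.node (.leaf 0x1be001bd001540002a) (.leaf 0x746005bc0070c006a5)) (.node (.leaf 0x1a6000df000d2000e1) (.leaf 0x7d200431004030034a))) (.node (.node (.leaf 0x38a002db0040d0007b) (.leaf 0x9c0031d0046900292)) (.node (.leaf 0x24f006620061c0018c) (.leaf 0x10b0074f000f1005c6))))) (.node (.node (.node (.node (.leaf 0xff00016000fe000f8)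 (.leaf 0x6ed001ee0054d001ef)) (.node (.leaf 0x444003910005900325) (.leaf 0x29b00782002a1007b5))) (.node (.node (.leaf 0x39a000660039900068) (.leaf 0x775003940078600270)) (.node (.leaf 0x6940067c0069300233) (.leaf 0x263007de00769007f6)))) (.node (.node (.node (.leaf 0x25600255002540003e) (.leaf 0x5d200214006f6006c6)) (.node (.leaf 0x12000162005710059f) (.leaf 0x468003970078a004b9))) (.node (.node (.leaf 0x376002a00029100094) (.leaf 0x7d4007d3003a0002d1)) (.node (.leaf 0x102006c10021600689) (.leaf 0x21b005c6006600074f)))))) (.node (.node (.node (.node (.node (.leaf 0x9900098000970000d) (.leaf 0x72b0072a00540001b7)) (.node (.leaf 0x4ea004600038800305) (.leaf 0x7ef0041c007b500505))) (.node (.node (.leaf 0x35500269003540026b) (.leaf 0x369004c20047c002a6)) (.node (.leaf 0x5830066b005770066a) (.leaf 0x3290078f007b4007d6)))) (.node (.node (.node (.leaf 0x20e0020d0020c00176) (.leaf 0x181006d9001870070c)) (.node (.leaf 0x5b50023c0023b000ea)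 (.leaf 0x2d3004e20079a00488))) (.node (.node (.leaf 0x4430037e0044200441) (.leaf 0x7c5003600035900361)) (.node (.leaf 0x6cc00534006dd00156) (.leaf 0x12c0057c0072200664))))) (.node (.node (.node (.node (.leaf 0x165001640016300020) (.leaf 0x6c4001f5005f100697)) (.node (.leaf 0x546005450002700141) (.leaf 0x4320032e0079f0076f))) (.node (.node (.leaf 0x3de00070003dd002c5) (.leaf 0x950076a00330004e9)) (.node (.leaf 0x10f0066c0020600553) (.leaf 0x23200756006df0065f)))) (.node (.node (.node (.leaf 0x2b7002b6002b500268) (.leaf 0x729005d1005a300230)) (.node (.leaf 0x2330060f0055c0060e) (.leaf 0x7b9003ba007b800485))) (.node (.node (.leaf 0x3b90025600343002f3) (.leaf 0x79600308003ad00309)) (.node (.leaf 0x109002030060900178) (.leaf 0x1610068e001ee006d1))))))) (.node (.node (.node (.node (.node (.node (.leaf 0x6500008000640000a) (.leaf 0x12400197005e900721)) (.node (.leaf 0x417004d8000ab000b4) (.leaf 0x40c007b5007ad00782))) (.node (.node (.leaf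 0x32d000930000700095) (.leaf 0x3dd0025b0050c003a5)) (.node (.leaf 0x360058d001a60058f) (.leaf 0x3d3007e1007da004ce)))) (.node (.node (.node (.leaf 0x1e4001e3001e2001e1) (.leaf 0x682005a10059c005a3)) (.node (.leaf 0x24e000e4001390013a) (.leaf 0x326004f5004d700446))) (.node (.node (.leaf 0x4260029300425003ac) (.leaf 0x7be004d30048c0029a)) (.node (.leaf 0x63f00525005fb001af) (.leaf 0x6ef005e50013b006a0))))) (.node (.node (.node (.node (.leaf 0x13300132000e200131) (.leaf 0x51b001c7006b900739)) (.node (.leaf 0x5240024b0052300522) (.leaf 0x4ef007b1003b800326))) (.node (.node (.leaf 0x3b400393003be002d0) (.leaf 0x28c003e50079700387)) (.node (.leaf 0x69e006350069d00513) (.leaf 0x6cb006a6001bd00569)))) (.node (.node (.node (.leaf 0x288002870028600086) (.leaf 0x6030067e0019000582)) (.node (.leaf 0x58f0019e0051000519) (.leaf 0x7f4007870047f004f8))) (.node (.node (.leaf 0x2990009b0047d003e9) (.leaf 0x378002c300482007a5)) (.node (.leaf 0x5a9001820002b0057d)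 (.leaf 0x6a5005db005d7006f1)))))) (.node (.node (.node (.node (.node (.leaf 0xcc000cb000ca000c9) (.leaf 0x518001a900622006fc)) (.node (.leaf 0x2f7003ff004f80027c) (.leaf 0x4e200401003fc00403))) (.node (.node (.leaf 0x375002980037400061) (.leaf 0x49f003850045b002c9)) (.node (.leaf 0x680001d20003d00165) (.leaf 0x7a5004db003460045b)))) (.node (.node (.node (.leaf 0x237002360018100039) (.leaf 0x68f00708005580020c)) (.node (.leaf 0x5d100174005d0005cf) (.leaf 0x3cb0038300318004f4))) (.node (.node (.leaf 0x3830008d002570008f) (.leaf 0xb7002b100449007ca)) (.node (.leaf 0x17200585006ee00527) (.leaf 0x5d000641006c900665))))) (.node (.node (.node (.node (.leaf 0x1950012e0019400193) (.leaf 0x5ac0070c00704006d9)) (.node (.leaf 0x22f0056a0056900163) (.leaf 0x463004de002aa003e2))) (.node (.node (.leaf 0x3f900075003f8002a4) (.leaf 0x4090029c0004d003dd)) (.node (.leaf 0x57d00141006ac00545) (.leaf 0x1010074c00652006d4)))) (.node (.node (.node (.leaf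 0x297002de002dd002dc) (.leaf 0x20c0069500677005e6)) (.node (.leaf 0x2400010a0062a00627) (.leaf 0x4ca0040e007b20040f))) (.node (.node (.leaf 0x38f000a7002e0003f1) (.leaf 0x37b002e100762007e2)) (.node (.leaf 0x715006730062c00180) (.leaf 0x12b007430059d00711))))))))

/-- part of right multiples by the generators -/
def tblT3 : Trie :=
  (.node (.node (.node (.node (.node (.node (.node (.leaf 0xd000000000c00006) (.leaf 0x6a300184005440063d)) (.node (.leaf 0x58003ed002c0003ef) (.leaf 0x484003200041600798))) (.node (.node (.leaf 0x97002eb002cb002ea) (.leaf 0x755005790023600248)) (.node (.leaf 0x632001b60059200533) (.leaf 0x4f2004c400493003dc)))) (.node (.node (.node (.leaf 0x1a300026001a20019f) (.leaf 0x67300745006ab00623)) (.node (.leaf 0x577005760013f00575) (.leaf 0x7b1004e1003a300768))) (.node (.node (.leaf 0x36800077000cc00254) (.leaf 0x4c8002a20049400497)) (.node (.leaf 0x1b0006bd001110065e) (.leaf 0x6bc0063a0023100742))))) (.node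 (.node (.node (.node (.leaf 0xde00013000dd000d8) (.leaf 0x1c0056f00109006b6)) (.node (.leaf 0x4fe00495004fd00373) (.leaf 0x810077a00087004ee))) (.node (.node (.leaf 0x384003650038300382) (.leaf 0x7800026c004f0004b6)) (.node (.leaf 0x68800625000e10055a) (.leaf 0x5d007fd007e3004a0)))) (.node (.node (.node (.leaf 0x242002410024000119) (.leaf 0x6020020e005ef006a8)) (.node (.leaf 0x22e005dd00232005dc) (.leaf 0x37400389004f100475))) (.node (.node (.leaf 0x3ef002b80037000379) (.leaf 0x45a002b4007cc004bb)) (.node (.leaf 0x613005cf005ff00174) (.leaf 0x5d5007490021c00684)))))) (.node (.node (.node (.node (.node (.leaf 0x79000780007700076) (.leaf 0x5fa0019a007230065b)) (.node (.leaf 0x4e0002ec0005f0027f) (.leaf 0x4d3007ee0050b00483))) (.node (.node (.leaf 0x341003400033f0033e) (.leaf 0x2ca00766000a4004be)) (.node (.leaf 0x155006580064700657) (.leaf 0x499007a1007f0007d8)))) (.node (.node (.node (.leaf 0x16c001f3001f2001f1) (.leaf 0xee006d1000f40068e))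 (.node (.leaf 0x555000e6005810053f) (.leaf 0x7fe003d90035000362))) (.node (.node (.leaf 0x4310028e004300042f) (.leaf 0x5030029e003a40049d)) (.node (.leaf 0x6d7001520069000656) (.leaf 0xe4007550064f005be))))) (.node (.node (.node (.node (.leaf 0x145001440014300142) (.leaf 0x62400206005b6006ef)) (.node (.leaf 0x531005300052f0052e) (.leaf 0x462003280044f00508))) (.node (.node (.leaf 0x349003ca003c90027d) (.leaf 0x4730042f0045f0028e)) (.node (.leaf 0x175001340017b00217) (.leaf 0x6180057a007440057b)))) (.node (.node (.node (.leaf 0x29a002990029800045) (.leaf 0x7080068100543006bf)) (.node (.leaf 0x164000ff000f0005fe) (.leaf 0x7b4003b20045d003b4))) (.node (.node (.leaf 0x35a0009d0048a00487) (.leaf 0x3e003cf0009c0075f)) (.node (.leaf 0x668001880063400637) (.leaf 0x71f005f300755005f5))))))) (.node (.node (.node (.node (.node (.node (.leaf 0x44000430004200041) (.leaf 0x6e8005f90067800686)) (.node (.leaf 0x3e3004cb003d7004ca) (.leaf 0x33e0077800344003f5)))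 (.node (.node (.leaf 0x31500053003140030e) (.leaf 0x3d5003b0003da0035d)) (.node (.leaf 0x6470064600645001f9) (.leaf 0x28a0047e004600047f)))) (.node (.node (.node (.leaf 0x1cc0011d001cb0002c) (.leaf 0x160050f006cf005f4)) (.node (.leaf 0x5900019d001ed00238) (.leaf 0x779004a5003a6007bf))) (.node (.node (.leaf 0x41500356003550007d) (.leaf 0x4d00042a007ba00418)) (.node (.leaf 0x22a0015d006c8001e9) (.leaf 0x12a00558005ae005a2))))) (.node (.node (.node (.node (.leaf 0x114001130011200111) (.leaf 0x73b0073a00721001be)) (.node (.leaf 0xa2004cc00320003b3) (.leaf 0x3be004250078c00322))) (.node (.node (.leaf 0x3a6003a5000490025b) (.leaf 0x78f0078e003580036d)) (.node (.leaf 0x637001400058400548) (.leaf 0x44e00769007c7007e9)))) (.node (.node (.node (.leaf 0x268002670026600040) (.leaf 0x6be0059d001db00219)) (.node (.leaf 0x5ef005ee00599000f9) (.leaf 0x4f60039a007fb0040a))) (.node (.node (.leaf 0x34d0046f003bc0046e) (.leaf 0x418002be002b4002c0))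 (.node (.leaf 0x6bf001680015e0016a) (.leaf 0x70d005cd000ff005eb)))))) (.node (.node (.node (.node (.node (.leaf 0xac000ab000aa00055) (.leaf 0x5b8001a40019a001a6)) (.node (.leaf 0x4f4004dc004f30034d) (.leaf 0xc0036f0077800454))) (.node (.node (.leaf 0x36200361002c100360) (.leaf 0x344002770077100303)) (.node (.leaf 0x163001800022300673) (.leaf 0x4ab0079a004230043b)))) (.node (.node (.node (.leaf 0xd80021c0021b0021a) (.leaf 0x55e005c5006e300208)) (.node (.leaf 0x564000f700159005c0) (.leaf 0x32100372002e7003a9))) (.node (.node (.leaf 0xb30027c003d1003ff) (.leaf 0x79100459004d8004e6)) (.node (.leaf 0x6e6006e50023e00253) (.leaf 0x18f00674006a1006b8))))) (.node (.node (.node (.node (.leaf 0x178001770017600175) (.leaf 0x224006cf0022a00595)) (.node (.leaf 0x5560014700555000d7) (.leaf 0x767003fd002f500333))) (.node (.node (.leaf 0x2c0000720006500074) (.leaf 0x768002820027800284)) (.node (.leaf 0x575005500057a00243) (.leaf 0x72d006b6001b40056f))))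 (.node (.node (.node (.leaf 0x2c6002c5002c400070) (.leaf 0x6d0006450054600716)) (.node (.leaf 0x6170051100616001ed) (.leaf 0xb9003c9000bd00506))) (.node (.node (.leaf 0x386000a30049d00499) (.leaf 0x7e4007e3007ca002d8)) (.node (.leaf 0x670005ca00711005b8) (.leaf 0x6b60065a005cc006c7))))))))

/-- part of right multiples by the generators -/
def tblT11 : Trie :=
  (.node (.node (.node (.node (.node (.node (.node (.leaf 0x28000270002600025) (.leaf 0x5200019b00716005ab)) (.node (.leaf 0x3b3004bc004bb00367) (.leaf 0x382002ea00386002eb))) (.node (.node (.leaf 0x30100300002cc002ff) (.leaf 0x75600679006db00250)) (.node (.leaf 0x63a006390002c00110) (.leaf 0x41e007ce002bd003ec)))) (.node (.node (.node (.leaf 0x1b8000290012c0002b) (.leaf 0x58d001e40018600671)) (.node (.leaf 0x5860054a0058500244) (.leaf 0x7f5003480038200349))) (.node (.node (.leaf 0x40a0007a004090007c) (.leaf 0x3a7004910075c00329)) (.node (.leaf 0x1c600517006c4001ff) (.leaf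 0x13b006d800606005f6))))) (.node (.node (.node (.node (.leaf 0xf9000f8000f700016) (.leaf 0x56e001b7006960072a)) (.node (.leaf 0x5070025d004d2002da) (.leaf 0x4830043f007960076e))) (.node (.node (.leaf 0x395000c400394000c5) (.leaf 0x3790026f002a400271)) (.node (.leaf 0x69100690006870068f) (.leaf 0x303004bf007e6007ff)))) (.node (.node (.node (.leaf 0x2520003d002510024c) (.leaf 0x17900213007050072c)) (.node (.leaf 0x127000f5005e700194) (.leaf 0x363004b9004d300397))) (.node (.node (.leaf 0x62004090046300462) (.leaf 0x7d1002ba0046e002bb)) (.node (.leaf 0x621005b4006f50056b) (.leaf 0x234005be001dd00755)))))) (.node (.node (.node (.node (.node (.leaf 0x920000c000910008b) (.leaf 0x728001a00060e001a1)) (.node (.leaf 0x31d000b8002b9003b1) (.leaf 0x3ed002fe002a0004d1))) (.node (.node (.leaf 0x352000610029400298) (.leaf 0x2e0003770076d00319)) (.node (.leaf 0x6670011c001840011e) (.leaf 0x4020077000490004ba)))) (.node (.node (.node (.leaf 0x208000330020700118)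 (.leaf 0x623005df006ed006c5)) (.node (.leaf 0x5b3001010014a00186) (.leaf 0x7ff004d9007840036a))) (.node (.node (.leaf 0x419000860043e00287) (.leaf 0x380002b5007bf0040b)) (.node (.leaf 0x519001550018a00157) (.leaf 0x58b006eb000ea006f7))))) (.node (.node (.node (.node (.leaf 0x15e0001f0015d00021) (.leaf 0x522001d000526001d1)) (.node (.leaf 0x541000d4001c90012d) (.leaf 0x2930032d007ae007d5))) (.node (.node (.leaf 0x3c1003db00306003da) (.leaf 0x481004140079e003cb)) (.node (.leaf 0x6ad006ac0066f0068a) (.leaf 0x663006150075400529)))) (.node (.node (.node (.leaf 0x2b3002b2002b1002b0) (.leaf 0x74c0022e005220022f)) (.node (.leaf 0x20000103001620060b) (.leaf 0x76c007ab002eb007bb))) (.node (.node (.leaf 0x493002e4003ff00347) (.leaf 0x3ce002d1004f6007d3)) (.node (.leaf 0x54700631006b30020f) (.leaf 0x71900617006d3006da))))))) (.node (.node (.node (.node (.node (.node (.leaf 0x5f0005e0005d0005c) (.leaf 0x60b007210061500197)) (.node (.leaf 0x2b6004d6004d500450)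 (.leaf 0x7eb004af0077400427))) (.node (.node (.leaf 0x2ad000560032900058) (.leaf 0x46e003b5004700037b)) (.node (.leaf 0x64d005960064c00597) (.leaf 0x3a500424007fc007c4)))) (.node (.node (.node (.leaf 0x1de001dd000ec001dc) (.leaf 0x747001f2000d900210)) (.node (.leaf 0x5a00013a00567000e4) (.leaf 0x7ec005000029900445))) (.node (.node (.leaf 0xc90040b003d4002b5) (.leaf 0x3e5004d100054002fe)) (.node (.leaf 0x53f0061c005c80053b) (.leaf 0x75100566001f300601))))) (.node (.node (.node (.node (.leaf 0x12d0012c0012b0012a) (.leaf 0x23d00620006490073d)) (.node (.leaf 0x51e0051d0024f00153) (.leaf 0x28200421007b300423))) (.node (.node (.leaf 0x3ba0006a003b900261) (.leaf 0x4740034f0008100276)) (.node (.leaf 0x55000130002350020a) (.leaf 0x105006d60073800521)))) (.node (.node (.node (.leaf 0x28100042002800027e) (.leaf 0x5d30073d0011b00620)) (.node (.leaf 0x54a0018d005f70018f) (.leaf 0x283003a6002fa007cf))) (.node (.node (.leaf 0x4600009a0047b0009c)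 (.leaf 0xaf007dd000b5007dc)) (.node (.leaf 0x62c0016b00702006ba) (.leaf 0x6620071800717005da)))))) (.node (.node (.node (.node (.node (.leaf 0xc6000c500075000c4) (.leaf 0x11c007340012200733)) (.node (.leaf 0x4cc00441004400037e) (.leaf 0x7f00030c0006c0032a))) (.node (.node (.leaf 0x37000060002d900062) (.leaf 0x39f0047c004280039b)) (.node (.leaf 0x5110067f0067e005d6) (.leaf 0x319004e6002a600459)))) (.node (.node (.node (.leaf 0x23100038002300022c) (.leaf 0x168005c10070a005c3)) (.node (.leaf 0x15d000ef005cd005cb) (.leaf 0x7a8003d800497004fe))) (.node (.node (.leaf 0x6a0008c003900044e) (.leaf 0x46b007ca00475002b1)) (.node (.leaf 0x61400235000ee0015c) (.leaf 0x5eb006f700249006eb))))) (.node (.node (.node (.node (.leaf 0x1900018f0018e0018d) (.leaf 0x7420064f006cb005c7)) (.node (.leaf 0x567000d90056600562) (.leaf 0x433007e6000ae00480))) (.node (.node (.leaf 0x3f5002a4003f400075) (.leaf 0x48c00285007ab00763)) (.node (.leaf 0x60e00555006100051b)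 (.leaf 0x6b9005aa006f80053a)))) (.node (.node (.node (.leaf 0x2da0029f00006002d9) (.leaf 0x743006a00017f005e5)) (.node (.leaf 0x1f400627006260010a) (.leaf 0x7dc004890041b003d2))) (.node (.node (.leaf 0x49003870047e003e5) (.leaf 0x35700480004a9007e6)) (.node (.leaf 0x5850067100032001e4) (.leaf 0x5fc0068c0070700737))))))))

/-- part of right multiples by the generators -/
def tblT7 : Trie :=
  (.node (.node (.node (.node (.node (.node (.node (.leaf 0x1b0001a0001900018) (.leaf 0x21a005b00021d00715)) (.node (.leaf 0x3000047400407004b2) (.leaf 0x778007670077b002e9))) (.node (.node (.leaf 0x8e002f5002f400050) (.leaf 0x71800574007150063e)) (.node (.leaf 0x5590013c00229001d9) (.leaf 0x47d003e2007eb004de)))) (.node (.node (.node (.leaf 0x1af001ae001ad00028) (.leaf 0x6af001e1001d6001e3)) (.node (.leaf 0x57e000dd0057d001ab) (.leaf 0x27900342007fa0048a))) (.node (.node (.leaf 0x4070039f0040600079) (.leaf 0x77c00466003100028c)) (.node (.leaf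 0xe9001fb006b70055d) (.leaf 0x659006dd0074600571))))) (.node (.node (.node (.node (.leaf 0xed000ec000eb00015) (.leaf 0x721005e60012f00695)) (.node (.leaf 0x502000c60032b0040d) (.leaf 0x2be003bf002ff003c0))) (.node (.node (.leaf 0x361002730038a00275) (.leaf 0x7850027400504003a7)) (.node (.leaf 0x68a0060000528001eb) (.leaf 0x7db0050a007dc007fa)))) (.node (.node (.node (.leaf 0x24a0024900171001bc) (.leaf 0xf2006b8005a800674)) (.node (.leaf 0x5e30051e005e2005e1) (.leaf 0x509007d400339007f3))) (.node (.node (.leaf 0x2950045d003600045c) (.leaf 0x27400351003bb0047b)) (.node (.leaf 0x62d005de006f300567) (.leaf 0x60f00715005ac005b0)))))) (.node (.node (.node (.node (.node (.leaf 0x860000b000850007f) (.leaf 0x15a002370055b0061b)) (.node (.leaf 0x4e6004e5004e4003fc) (.leaf 0x758002fb002f0002fd))) (.node (.node (.leaf 0x76003490007a00348) (.leaf 0x7c0031500760003bd)) (.node (.leaf 0x6600011a0065f0023f) (.leaf 0x48200779003d500792)))) (.node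 (.node (.node (.leaf 0x150001fd000fc001fc) (.leaf 0x1a40055f001e500560)) (.node (.leaf 0x52a001c1005ad000e8) (.leaf 0x7c1003d4007be0049e))) (.node (.node (.leaf 0x39b00334002c900336) (.leaf 0x3340041000337007be)) (.node (.leaf 0x6dc0015a006a400547) (.leaf 0x10d00575005ce00576))))) (.node (.node (.node (.node (.leaf 0x15200151001500014f) (.leaf 0x6cf006be006d2001cf)) (.node (.leaf 0x53a000d300539000d5) (.leaf 0x850076100408004d4))) (.node (.node (.leaf 0x3d1002c9003d000385) (.leaf 0x48d0043e0079c003c7)) (.node (.leaf 0x5e400531000370020b) (.leaf 0x648006070021300609)))) (.node (.node (.node (.leaf 0x2a6002a50001000046) (.leaf 0x15f00228007510062a)) (.node (.leaf 0x516001860017700101) (.leaf 0x4df007b8000a6004d5))) (.node (.node (.leaf 0x37200490003130048f) (.leaf 0x7ca00446000c2004f5)) (.node (.leaf 0x6d300606001f600172) (.leaf 0x72a00604007480073e))))))) (.node (.node (.node (.node (.node (.node (.leaf 0x5200051000500004f) (.leaf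 0x720005d80013800195)) (.node (.leaf 0x4d1002d60037300363) (.leaf 0x7ac007eb007d50049a))) (.node (.node (.leaf 0x320002f10028e0031f) (.leaf 0x7600038b004bd00434)) (.node (.leaf 0x52f00114001c600591) (.leaf 0x910046e004b70046f)))) (.node (.node (.node (.leaf 0x1d400165001d3001d2) (.leaf 0x6dd001f00058900583)) (.node (.leaf 0x599000e2005980018a) (.leaf 0x4660049f004670046d))) (.node (.node (.leaf 0x3390041d0041c0041b) (.leaf 0x68002960041f0031b)) (.node (.leaf 0x678006cd006cc006cb) (.leaf 0x51d005bf001ef00736))))) (.node (.node (.node (.node (.leaf 0x11f0011e0011d0011c) (.leaf 0x707006b90013c00636)) (.node (.leaf 0x5150017e00514000ce) (.leaf 0x3e800777004fe00323))) (.node (.node (.leaf 0x3b100069003b0003ab) (.leaf 0x792004980004100757)) (.node (.leaf 0x1dd0059f0069800162) (.leaf 0x1db006f5000cd00557)))) (.node (.node (.node (.leaf 0x276002750027400273) (.leaf 0x5f50074600131006b7)) (.node (.leaf 0x523000fa0013d000fc) (.leaf 0x7f600789003790078a)))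 (.node (.node (.leaf 0x41d000aa00459003f0) (.leaf 0x318002bf0031c0048e)) (.node (.leaf 0x5320070000524006ff) (.leaf 0x18700737005820068c)))))) (.node (.node (.node (.node (.node (.leaf 0xb8000b7000b6000b5) (.leaf 0x1fe001a5002020062e)) (.node (.leaf 0x3ae004270033a004af) (.leaf 0x7860030a003e9003e3))) (.node (.node (.leaf 0x36a003690033300368) (.leaf 0x4d8007760077500774)) (.node (.leaf 0x5b7006780011800121) (.leaf 0x72007d700426007fb)))) (.node (.node (.node (.leaf 0x229000370022800222) (.leaf 0x588006ce0069e00209)) (.node (.leaf 0x5c600179005c50054c) (.leaf 0x2a3004ac00356004d7))) (.node (.node (.leaf 0x3880044b003d30042d) (.leaf 0x7c900438000cb002af)) (.node (.leaf 0x6e9006380001f006ae) (.leaf 0x6ac00728006b8005d2))))) (.node (.node (.node (.node (.leaf 0x184001830018200181) (.leaf 0x703007420072c0063a)) (.node (.leaf 0x554005330055e001b6) (.leaf 0x455007ef000c400760))) (.node (.node (.leaf 0x3ec00073003eb003ea) (.leaf 0x392007a900384007a8))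 (.node (.leaf 0x6b70052b0065d005d4) (.leaf 0x22200657006fe00658)))) (.node (.node (.node (.leaf 0x2d1002b3002d0002cf) (.leaf 0x6060063f006070060d)) (.node (.leaf 0x17f001080061d00589) (.leaf 0x38e007bb000c5007ab))) (.node (.node (.leaf 0x8003a90000e00372) (.leaf 0x7b0007620025600496)) (.node (.leaf 0xd50017c005bf00201) (.leaf 0x61b00692007250074e))))))))

/-- part of right multiples by the generators -/
def tblT15 : Trie :=
  (.node (.node (.node (.node (.node (.node (.node (.leaf 0x37000360003500034) (.leaf 0x5480018e00639006fd)) (.node (.leaf 0x4bc004b1004c5003eb) (.leaf 0x4e7002ed004f9007c0))) (.node (.node (.leaf 0x269000520026f00306) (.leaf 0x3f6004930039600758)) (.node (.leaf 0x6400060d001520063f) (.leaf 0x7f7007900031a0079f)))) (.node (.node (.node (.leaf 0x1c10002a00183001bd) (.leaf 0x1600073c006e6001e7)) (.node (.leaf 0x5570058a0011c000e0) (.leaf 0x472004680031e0034b))) (.node (.node (.leaf 0x4100007b002d5002db) (.leaf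 0x7a00292004b60031d)) (.node (.leaf 0xf6006c60017300214) (.leaf 0x6190072d0069a006e6))))) (.node (.node (.node (.node (.leaf 0x106001050010400017) (.leaf 0x23a005cc00669001cc)) (.node (.leaf 0x50a000ca002d800415) (.leaf 0x77f0047b004b800351))) (.node (.node (.leaf 0xc00028200067) (.leaf 0x3500078a0044c00789)) (.node (.leaf 0x64e0055b000de0055c) (.leaf 0x5a0078d002e9007cd)))) (.node (.node (.node (.leaf 0x25b0003e0025a00255) (.leaf 0x1b100572005b700629)) (.node (.leaf 0x241005c0000f3000f7) (.leaf 0x7ee004730045200399))) (.node (.node (.leaf 0x46a004690046800467) (.leaf 0x314003c3002b6002bd)) (.node (.leaf 0x6f7005e3001e6006ca) (.leaf 0x1960061a0014e006db)))))) (.node (.node (.node (.node (.node (.leaf 0x9f0000d0009e00098) (.leaf 0x1fa005630019c001a3)) (.node (.leaf 0x47f000ba004d6004eb) (.leaf 0x27a007e50078f00301))) (.node (.node (.leaf 0x3590005c000960005e) (.leaf 0x890076f0028d0032e)) (.node (.leaf 0x66f001c50015b001c6) (.leaf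 0x25c007ae0049f007cc)))) (.node (.node (.node (.leaf 0x212002110021000035) (.leaf 0x6d60061b0065800237)) (.node (.leaf 0x1fd005b9005b8005b7) (.leaf 0x50b00454002690036f))) (.node (.node (.leaf 0x44500281004440039d) (.leaf 0x3a8002a800499007a6)) (.node (.leaf 0x236006e1005ec006e0) (.leaf 0x18b006520074a00614))))) (.node (.node (.node (.node (.leaf 0x16b0016a0016900168) (.leaf 0x687001d30069900717)) (.node (.leaf 0x54c0054b0054a000d6) (.leaf 0x2cb003d20041700489))) (.node (.node (.leaf 0x3e2003e10035b0035f) (.leaf 0x7a0004430030000773)) (.node (.leaf 0x5960063300536006af) (.leaf 0x1ab0052f005fc0066d)))) (.node (.node (.node (.leaf 0xc4002bb000c9002ba) (.leaf 0x612006080020400231)) (.node (.leaf 0x5e2001b40061300612) (.leaf 0x2c8003c10032200463))) (.node (.node (.leaf 0x496000a1004050044d) (.leaf 0x3540042c004c9002e6)) (.node (.leaf 0xe7001780065600203) (.leaf 0x6bd00677001bc0064c))))))) (.node (.node (.node (.node (.node (.node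 (.leaf 0x6c0006b0006a00009) (.leaf 0x144006ee0054b006f9)) (.node (.leaf 0x48b000b4004dc004d8) (.leaf 0x3d2002f80044d007bc))) (.node (.node (.leaf 0x333003320033100330) (.leaf 0x6d0045000072004d6)) (.node (.leaf 0x11d005900020e00117) (.leaf 0xa5004110040a00412)))) (.node (.node (.node (.leaf 0x1ea000d1001e9001e8) (.leaf 0x1a000697001a4001f5)) (.node (.leaf 0x5a4000fb0056e00192) (.leaf 0x2bb004e9007a00076a))) (.node (.node (.leaf 0x35e000810042900083) (.leaf 0xb100357003e0002cd)) (.node (.leaf 0x5b2001870001e00189) (.leaf 0x6ee00675001280070f))))) (.node (.node (.node (.node (.leaf 0x139001380013700136) (.leaf 0x5f70066e0073e00738)) (.node (.leaf 0xeb005280052700526) (.leaf 0xa1007f4003c20076d))) (.node (.node (.leaf 0x3c3003c2003c10006c) (.leaf 0x43c004a70009a00278)) (.node (.leaf 0x6a000556005d90016f) (.leaf 0x5d6006ca00165005e3)))) (.node (.node (.node (.leaf 0x28e0028d0028c00044) (.leaf 0x6c2002210074f00626)) (.node (.leaf 0x5fb0021500533000fe)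 (.leaf 0x2600075e00262003d0))) (.node (.node (.leaf 0x2d7004810039e00378) (.leaf 0x2fc004ab003a9003f9)) (.node (.leaf 0x705005e40051c006c9) (.leaf 0x5c7006f9001ca006ee)))))) (.node (.node (.node (.node (.node (.leaf 0xd200012000d100014) (.leaf 0x1e20064b0054900599)) (.node (.leaf 0x3fa00290002fe00327) (.leaf 0x2ba004f7002be0030f))) (.node (.node (.leaf 0x37a0037900378002b8) (.leaf 0x412002a100040002a3)) (.node (.leaf 0x657006280024d00682) (.leaf 0x424005090030a00795)))) (.node (.node (.node (.leaf 0x1f3000390023900236) (.leaf 0x10e0074b00562006c4)) (.node (.leaf 0x5d8005d7005d6005d5) (.leaf 0x2620038400433004e3))) (.node (.node (.leaf 0xa6002ac003ca0008e) (.leaf 0x25e00797003ab007a2)) (.node (.leaf 0x5dc00647001070015e) (.leaf 0x5cb007480073b00693))))) (.node (.node (.node (.node (.leaf 0x19a000250001700027) (.leaf 0x572001de005ed00713)) (.node (.leaf 0x56d001040056c00223) (.leaf 0x76b0033b007f800486))) (.node (.node (.leaf 0x3fc00076003a800078)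 (.leaf 0x7ae004440037c00772)) (.node (.leaf 0xda005f0000df00676) (.leaf 0x6e7006b20053c00541)))) (.node (.node (.node (.leaf 0x2e4002e3002c2002e2) (.leaf 0x1a100689006f7006c1)) (.node (.leaf 0x23c0062c001190010b) (.leaf 0x39000422004e2003d7))) (.node (.node (.leaf 0x34000434003fb0038b) (.leaf 0x457004ce007e7007e1)) (.node (.leaf 0x11e0023d00580001b3) (.leaf 0x122006c40069c0074b))))))))

/-- right multiples by the generators -/
def tblT : Trie :=
  (.node (.node (.node (.node tblT0 tblT8) (.node tblT4 tblT12)) (.node (.node tblT2 tblT10) (.node tblT6 tblT14))) (.node (.node (.node tblT1 tblT9) (.node tblT5 tblT13)) (.node (.node tblT3 tblT11) (.node tblT7 tblT15))))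

/-- part of parents -/
def parentT0 : Trie :=
  (.node (.node (.node (.node (.node (.node (.node (.leaf 0x0) (.leaf 0x300181)) (.node (.leaf 0x2000a8) (.leaf 0x2e4))) (.node (.node (.leaf 0x4e) (.leaf 0x300245)) (.node (.leaf 0x20010b) (.leaf 0x2003d7)))) (.node (.node (.node (.leaf 0x300025) (.leaf 0x3001de)) (.node (.leaf 0x1000db) (.leaf 0x30033d))) (.node (.node (.leaf 0x300076) (.leaf 0x300288)) (.node (.leaf 0x200142) (.leaf 0x300543))))) (.node (.node (.node (.node (.leaf 0x300012) (.leaf 0x3001ac)) (.node (.leaf 0x1000c3) (.leaf 0x30030f))) (.node (.node (.leaf 0x100062) (.leaf 0x20026a)) (.node (.leaf 0x200123) (.leaf 0x300472)))) (.node (.node (.node (.leaf 0x300039) (.leaf 0x30020d)) (.node (.leaf 0x2000f1) (.leaf 0x300385))) (.node (.node (.leaf 0x30008e) (.leaf 0x2b3)) (.node (.leaf 0x20015e) (.leaf 0x3005a5)))))) (.node (.node (.node (.node (.node (.leaf 0x100009) (.leaf 0x199)) (.node (.leaf 0x3000b4) (.leaf 0x3002f8)))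 (.node (.node (.leaf 0x100058) (.leaf 0x20025c)) (.node (.leaf 0x300117) (.leaf 0x300417)))) (.node (.node (.node (.leaf 0x30) (.leaf 0x3001f5)) (.node (.leaf 0x3000e5) (.leaf 0x30035f))) (.node (.node (.leaf 0x82) (.leaf 0x30029b)) (.node (.leaf 0x200150) (.leaf 0x30056f))))) (.node (.node (.node (.node (.leaf 0x1c) (.leaf 0x1ca)) (.node (.leaf 0xd1) (.leaf 0x300327))) (.node (.node (.leaf 0x10006c) (.leaf 0x200278)) (.node (.leaf 0x133) (.leaf 0x300517)))) (.node (.node (.node (.leaf 0x100044) (.leaf 0x300223)) (.node (.leaf 0x2000fe) (.leaf 0x3af))) (.node (.node (.leaf 0x30009c) (.leaf 0x3002c6)) (.node (.leaf 0x30016e) (.leaf 0x3005e8))))))) (.node (.node (.node (.node (.node (.node (.leaf 0x200004) (.leaf 0x30018f)) (.node (.leaf 0x1000af) (.leaf 0x2ee))) (.node (.node (.leaf 0x300052) (.leaf 0x300255)) (.node (.leaf 0x112) (.leaf 0x1003f2)))) (.node (.node (.node (.leaf 0x30002a) (.leaf 0x2001e7)) (.node (.leaf 0x1000e0)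 (.leaf 0x20034b))) (.node (.node (.leaf 0x30007b) (.leaf 0x300293)) (.node (.leaf 0x200149) (.leaf 0x100554))))) (.node (.node (.node (.node (.leaf 0x100017) (.leaf 0x1001ba)) (.node (.leaf 0x3000ca) (.leaf 0x10031e))) (.node (.node (.leaf 0x100067) (.leaf 0x100271)) (.node (.leaf 0x20012a) (.leaf 0x3004e0)))) (.node (.node (.node (.leaf 0x30003e) (.leaf 0x200216)) (.node (.leaf 0x1000f7) (.leaf 0x100399))) (.node (.node (.leaf 0x96) (.leaf 0x1002bd)) (.node (.leaf 0x100167) (.leaf 0x1005ca)))))) (.node (.node (.node (.node (.node (.leaf 0x30000d) (.leaf 0x1001a3)) (.node (.leaf 0x1000bb) (.leaf 0x200301))) (.node (.node (.leaf 0x30005c) (.leaf 0x200263)) (.node (.leaf 0x11f) (.leaf 0x200432)))) (.node (.node (.node (.leaf 0x100035) (.leaf 0x100204)) (.node (.leaf 0xeb) (.leaf 0x100370))) (.node (.node (.leaf 0x88) (.leaf 0x3002a9)) (.node (.leaf 0x100157) (.leaf 0x200582))))) (.node (.node (.node (.node (.leaf 0x100021) (.leaf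 0x1d4)) (.node (.leaf 0x1000d6) (.leaf 0x200330))) (.node (.node (.leaf 0x200071) (.leaf 0x100281)) (.node (.leaf 0x30013b) (.leaf 0x300532)))) (.node (.node (.node (.leaf 0x200048) (.leaf 0x200231)) (.node (.leaf 0x300105) (.leaf 0x1003c2))) (.node (.node (.leaf 0x3000a1) (.leaf 0x1002d4)) (.node (.leaf 0x300179) (.leaf 0x30063b))))))))

/-- part of parents -/
def parentT8 : Trie :=
  (.node (.node (.node (.node (.node (.node (.node (.leaf 0x2) (.leaf 0x300188)) (.node (.leaf 0x3000ab) (.leaf 0x1002e9))) (.node (.node (.leaf 0x100050) (.leaf 0x30024c)) (.node (.leaf 0x10e) (.leaf 0x1003e6)))) (.node (.node (.node (.leaf 0x100028) (.leaf 0x1001e2)) (.node (.leaf 0x3000dd) (.leaf 0x300343))) (.node (.node (.leaf 0x100079) (.leaf 0x10028e)) (.node (.leaf 0x200145) (.leaf 0x30054e))))) (.node (.node (.node (.node (.leaf 0x100015) (.leaf 0x1b2)) (.node (.leaf 0x3000c6) (.leaf 0x200314))) (.node (.node (.leaf 0x65) (.leaf 0x20026e))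 (.node (.leaf 0x127) (.leaf 0x4a5)))) (.node (.node (.node (.leaf 0x30003c) (.leaf 0x100212)) (.node (.leaf 0x2000f4) (.leaf 0x100393))) (.node (.node (.leaf 0x92) (.leaf 0x3002b8)) (.node (.leaf 0x100162) (.leaf 0x2005b1)))))) (.node (.node (.node (.node (.node (.leaf 0x30000b) (.leaf 0x30019e)) (.node (.leaf 0x1000b7) (.leaf 0x1002fc))) (.node (.node (.leaf 0x20005a) (.leaf 0x20025f)) (.node (.leaf 0x30011a) (.leaf 0x30042b)))) (.node (.node (.node (.leaf 0x100032) (.leaf 0x2001fa)) (.node (.leaf 0x1000e8) (.leaf 0x300366))) (.node (.node (.leaf 0x200085) (.leaf 0x3002a2)) (.node (.leaf 0x200154) (.leaf 0x577))))) (.node (.node (.node (.node (.leaf 0x20001e) (.leaf 0x1001cf)) (.node (.leaf 0x3000d3) (.leaf 0x10032c))) (.node (.node (.leaf 0x6f) (.leaf 0x10027c)) (.node (.leaf 0x137) (.leaf 0x200524)))) (.node (.node (.node (.leaf 0x100046) (.leaf 0x300229)) (.node (.leaf 0x100101) (.leaf 0x1003b6))) (.node (.node (.leaf 0x9f)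 (.leaf 0x2cc)) (.node (.leaf 0x100174) (.leaf 0x10060c))))))) (.node (.node (.node (.node (.node (.node (.leaf 0x7) (.leaf 0x100195)) (.node (.leaf 0x2000b2) (.leaf 0x1002f4))) (.node (.node (.leaf 0x200055) (.leaf 0x100259)) (.node (.leaf 0x115) (.leaf 0x406)))) (.node (.node (.node (.leaf 0x20002d) (.leaf 0x3001f0)) (.node (.leaf 0x1000e3) (.leaf 0x100357))) (.node (.node (.leaf 0x20007e) (.leaf 0x100297)) (.node (.leaf 0x20014c) (.leaf 0x200561))))) (.node (.node (.node (.node (.leaf 0x200019) (.leaf 0x2001c2)) (.node (.leaf 0x1000ce) (.leaf 0x200323))) (.node (.node (.leaf 0x300069) (.leaf 0x300274)) (.node (.leaf 0x30012e) (.leaf 0x50f)))) (.node (.node (.node (.leaf 0x200041) (.leaf 0x20021d)) (.node (.leaf 0x3000fa) (.leaf 0x3a4))) (.node (.node (.leaf 0x200099) (.leaf 0x3002bf)) (.node (.leaf 0x10016a) (.leaf 0x1005d2)))))) (.node (.node (.node (.node (.node (.leaf 0x100010) (.leaf 0x3001a5)) (.node (.leaf 0x3000be) (.leaf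 0x30030a))) (.node (.node (.leaf 0x20005f) (.leaf 0x200266)) (.node (.leaf 0x100121) (.leaf 0x30044c)))) (.node (.node (.node (.leaf 0x300037) (.leaf 0x200209)) (.node (.leaf 0x1000ee) (.leaf 0x300378))) (.node (.node (.leaf 0x30008b) (.leaf 0x1002af)) (.node (.leaf 0x30015a) (.leaf 0x30058e))))) (.node (.node (.node (.node (.leaf 0x200023) (.leaf 0x1001da)) (.node (.leaf 0x3000d8) (.leaf 0x200337))) (.node (.node (.leaf 0x300073) (.leaf 0x100284)) (.node (.leaf 0x10013f) (.leaf 0x539)))) (.node (.node (.node (.leaf 0x20004b) (.leaf 0x10023d)) (.node (.leaf 0x300108) (.leaf 0x3003d0))) (.node (.node (.leaf 0x2000a5) (.leaf 0x2002dc)) (.node (.leaf 0x10017d) (.leaf 0x10067f))))))))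

/-- part of parents -/
def parentT4 : Trie :=
  (.node (.node (.node (.node (.node (.node (.node (.leaf 0x300000) (.leaf 0x300185)) (.node (.leaf 0x2000a9) (.leaf 0x1002e6))) (.node (.node (.leaf 0x10004f) (.leaf 0x200248)) (.node (.leaf 0x30010c) (.leaf 0x2003dc)))) (.node (.node (.node (.leaf 0x300026) (.leaf 0x2001e0)) (.node (.leaf 0x2000dc) (.leaf 0x100341))) (.node (.node (.leaf 0x300077) (.leaf 0x30028a)) (.node (.leaf 0x300143) (.leaf 0x200546))))) (.node (.node (.node (.node (.leaf 0x300013) (.leaf 0x1001af)) (.node (.leaf 0x1000c5) (.leaf 0x300312))) (.node (.node (.leaf 0x200063) (.leaf 0x30026c)) (.node (.leaf 0x125) (.leaf 0x300481)))) (.node (.node (.node (.leaf 0x3b) (.leaf 0x30020e)) (.node (.leaf 0x1000f3) (.leaf 0x10038b))) (.node (.node (.leaf 0x200090) (.leaf 0x1002b6)) (.node (.leaf 0x100160) (.leaf 0x1005ac)))))) (.node (.node (.node (.node (.node (.leaf 0x30000a) (.leaf 0x10019c)) (.node (.leaf 0xb6) (.leaf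 0x2002fa))) (.node (.node (.leaf 0x200059) (.leaf 0x30025d)) (.node (.leaf 0x200119) (.leaf 0x200426)))) (.node (.node (.node (.leaf 0x31) (.leaf 0x3001f8)) (.node (.leaf 0x3000e6) (.leaf 0x200362))) (.node (.node (.leaf 0x84) (.leaf 0x30029f)) (.node (.leaf 0x300152) (.leaf 0x572))))) (.node (.node (.node (.node (.leaf 0x10001d) (.leaf 0x1001cc)) (.node (.leaf 0x2000d2) (.leaf 0x300328))) (.node (.node (.leaf 0x20006d) (.leaf 0x10027a)) (.node (.leaf 0x300134) (.leaf 0x300521)))) (.node (.node (.node (.leaf 0x100045) (.leaf 0x100227)) (.node (.leaf 0x3000ff) (.leaf 0x3003b2))) (.node (.node (.leaf 0x30009d) (.leaf 0x1002c9)) (.node (.leaf 0x300170) (.leaf 0x3005f3))))))) (.node (.node (.node (.node (.node (.node (.leaf 0x200005) (.leaf 0x100192)) (.node (.leaf 0x1000b1) (.leaf 0x1002f2))) (.node (.node (.leaf 0x300053) (.leaf 0x100257)) (.node (.leaf 0x100113) (.leaf 0x1003f9)))) (.node (.node (.node (.leaf 0x10002c) (.leaf 0x3001ec))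 (.node (.leaf 0x3000e1) (.leaf 0x30034d))) (.node (.node (.leaf 0x10007d) (.leaf 0x100295)) (.node (.leaf 0x10014b) (.leaf 0x300558))))) (.node (.node (.node (.node (.leaf 0x200018) (.leaf 0x1001be)) (.node (.leaf 0x1000cd) (.leaf 0x100322))) (.node (.node (.leaf 0x300068) (.leaf 0x200272)) (.node (.leaf 0x10012d) (.leaf 0x300502)))) (.node (.node (.node (.leaf 0x100040) (.leaf 0x30021a)) (.node (.leaf 0x1000f9) (.leaf 0x10039c))) (.node (.node (.leaf 0x300097) (.leaf 0x3002be)) (.node (.leaf 0x300168) (.leaf 0x3005cd)))))) (.node (.node (.node (.node (.node (.leaf 0xf) (.leaf 0x3001a4)) (.node (.leaf 0x2000bc) (.leaf 0x300306))) (.node (.node (.leaf 0x10005e) (.leaf 0x100265)) (.node (.leaf 0x120) (.leaf 0x20043b)))) (.node (.node (.node (.leaf 0x300036) (.leaf 0x100208)) (.node (.leaf 0x3000ec) (.leaf 0x100374))) (.node (.node (.leaf 0x300089) (.leaf 0x1002ac)) (.node (.leaf 0x200158) (.leaf 0x58c))))) (.node (.node (.node (.node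 (.leaf 0x200022) (.leaf 0x1001d8)) (.node (.leaf 0x1000d7) (.leaf 0x300334))) (.node (.node (.leaf 0x300072) (.leaf 0x300282)) (.node (.leaf 0x10013d) (.leaf 0x537)))) (.node (.node (.node (.leaf 0x4a) (.leaf 0x300233)) (.node (.leaf 0x100107) (.leaf 0x1003ca))) (.node (.node (.leaf 0x2000a4) (.leaf 0x1002d8)) (.node (.leaf 0x10017b) (.leaf 0x100655))))))))

/-- part of parents -/
def parentT12 : Trie :=
  (.node (.node (.node (.node (.node (.node (.node (.leaf 0x100003) (.leaf 0x20018c)) (.node (.leaf 0x1000ad) (.leaf 0x3002ea))) (.node (.node (.leaf 0x300051) (.leaf 0x200251)) (.node (.leaf 0x100110) (.leaf 0x3003ec)))) (.node (.node (.node (.leaf 0x300029) (.leaf 0x2001e5)) (.node (.leaf 0x1000df) (.leaf 0x300348))) (.node (.node (.leaf 0x30007a) (.leaf 0x300291)) (.node (.leaf 0x200148) (.leaf 0x200552))))) (.node (.node (.node (.node (.leaf 0x100016) (.leaf 0x1b8)) (.node (.leaf 0x2000c9) (.leaf 0x10031b))) (.node (.node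 (.leaf 0x100066) (.leaf 0x30026f)) (.node (.leaf 0x129) (.leaf 0x1004c2)))) (.node (.node (.node (.leaf 0x30003d) (.leaf 0x100214)) (.node (.leaf 0x3000f5) (.leaf 0x100397))) (.node (.node (.leaf 0x300093) (.leaf 0x3002ba)) (.node (.leaf 0x100165) (.leaf 0x1005c3)))))) (.node (.node (.node (.node (.node (.leaf 0x30000c) (.leaf 0x3001a0)) (.node (.leaf 0x2000b9) (.leaf 0x2002ff))) (.node (.node (.leaf 0x20005b) (.leaf 0x200262)) (.node (.leaf 0x30011c) (.leaf 0x30042e)))) (.node (.node (.node (.leaf 0x300033) (.leaf 0x100201)) (.node (.leaf 0x3000e9) (.leaf 0x20036b))) (.node (.node (.leaf 0x300086) (.leaf 0x2002a6)) (.node (.leaf 0x300155) (.leaf 0x57c))))) (.node (.node (.node (.node (.leaf 0x30001f) (.leaf 0x3001d0)) (.node (.leaf 0x3000d4) (.leaf 0x10032e))) (.node (.node (.leaf 0x100070) (.leaf 0x10027f)) (.node (.leaf 0x300138) (.leaf 0x200529)))) (.node (.node (.node (.leaf 0x200047) (.leaf 0x30022e)) (.node (.leaf 0x104)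 (.leaf 0x3003b9))) (.node (.node (.leaf 0x2000a0) (.leaf 0x2d2)) (.node (.leaf 0x300177) (.leaf 0x100619))))))) (.node (.node (.node (.node (.node (.node (.leaf 0x100008) (.leaf 0x100197)) (.node (.leaf 0x2000b3) (.leaf 0x3002f6))) (.node (.node (.leaf 0x57) (.leaf 0x30025a)) (.node (.leaf 0x116) (.leaf 0x30040d)))) (.node (.node (.node (.leaf 0x20002e) (.leaf 0x3001f2)) (.node (.leaf 0x1000e4) (.leaf 0x30035c))) (.node (.node (.leaf 0x200080) (.leaf 0x300299)) (.node (.leaf 0x20014e) (.leaf 0x100567))))) (.node (.node (.node (.node (.leaf 0x1b) (.leaf 0x1c7)) (.node (.leaf 0xd0) (.leaf 0x200325))) (.node (.node (.leaf 0x30006a) (.leaf 0x200276)) (.node (.leaf 0x300130) (.leaf 0x200512)))) (.node (.node (.node (.leaf 0x300042) (.leaf 0x10021f)) (.node (.leaf 0xfd) (.leaf 0x3003a7))) (.node (.node (.leaf 0x9b) (.leaf 0x2c3)) (.node (.leaf 0x30016c) (.leaf 0x5db)))))) (.node (.node (.node (.node (.node (.leaf 0x200011) (.leaf 0x1a9))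 (.node (.leaf 0xc1) (.leaf 0x30030c))) (.node (.node (.leaf 0x300060) (.leaf 0x200268)) (.node (.leaf 0x200122) (.leaf 0x100459)))) (.node (.node (.node (.leaf 0x300038) (.leaf 0x20020b)) (.node (.leaf 0x1000f0) (.leaf 0x100382))) (.node (.node (.leaf 0x30008c) (.leaf 0x1002b1)) (.node (.leaf 0x20015c) (.leaf 0x100596))))) (.node (.node (.node (.node (.leaf 0x200024) (.leaf 0x3001dc)) (.node (.leaf 0x3000d9) (.leaf 0x100339))) (.node (.node (.leaf 0x100075) (.leaf 0x300286)) (.node (.leaf 0x300140) (.leaf 0x20053a)))) (.node (.node (.node (.leaf 0x20004c) (.leaf 0x300242)) (.node (.leaf 0x10010a) (.leaf 0x1003d4))) (.node (.node (.leaf 0xa7) (.leaf 0x2e1)) (.node (.leaf 0x30017f) (.leaf 0x300696))))))))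

/-- part of parents -/
def parentT2 : Trie :=
  (.node (.node (.node (.node (.node (.node (.node (.leaf 0x100000) (.leaf 0x100184)) (.node (.leaf 0xa9) (.leaf 0x2e5))) (.node (.node (.leaf 0x20004e) (.leaf 0x300247)) (.node (.leaf 0x10c) (.leaf 0x1003db)))) (.node (.node (.node (.leaf 0x100026) (.leaf 0x1e0)) (.node (.leaf 0xdc) (.leaf 0x33f))) (.node (.node (.leaf 0x100077) (.leaf 0x300289)) (.node (.leaf 0x143) (.leaf 0x100545))))) (.node (.node (.node (.node (.leaf 0x100013) (.leaf 0x1001ad)) (.node (.leaf 0x3000c3) (.leaf 0x200310))) (.node (.node (.leaf 0x63) (.leaf 0x26c)) (.node (.leaf 0x100124) (.leaf 0x200477)))) (.node (.node (.node (.leaf 0x20003a) (.leaf 0x10020e)) (.node (.leaf 0x2000f2) (.leaf 0x389))) (.node (.node (.leaf 0x90) (.leaf 0x1002b4)) (.node (.leaf 0x20015f) (.leaf 0x5a9)))))) (.node (.node (.node (.node (.node (.leaf 0x300009) (.leaf 0x10019a)) (.node (.leaf 0x2000b5) (.leaf 0x2fa))) (.node (.node (.leaf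 0x59) (.leaf 0x25d)) (.node (.leaf 0x300118) (.leaf 0x20041e)))) (.node (.node (.node (.leaf 0x200030) (.leaf 0x2001f6)) (.node (.leaf 0x1000e6) (.leaf 0x300361))) (.node (.node (.leaf 0x100083) (.leaf 0x10029e)) (.node (.leaf 0x152) (.leaf 0x100571))))) (.node (.node (.node (.node (.leaf 0x20001c) (.leaf 0x1cb)) (.node (.leaf 0xd2) (.leaf 0x100328))) (.node (.node (.leaf 0x30006c) (.leaf 0x200279)) (.node (.leaf 0x300133) (.leaf 0x51c)))) (.node (.node (.node (.leaf 0x300044) (.leaf 0x225)) (.node (.leaf 0xff) (.leaf 0x3003b0))) (.node (.node (.leaf 0x10009d) (.leaf 0x1002c7)) (.node (.leaf 0x30016f) (.leaf 0x1005f0))))))) (.node (.node (.node (.node (.node (.node (.leaf 0x5) (.leaf 0x200190)) (.node (.leaf 0x3000af) (.leaf 0x2ef))) (.node (.node (.leaf 0x100053) (.leaf 0x100256)) (.node (.leaf 0x200112) (.leaf 0x1003f4)))) (.node (.node (.node (.leaf 0x30002b) (.leaf 0x3001e9)) (.node (.leaf 0x3000e0) (.leaf 0x10034c))) (.node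 (.node (.leaf 0x30007c) (.leaf 0x200294)) (.node (.leaf 0x10014a) (.leaf 0x300557))))) (.node (.node (.node (.node (.leaf 0x300017) (.leaf 0x3001bc)) (.node (.leaf 0x3000cb) (.leaf 0x321))) (.node (.node (.leaf 0x300067) (.leaf 0x272)) (.node (.leaf 0x30012b) (.leaf 0x2004ec)))) (.node (.node (.node (.leaf 0x30003f) (.leaf 0x300218)) (.node (.leaf 0x3000f8) (.leaf 0x39a))) (.node (.node (.leaf 0x97) (.leaf 0x1002be)) (.node (.leaf 0x100168) (.leaf 0x1005cc)))))) (.node (.node (.node (.node (.node (.leaf 0x20000e) (.leaf 0x1001a4)) (.node (.leaf 0xbc) (.leaf 0x300303))) (.node (.node (.leaf 0x20005d) (.leaf 0x100264)) (.node (.leaf 0x20011f) (.leaf 0x43a)))) (.node (.node (.node (.leaf 0x300035) (.leaf 0x207)) (.node (.leaf 0x2000eb) (.leaf 0x300371))) (.node (.node (.leaf 0x300088) (.leaf 0x2002aa)) (.node (.leaf 0x158) (.leaf 0x200586))))) (.node (.node (.node (.node (.leaf 0x22) (.leaf 0x1d5)) (.node (.leaf 0x3000d6) (.leaf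 0x300332))) (.node (.node (.leaf 0x100072) (.leaf 0x100282)) (.node (.leaf 0x10013c) (.leaf 0x300534)))) (.node (.node (.node (.leaf 0x100049) (.leaf 0x100232)) (.node (.leaf 0x200106) (.leaf 0x2003c6))) (.node (.node (.leaf 0x1000a3) (.leaf 0x3002d6)) (.node (.leaf 0x20017a) (.leaf 0x30064e))))))))

/-- part of parents -/
def parentT10 : Trie :=
  (.node (.node (.node (.node (.node (.node (.node (.leaf 0x200002) (.leaf 0x30018b)) (.node (.leaf 0x2000ac) (.leaf 0x3002e9))) (.node (.node (.leaf 0x300050) (.leaf 0x30024f)) (.node (.leaf 0x30010e) (.leaf 0x3003e9)))) (.node (.node (.node (.leaf 0x100029) (.leaf 0x1001e3)) (.node (.leaf 0x2000de) (.leaf 0x300347))) (.node (.node (.leaf 0x300079) (.leaf 0x20028f)) (.node (.leaf 0x100147) (.leaf 0x20054f))))) (.node (.node (.node (.node (.leaf 0x300015) (.leaf 0x1001b4)) (.node (.leaf 0x3000c7) (.leaf 0x300318))) (.node (.node (.leaf 0x200065) (.leaf 0x10026f)) (.node (.leaf 0x100128)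 (.leaf 0x3004b1)))) (.node (.node (.node (.leaf 0x10003d) (.leaf 0x213)) (.node (.leaf 0xf5) (.leaf 0x100395))) (.node (.node (.leaf 0x300092) (.leaf 0x1002ba)) (.node (.leaf 0x200163) (.leaf 0x2005bb)))))) (.node (.node (.node (.node (.node (.leaf 0x10000c) (.leaf 0x1001a0)) (.node (.leaf 0xb8) (.leaf 0x1002fd))) (.node (.node (.leaf 0x5b) (.leaf 0x100261)) (.node (.leaf 0x10011c) (.leaf 0x20042d)))) (.node (.node (.node (.leaf 0x100033) (.leaf 0x3001fe)) (.node (.leaf 0x3000e8) (.leaf 0x300369))) (.node (.node (.leaf 0x100086) (.leaf 0x3002a5)) (.node (.leaf 0x100155) (.leaf 0x30057a))))) (.node (.node (.node (.node (.leaf 0x10001f) (.leaf 0x3001cf)) (.node (.leaf 0x1000d4) (.leaf 0x32d))) (.node (.node (.leaf 0x20006f) (.leaf 0x20027d)) (.node (.leaf 0x300137) (.leaf 0x100528)))) (.node (.node (.node (.leaf 0x300046) (.leaf 0x30022d)) (.node (.leaf 0x103) (.leaf 0x2003b8))) (.node (.node (.leaf 0x30009f) (.leaf 0x1002ce)) (.node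 (.leaf 0x200175) (.leaf 0x616))))))) (.node (.node (.node (.node (.node (.node (.leaf 0x200007) (.leaf 0x200196)) (.node (.leaf 0xb3) (.leaf 0x3002f4))) (.node (.node (.leaf 0x100056) (.leaf 0x300259)) (.node (.leaf 0x200115) (.leaf 0x100409)))) (.node (.node (.node (.leaf 0x2e) (.leaf 0x3001f1)) (.node (.leaf 0x3000e3) (.leaf 0x30035a))) (.node (.node (.leaf 0x30007f) (.leaf 0x100298)) (.node (.leaf 0x30014d) (.leaf 0x300562))))) (.node (.node (.node (.node (.leaf 0x10001a) (.leaf 0x1001c4)) (.node (.leaf 0x1000cf) (.leaf 0x300324))) (.node (.node (.leaf 0x10006a) (.leaf 0x300275)) (.node (.leaf 0x100130) (.leaf 0x100511)))) (.node (.node (.node (.leaf 0x42) (.leaf 0x20021e)) (.node (.leaf 0x3000fb) (.leaf 0x3003a5))) (.node (.node (.leaf 0x10009a) (.leaf 0x1002c2)) (.node (.leaf 0x16b) (.leaf 0x3005d9)))))) (.node (.node (.node (.node (.node (.leaf 0x11) (.leaf 0x1001a8)) (.node (.leaf 0x1000c0) (.leaf 0x30030b))) (.node (.node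 (.leaf 0x100060) (.leaf 0x300267)) (.node (.leaf 0x300121) (.leaf 0x200453)))) (.node (.node (.node (.leaf 0x100038) (.leaf 0x30020a)) (.node (.leaf 0xef) (.leaf 0x30037c))) (.node (.node (.leaf 0x10008c) (.leaf 0x2002b0)) (.node (.leaf 0x30015b) (.leaf 0x100593))))) (.node (.node (.node (.node (.leaf 0x24) (.leaf 0x3001da)) (.node (.leaf 0x1000d9) (.leaf 0x200338))) (.node (.node (.leaf 0x300074) (.leaf 0x285)) (.node (.leaf 0x30013f) (.leaf 0x300539)))) (.node (.node (.node (.leaf 0x4c) (.leaf 0x300240)) (.node (.leaf 0x300109) (.leaf 0x3003d1))) (.node (.node (.leaf 0x1000a6) (.leaf 0x1002de)) (.node (.leaf 0x10017e) (.leaf 0x100687))))))))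

/-- part of parents -/
def parentT6 : Trie :=
  (.node (.node (.node (.node (.node (.node (.node (.leaf 0x200001) (.leaf 0x100187)) (.node (.leaf 0x3000aa) (.leaf 0x2e8))) (.node (.node (.leaf 0x30004f) (.leaf 0x30024a)) (.node (.leaf 0x20010d) (.leaf 0x3003e1)))) (.node (.node (.node (.leaf 0x300027) (.leaf 0x1001e1)) (.node (.leaf 0x1000dd) (.leaf 0x300341))) (.node (.node (.leaf 0x300078) (.leaf 0x30028b)) (.node (.leaf 0x145) (.leaf 0x10054d))))) (.node (.node (.node (.node (.leaf 0x300014) (.leaf 0x1001b0)) (.node (.leaf 0xc6) (.leaf 0x200313))) (.node (.node (.leaf 0x64) (.leaf 0x30026d)) (.node (.leaf 0x200126) (.leaf 0x30048d)))) (.node (.node (.node (.leaf 0x30003b) (.leaf 0x100210)) (.node (.leaf 0x3000f3) (.leaf 0x20038f))) (.node (.node (.leaf 0x200091) (.leaf 0x3002b7)) (.node (.leaf 0x100161) (.leaf 0x3005ae)))))) (.node (.node (.node (.node (.node (.leaf 0x10000b) (.leaf 0x30019d)) (.node (.leaf 0x2000b6) (.leaf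 0x1002fb))) (.node (.node (.leaf 0x5a) (.leaf 0x25f)) (.node (.leaf 0x10011a) (.leaf 0x100428)))) (.node (.node (.node (.leaf 0x200031) (.leaf 0x2001f9)) (.node (.leaf 0x3000e7) (.leaf 0x300364))) (.node (.node (.leaf 0x200084) (.leaf 0x1002a1)) (.node (.leaf 0x300153) (.leaf 0x300574))))) (.node (.node (.node (.node (.leaf 0x1e) (.leaf 0x1ce)) (.node (.leaf 0x1000d3) (.leaf 0x10032a))) (.node (.node (.leaf 0x10006e) (.leaf 0x10027b)) (.node (.leaf 0x200136) (.leaf 0x200523)))) (.node (.node (.node (.leaf 0x300045) (.leaf 0x300227)) (.node (.leaf 0x300100) (.leaf 0x3003b3))) (.node (.node (.leaf 0x20009e) (.leaf 0x1002ca)) (.node (.leaf 0x300171) (.leaf 0x5fb))))))) (.node (.node (.node (.node (.node (.node (.leaf 0x100006) (.leaf 0x300194)) (.node (.leaf 0xb2) (.leaf 0x1002f3))) (.node (.node (.leaf 0x300054) (.leaf 0x200258)) (.node (.leaf 0x114) (.leaf 0x300401)))) (.node (.node (.node (.leaf 0x30002c) (.leaf 0x3001ef)) (.node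 (.leaf 0x1000e2) (.leaf 0x200354))) (.node (.node (.leaf 0x7e) (.leaf 0x296)) (.node (.leaf 0x14c) (.leaf 0x20055a))))) (.node (.node (.node (.node (.leaf 0x19) (.leaf 0x1001c0)) (.node (.leaf 0x3000cd) (.leaf 0x300322))) (.node (.node (.leaf 0x100069) (.leaf 0x300273)) (.node (.leaf 0x12e) (.leaf 0x30050b)))) (.node (.node (.node (.leaf 0x300040) (.leaf 0x20021b)) (.node (.leaf 0x3000f9) (.leaf 0x3a1))) (.node (.node (.leaf 0x300098) (.leaf 0x1002bf)) (.node (.leaf 0x200169) (.leaf 0x1005d0)))))) (.node (.node (.node (.node (.node (.leaf 0x20000f) (.leaf 0x1001a5)) (.node (.leaf 0x2000bd) (.leaf 0x300309))) (.node (.node (.leaf 0x5f) (.leaf 0x266)) (.node (.leaf 0x200120) (.leaf 0x100446)))) (.node (.node (.node (.leaf 0x100037) (.leaf 0x300208)) (.node (.leaf 0x2000ed) (.leaf 0x100375))) (.node (.node (.leaf 0x10008a) (.leaf 0x3002ae)) (.node (.leaf 0x300159) (.leaf 0x58e))))) (.node (.node (.node (.node (.leaf 0x23) (.leaf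 0x1001d9)) (.node (.leaf 0x3000d7) (.leaf 0x200335))) (.node (.node (.leaf 0x100073) (.leaf 0x200283)) (.node (.leaf 0x20013e) (.leaf 0x200537)))) (.node (.node (.node (.leaf 0x20004a) (.leaf 0x20023a)) (.node (.leaf 0x108) (.leaf 0x3003ce))) (.node (.node (.leaf 0xa5) (.leaf 0x1002da)) (.node (.leaf 0x17c) (.leaf 0x10066e))))))))

/-- part of parents -/
def parentT14 : Trie :=
  (.node (.node (.node (.node (.node (.node (.node (.leaf 0x4) (.leaf 0x18e)) (.node (.leaf 0x3000ad) (.leaf 0x2ed))) (.node (.node (.leaf 0x100052) (.leaf 0x100254)) (.node (.leaf 0x200111) (.leaf 0x1003ee)))) (.node (.node (.node (.leaf 0x10002a) (.leaf 0x3001e6)) (.node (.leaf 0x3000df) (.leaf 0x30034a))) (.node (.node (.leaf 0x10007b) (.leaf 0x100292)) (.node (.leaf 0x149) (.leaf 0x200553))))) (.node (.node (.node (.node (.leaf 0x300016) (.leaf 0x2001b9)) (.node (.leaf 0xca) (.leaf 0x10031c))) (.node (.node (.leaf 0x300066) (.leaf 0x200270)) (.node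 (.leaf 0x200129) (.leaf 0x1004d8)))) (.node (.node (.node (.leaf 0x10003e) (.leaf 0x300214)) (.node (.leaf 0x3000f6) (.leaf 0x100398))) (.node (.node (.leaf 0x100094) (.leaf 0x2bc)) (.node (.leaf 0x200166) (.leaf 0x5c8)))))) (.node (.node (.node (.node (.node (.leaf 0x10000d) (.leaf 0x1a2)) (.node (.leaf 0xba) (.leaf 0x300300))) (.node (.node (.leaf 0x10005c) (.leaf 0x263)) (.node (.leaf 0x10011e) (.leaf 0x300431)))) (.node (.node (.node (.leaf 0x200034) (.leaf 0x100202)) (.node (.leaf 0x1000ea) (.leaf 0x10036e))) (.node (.node (.leaf 0x200087) (.leaf 0x2a8)) (.node (.leaf 0x200156) (.leaf 0x30057f))))) (.node (.node (.node (.node (.leaf 0x200020) (.leaf 0x1d3)) (.node (.leaf 0x3000d5) (.leaf 0x30032e))) (.node (.node (.leaf 0x300070) (.leaf 0x200280)) (.node (.leaf 0x10013a) (.leaf 0x10052c)))) (.node (.node (.node (.leaf 0x48) (.leaf 0x300230)) (.node (.leaf 0x300104) (.leaf 0x1003bd))) (.node (.node (.leaf 0xa1) (.leaf 0x2002d3))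 (.node (.leaf 0x100178) (.leaf 0x200623))))))) (.node (.node (.node (.node (.node (.node (.leaf 0x300008) (.leaf 0x100198)) (.node (.leaf 0x1000b4) (.leaf 0x2f8))) (.node (.node (.leaf 0x200057) (.leaf 0x30025b)) (.node (.leaf 0x200116) (.leaf 0x410)))) (.node (.node (.node (.leaf 0x10002f) (.leaf 0x3001f4)) (.node (.leaf 0x3000e4) (.leaf 0x30035d))) (.node (.node (.leaf 0x100081) (.leaf 0x10029a)) (.node (.leaf 0x150) (.leaf 0x10056b))))) (.node (.node (.node (.node (.leaf 0x20001b) (.leaf 0x2001c8)) (.node (.leaf 0x2000d0) (.leaf 0x100326))) (.node (.node (.leaf 0x30006b) (.leaf 0x100277)) (.node (.leaf 0x100132) (.leaf 0x300514)))) (.node (.node (.node (.leaf 0x300043) (.leaf 0x100221)) (.node (.leaf 0x2000fd) (.leaf 0x1003ae))) (.node (.node (.leaf 0x30009b) (.leaf 0x1002c5)) (.node (.leaf 0x30016d) (.leaf 0x3005e4)))))) (.node (.node (.node (.node (.node (.leaf 0x100012) (.leaf 0x1001ab)) (.node (.leaf 0x3000c1) (.leaf 0x30030e)))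 (.node (.node (.leaf 0x100061) (.leaf 0x26a)) (.node (.leaf 0x123) (.leaf 0x10045f)))) (.node (.node (.node (.leaf 0x100039) (.leaf 0x10020c)) (.node (.leaf 0xf1) (.leaf 0x100384))) (.node (.node (.leaf 0x30008d) (.leaf 0x1002b2)) (.node (.leaf 0x10015d) (.leaf 0x30059d))))) (.node (.node (.node (.node (.leaf 0x100025) (.leaf 0x1de)) (.node (.leaf 0x2000da) (.leaf 0x10033b))) (.node (.node (.leaf 0x100076) (.leaf 0x300287)) (.node (.leaf 0x300141) (.leaf 0x20053e)))) (.node (.node (.node (.leaf 0x10004d) (.leaf 0x300243)) (.node (.leaf 0x30010a) (.leaf 0x2003d5))) (.node (.node (.leaf 0xa8) (.leaf 0x2002e2)) (.node (.leaf 0x100180) (.leaf 0x3006a3))))))))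

/-- part of parents -/
def parentT1 : Trie :=
  (.node (.node (.node (.node (.node (.node (.node (.leaf 0x0) (.leaf 0x184)) (.node (.leaf 0x3000a8) (.leaf 0x3002e4))) (.node (.node (.leaf 0x10004e) (.leaf 0x300246)) (.node (.leaf 0x30010b) (.leaf 0x3003da)))) (.node (.node (.node (.leaf 0x26) (.leaf 0x2001df)) (.node (.leaf 0x3000db) (.leaf 0x10033e))) (.node (.node (.leaf 0x77) (.leaf 0x200289)) (.node (.leaf 0x300142) (.leaf 0x544))))) (.node (.node (.node (.node (.leaf 0x13) (.leaf 0x1ad)) (.node (.leaf 0x2000c3) (.leaf 0x100310))) (.node (.node (.leaf 0x300062) (.leaf 0x30026b)) (.node (.leaf 0x300123) (.leaf 0x476)))) (.node (.node (.node (.leaf 0x10003a) (.leaf 0x20e)) (.node (.leaf 0x3000f1) (.leaf 0x100388))) (.node (.node (.leaf 0x30008f) (.leaf 0x2b4)) (.node (.leaf 0x10015f) (.leaf 0x5a6)))))) (.node (.node (.node (.node (.node (.leaf 0x200009) (.leaf 0x19a)) (.node (.leaf 0x1000b5) (.leaf 0x2002f9))) (.node (.node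 (.leaf 0x300058) (.leaf 0x30025c)) (.node (.leaf 0x100118) (.leaf 0x20041b)))) (.node (.node (.node (.leaf 0x100030) (.leaf 0x1001f6)) (.node (.leaf 0xe6) (.leaf 0x300360))) (.node (.node (.leaf 0x200082) (.leaf 0x29e)) (.node (.leaf 0x300151) (.leaf 0x300570))))) (.node (.node (.node (.node (.leaf 0x10001c) (.leaf 0x3001ca)) (.node (.leaf 0x1000d1) (.leaf 0x328))) (.node (.node (.leaf 0x20006c) (.leaf 0x100279)) (.node (.leaf 0x200133) (.leaf 0x300518)))) (.node (.node (.node (.leaf 0x200044) (.leaf 0x100224)) (.node (.leaf 0x3000fe) (.leaf 0x2003af))) (.node (.node (.leaf 0x9d) (.leaf 0x2c7)) (.node (.leaf 0x20016f) (.leaf 0x3005ec))))))) (.node (.node (.node (.node (.node (.node (.leaf 0x300004) (.leaf 0x190)) (.node (.leaf 0x2000af) (.leaf 0x2002ee))) (.node (.node (.leaf 0x53) (.leaf 0x256)) (.node (.leaf 0x100112) (.leaf 0x1003f3)))) (.node (.node (.node (.leaf 0x10002b) (.leaf 0x3001e8)) (.node (.leaf 0x2000e0) (.leaf 0x30034b)))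 (.node (.node (.leaf 0x10007c) (.leaf 0x100294)) (.node (.leaf 0x300149) (.leaf 0x100556))))) (.node (.node (.node (.node (.leaf 0x200017) (.leaf 0x3001ba)) (.node (.leaf 0x1000cb) (.leaf 0x30031e))) (.node (.node (.leaf 0x200067) (.leaf 0x300271)) (.node (.leaf 0x30012a) (.leaf 0x1004e7)))) (.node (.node (.node (.leaf 0x10003f) (.leaf 0x300217)) (.node (.leaf 0x3000f7) (.leaf 0x300399))) (.node (.node (.leaf 0x200096) (.leaf 0x3002bd)) (.node (.leaf 0x300167) (.leaf 0x3005cb)))))) (.node (.node (.node (.node (.node (.leaf 0x10000e) (.leaf 0x3001a3)) (.node (.leaf 0x3000bb) (.leaf 0x300302))) (.node (.node (.leaf 0x5d) (.leaf 0x300263)) (.node (.leaf 0x10011f) (.leaf 0x300439)))) (.node (.node (.node (.leaf 0x200035) (.leaf 0x300204)) (.node (.leaf 0x1000eb) (.leaf 0x100371))) (.node (.node (.leaf 0x200088) (.leaf 0x2aa)) (.node (.leaf 0x300157) (.leaf 0x100586))))) (.node (.node (.node (.node (.leaf 0x300021) (.leaf 0x2001d4))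 (.node (.leaf 0x2000d6) (.leaf 0x300331))) (.node (.node (.leaf 0x300071) (.leaf 0x300281)) (.node (.leaf 0x13c) (.leaf 0x100533)))) (.node (.node (.node (.leaf 0x300048) (.leaf 0x300231)) (.node (.leaf 0x100106) (.leaf 0x3003c2))) (.node (.node (.leaf 0xa3) (.leaf 0x3002d4)) (.node (.leaf 0x10017a) (.leaf 0x645))))))))

/-- part of parents -/
def parentT9 : Trie :=
  (.node (.node (.node (.node (.node (.node (.node (.leaf 0x100002) (.leaf 0x10018b)) (.node (.leaf 0x1000ac) (.leaf 0x2002e9))) (.node (.node (.leaf 0x200050) (.leaf 0x10024e)) (.node (.leaf 0x20010e) (.leaf 0x2003e6)))) (.node (.node (.node (.leaf 0x200028) (.leaf 0x3001e2)) (.node (.leaf 0x1000de) (.leaf 0x300344))) (.node (.node (.leaf 0x200079) (.leaf 0x30028e)) (.node (.leaf 0x300146) (.leaf 0x54f))))) (.node (.node (.node (.node (.leaf 0x200015) (.leaf 0x2001b2)) (.node (.leaf 0x2000c7) (.leaf 0x200318))) (.node (.node (.leaf 0x100065) (.leaf 0x30026e)) (.node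 (.leaf 0x200127) (.leaf 0x3004ae)))) (.node (.node (.node (.leaf 0x3d) (.leaf 0x200212)) (.node (.leaf 0x3000f4) (.leaf 0x300394))) (.node (.node (.leaf 0x200092) (.leaf 0x1002b9)) (.node (.leaf 0x100163) (.leaf 0x3005b7)))))) (.node (.node (.node (.node (.node (.leaf 0xc) (.leaf 0x10019f)) (.node (.leaf 0x3000b7) (.leaf 0x3002fc))) (.node (.node (.leaf 0x30005a) (.leaf 0x300260)) (.node (.leaf 0x10011b) (.leaf 0x10042c)))) (.node (.node (.node (.leaf 0x300032) (.leaf 0x2001fe)) (.node (.leaf 0x2000e8) (.leaf 0x100368))) (.node (.node (.leaf 0x300085) (.leaf 0x1002a5)) (.node (.leaf 0x300154) (.leaf 0x200577))))) (.node (.node (.node (.node (.leaf 0x30001e) (.leaf 0x2001cf)) (.node (.leaf 0xd4) (.leaf 0x20032c))) (.node (.node (.leaf 0x10006f) (.leaf 0x10027d)) (.node (.leaf 0x200137) (.leaf 0x300525)))) (.node (.node (.node (.leaf 0x200046) (.leaf 0x30022a)) (.node (.leaf 0x300101) (.leaf 0x3003b7))) (.node (.node (.leaf 0x10009f)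 (.leaf 0x2002cc)) (.node (.leaf 0x300174) (.leaf 0x300612))))))) (.node (.node (.node (.node (.node (.node (.leaf 0x100007) (.leaf 0x200195)) (.node (.leaf 0x3000b2) (.leaf 0x2002f4))) (.node (.node (.leaf 0x300055) (.leaf 0x200259)) (.node (.leaf 0x100115) (.leaf 0x409)))) (.node (.node (.node (.leaf 0x30002d) (.leaf 0x2001f1)) (.node (.leaf 0x2000e3) (.leaf 0x35a))) (.node (.node (.leaf 0x30007e) (.leaf 0x300297)) (.node (.leaf 0x10014d) (.leaf 0x100562))))) (.node (.node (.node (.node (.leaf 0x300019) (.leaf 0x3001c2)) (.node (.leaf 0x3000ce) (.leaf 0x100324))) (.node (.node (.leaf 0x6a) (.leaf 0x100275)) (.node (.leaf 0x30012f) (.leaf 0x100510)))) (.node (.node (.node (.leaf 0x300041) (.leaf 0x10021e)) (.node (.leaf 0xfb) (.leaf 0x1003a5))) (.node (.node (.leaf 0x300099) (.leaf 0x3002c0)) (.node (.leaf 0x30016a) (.leaf 0x2005d2)))))) (.node (.node (.node (.node (.node (.leaf 0x300010) (.leaf 0x3001a6)) (.node (.leaf 0x1000bf)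 (.leaf 0x20030b))) (.node (.node (.leaf 0x30005f) (.leaf 0x100267)) (.node (.leaf 0x200121) (.leaf 0x100450)))) (.node (.node (.node (.leaf 0x38) (.leaf 0x10020a)) (.node (.leaf 0x2000ee) (.leaf 0x37c))) (.node (.node (.leaf 0x8c) (.leaf 0x2002af)) (.node (.leaf 0x10015b) (.leaf 0x100592))))) (.node (.node (.node (.node (.leaf 0x300023) (.leaf 0x2001da)) (.node (.leaf 0xd9) (.leaf 0x100338))) (.node (.node (.leaf 0x100074) (.leaf 0x300284)) (.node (.leaf 0x20013f) (.leaf 0x100539)))) (.node (.node (.node (.leaf 0x30004b) (.leaf 0x240)) (.node (.leaf 0x100109) (.leaf 0x1003d1))) (.node (.node (.leaf 0x3000a5) (.leaf 0x3002dc)) (.node (.leaf 0x30017d) (.leaf 0x300680))))))))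

/-- part of parents -/
def parentT5 : Trie :=
  (.node (.node (.node (.node (.node (.node (.node (.leaf 0x100001) (.leaf 0x300186)) (.node (.leaf 0xaa) (.leaf 0x2002e6))) (.node (.node (.leaf 0x20004f) (.leaf 0x10024a)) (.node (.leaf 0x10010d) (.leaf 0x3003df)))) (.node (.node (.node (.leaf 0x100027) (.leaf 0x3001e0)) (.node (.leaf 0x3000dc) (.leaf 0x200341))) (.node (.node (.leaf 0x100078) (.leaf 0x10028b)) (.node (.leaf 0x100144) (.leaf 0x300547))))) (.node (.node (.node (.node (.leaf 0x100014) (.leaf 0x3001af)) (.node (.leaf 0x3000c5) (.leaf 0x100313))) (.node (.node (.leaf 0x300063) (.leaf 0x20026d)) (.node (.leaf 0x200125) (.leaf 0x200483)))) (.node (.node (.node (.leaf 0x20003b) (.leaf 0x10020f)) (.node (.leaf 0x2000f3) (.leaf 0x10038c))) (.node (.node (.leaf 0x91) (.leaf 0x1002b7)) (.node (.leaf 0x200160) (.leaf 0x3005ad)))))) (.node (.node (.node (.node (.node (.leaf 0xb) (.leaf 0x10019d)) (.node (.leaf 0x1000b6) (.leaf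 0x3002fa))) (.node (.node (.leaf 0x300059) (.leaf 0x10025e)) (.node (.leaf 0x300119) (.leaf 0x428)))) (.node (.node (.node (.leaf 0x100031) (.leaf 0x1001f9)) (.node (.leaf 0x2000e7) (.leaf 0x100364))) (.node (.node (.leaf 0x100084) (.leaf 0x3002a0)) (.node (.leaf 0x200153) (.leaf 0x100574))))) (.node (.node (.node (.node (.leaf 0x30001d) (.leaf 0x2001cc)) (.node (.leaf 0x3000d2) (.leaf 0x100329))) (.node (.node (.leaf 0x30006d) (.leaf 0x20027a)) (.node (.leaf 0x100135) (.leaf 0x100522)))) (.node (.node (.node (.leaf 0x200045) (.leaf 0x200227)) (.node (.leaf 0x100100) (.leaf 0x2003b3))) (.node (.node (.leaf 0x9e) (.leaf 0x3002c9)) (.node (.leaf 0x100171) (.leaf 0x1005f9))))))) (.node (.node (.node (.node (.node (.node (.leaf 0x300005) (.leaf 0x300193)) (.node (.leaf 0x3000b1) (.leaf 0x3002f2))) (.node (.node (.leaf 0x100054) (.leaf 0x300257)) (.node (.leaf 0x300113) (.leaf 0x3003fd)))) (.node (.node (.node (.leaf 0x20002c) (.leaf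 0x1001ee)) (.node (.leaf 0xe2) (.leaf 0x300352))) (.node (.node (.leaf 0x30007d) (.leaf 0x300295)) (.node (.leaf 0x30014b) (.leaf 0x300559))))) (.node (.node (.node (.node (.leaf 0x300018) (.leaf 0x2001be)) (.node (.leaf 0x2000cd) (.leaf 0x200322))) (.node (.node (.leaf 0x69) (.leaf 0x100273)) (.node (.leaf 0x30012d) (.leaf 0x300503)))) (.node (.node (.node (.leaf 0x200040) (.leaf 0x10021b)) (.node (.leaf 0x2000f9) (.leaf 0x20039e))) (.node (.node (.leaf 0x100098) (.leaf 0x2bf)) (.node (.leaf 0x169) (.leaf 0x3005ce)))))) (.node (.node (.node (.node (.node (.leaf 0x10000f) (.leaf 0x1a5)) (.node (.leaf 0x3000bc) (.leaf 0x100308))) (.node (.node (.leaf 0x30005e) (.leaf 0x300265)) (.node (.leaf 0x100120) (.leaf 0x300444)))) (.node (.node (.node (.leaf 0x37) (.leaf 0x200208)) (.node (.leaf 0x1000ed) (.leaf 0x300374))) (.node (.node (.leaf 0x8a) (.leaf 0x3002ad)) (.node (.leaf 0x100159) (.leaf 0x30058c))))) (.node (.node (.node (.node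 (.leaf 0x300022) (.leaf 0x3001d8)) (.node (.leaf 0x2000d7) (.leaf 0x100335))) (.node (.node (.leaf 0x73) (.leaf 0x283)) (.node (.leaf 0x30013d) (.leaf 0x100537)))) (.node (.node (.node (.leaf 0x10004a) (.leaf 0x300238)) (.node (.leaf 0x200107) (.leaf 0x1003cb))) (.node (.node (.leaf 0x3000a4) (.leaf 0x2002d8)) (.node (.leaf 0x30017b) (.leaf 0x100662))))))))

/-- part of parents -/
def parentT13 : Trie :=
  (.node (.node (.node (.node (.node (.node (.node (.leaf 0x300003) (.leaf 0x10018d)) (.node (.leaf 0x2000ad) (.leaf 0x3002ec))) (.node (.node (.leaf 0x52) (.leaf 0x300251)) (.node (.leaf 0x200110) (.leaf 0x3ee)))) (.node (.node (.node (.leaf 0x2a) (.leaf 0x1001e6)) (.node (.leaf 0x2000df) (.leaf 0x34a))) (.node (.node (.leaf 0x7b) (.leaf 0x292)) (.node (.leaf 0x300148) (.leaf 0x300552))))) (.node (.node (.node (.node (.leaf 0x200016) (.leaf 0x3001b8)) (.node (.leaf 0x3000c9) (.leaf 0x30031b))) (.node (.node (.leaf 0x200066) (.leaf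 0x270)) (.node (.leaf 0x100129) (.leaf 0x1004ce)))) (.node (.node (.node (.leaf 0x3e) (.leaf 0x200214)) (.node (.leaf 0x1000f6) (.leaf 0x200397))) (.node (.node (.leaf 0x94) (.leaf 0x1002bb)) (.node (.leaf 0x300165) (.leaf 0x2005c6)))))) (.node (.node (.node (.node (.node (.leaf 0xd) (.leaf 0x1001a1)) (.node (.leaf 0x3000b9) (.leaf 0x100300))) (.node (.node (.leaf 0x30005b) (.leaf 0x300262)) (.node (.leaf 0x30011d) (.leaf 0x100430)))) (.node (.node (.node (.leaf 0x100034) (.leaf 0x300201)) (.node (.leaf 0xea) (.leaf 0x30036b))) (.node (.node (.leaf 0x100087) (.leaf 0x1002a7)) (.node (.leaf 0x156) (.leaf 0x20057c))))) (.node (.node (.node (.node (.leaf 0x20) (.leaf 0x3001d2)) (.node (.leaf 0x1000d5) (.leaf 0x20032e))) (.node (.node (.leaf 0x200070) (.leaf 0x30027f)) (.node (.leaf 0x300139) (.leaf 0x10052b)))) (.node (.node (.node (.leaf 0x300047) (.leaf 0x230)) (.node (.leaf 0x100104) (.leaf 0x2003ba))) (.node (.node (.leaf 0x3000a0)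 (.leaf 0x3002d2)) (.node (.leaf 0x178) (.leaf 0x300621))))))) (.node (.node (.node (.node (.node (.node (.leaf 0x200008) (.leaf 0x200197)) (.node (.leaf 0xb4) (.leaf 0x1002f7))) (.node (.node (.leaf 0x100057) (.leaf 0x20025b)) (.node (.leaf 0x100116) (.leaf 0x30040e)))) (.node (.node (.node (.leaf 0x30002e) (.leaf 0x1001f3)) (.node (.leaf 0x2000e4) (.leaf 0x10035d))) (.node (.node (.leaf 0x300080) (.leaf 0x29a)) (.node (.leaf 0x30014e) (.leaf 0x10056a))))) (.node (.node (.node (.node (.leaf 0x10001b) (.leaf 0x2001c7)) (.node (.leaf 0x1000d0) (.leaf 0x326))) (.node (.node (.leaf 0x10006b) (.leaf 0x300276)) (.node (.leaf 0x100131) (.leaf 0x100514)))) (.node (.node (.node (.leaf 0x100043) (.leaf 0x300220)) (.node (.leaf 0x1000fd) (.leaf 0x1003ad))) (.node (.node (.leaf 0x20009b) (.leaf 0x2002c3)) (.node (.leaf 0x10016d) (.leaf 0x2005db)))))) (.node (.node (.node (.node (.node (.leaf 0x300011) (.leaf 0x2001a9)) (.node (.leaf 0x1000c1)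 (.leaf 0x10030d))) (.node (.node (.leaf 0x61) (.leaf 0x300268)) (.node (.leaf 0x300122) (.leaf 0x45b)))) (.node (.node (.node (.leaf 0x39) (.leaf 0x20c)) (.node (.leaf 0x3000f0) (.leaf 0x200383))) (.node (.node (.leaf 0x20008d) (.leaf 0x2002b1)) (.node (.leaf 0x30015c) (.leaf 0x100599))))) (.node (.node (.node (.node (.leaf 0x300024) (.leaf 0x1001dd)) (.node (.leaf 0x1000da) (.leaf 0x30033a))) (.node (.node (.leaf 0x200075) (.leaf 0x100287)) (.node (.leaf 0x200141) (.leaf 0x10053c)))) (.node (.node (.node (.leaf 0x30004c) (.leaf 0x100243)) (.node (.leaf 0x20010a) (.leaf 0x3003d4))) (.node (.node (.leaf 0x2000a7) (.leaf 0x2002e1)) (.node (.leaf 0x180) (.leaf 0x3006a2))))))))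

/-- part of parents -/
def parentT3 : Trie :=
  (.node (.node (.node (.node (.node (.node (.node (.leaf 0x200000) (.leaf 0x200184)) (.node (.leaf 0x1000a9) (.leaf 0x1002e5))) (.node (.node (.leaf 0x30004e) (.leaf 0x248)) (.node (.leaf 0x10010c) (.leaf 0x3dc)))) (.node (.node (.node (.leaf 0x200026) (.leaf 0x1001e0)) (.node (.leaf 0x1000dc) (.leaf 0x100340))) (.node (.node (.leaf 0x200077) (.leaf 0x10028a)) (.node (.leaf 0x100143) (.leaf 0x300545))))) (.node (.node (.node (.node (.leaf 0x200013) (.leaf 0x3001ad)) (.node (.leaf 0x1000c4) (.leaf 0x300310))) (.node (.node (.leaf 0x100063) (.leaf 0x20026c)) (.node (.leaf 0x300124) (.leaf 0x100479)))) (.node (.node (.node (.leaf 0x30003a) (.leaf 0x20020e)) (.node (.leaf 0x3000f2) (.leaf 0x200389))) (.node (.node (.leaf 0x100090) (.leaf 0x2002b4)) (.node (.leaf 0x30015f) (.leaf 0x1005a9)))))) (.node (.node (.node (.node (.node (.leaf 0x10000a) (.leaf 0x20019a)) (.node (.leaf 0x3000b5)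 (.leaf 0x1002fa))) (.node (.node (.leaf 0x100059) (.leaf 0x10025d)) (.node (.leaf 0x100119) (.leaf 0x100423)))) (.node (.node (.node (.leaf 0x300030) (.leaf 0x3001f6)) (.node (.leaf 0x2000e6) (.leaf 0x362))) (.node (.node (.leaf 0x300083) (.leaf 0x20029e)) (.node (.leaf 0x200152) (.leaf 0x300571))))) (.node (.node (.node (.node (.leaf 0x30001c) (.leaf 0x1001cb)) (.node (.leaf 0x1000d2) (.leaf 0x200328))) (.node (.node (.leaf 0x10006d) (.leaf 0x300279)) (.node (.leaf 0x200134) (.leaf 0x30051c)))) (.node (.node (.node (.leaf 0x45) (.leaf 0x100226)) (.node (.leaf 0x2000ff) (.leaf 0x2003b2))) (.node (.node (.leaf 0x20009d) (.leaf 0x3002c7)) (.node (.leaf 0x100170) (.leaf 0x2005f3))))))) (.node (.node (.node (.node (.node (.node (.leaf 0x100005) (.leaf 0x300191)) (.node (.leaf 0x3000b0) (.leaf 0x1002ef))) (.node (.node (.leaf 0x200053) (.leaf 0x300256)) (.node (.leaf 0x300112) (.leaf 0x1003f6)))) (.node (.node (.node (.leaf 0x2c) (.leaf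 0x3001eb)) (.node (.leaf 0x1000e1) (.leaf 0x10034d))) (.node (.node (.leaf 0x7d) (.leaf 0x300294)) (.node (.leaf 0x30014a) (.leaf 0x200558))))) (.node (.node (.node (.node (.leaf 0x100018) (.leaf 0x1be)) (.node (.leaf 0x3000cc) (.leaf 0x322))) (.node (.node (.leaf 0x100068) (.leaf 0x100272)) (.node (.leaf 0x10012c) (.leaf 0x3004f6)))) (.node (.node (.node (.leaf 0x40) (.leaf 0x219)) (.node (.leaf 0xf9) (.leaf 0x20039a))) (.node (.node (.leaf 0x100097) (.leaf 0x2002be)) (.node (.leaf 0x200168) (.leaf 0x2005cd)))))) (.node (.node (.node (.node (.node (.leaf 0x30000e) (.leaf 0x2001a4)) (.node (.leaf 0x1000bc) (.leaf 0x300305))) (.node (.node (.leaf 0x30005d) (.leaf 0x300264)) (.node (.leaf 0x30011f) (.leaf 0x43b)))) (.node (.node (.node (.leaf 0x100036) (.leaf 0x208)) (.node (.leaf 0x3000eb) (.leaf 0x200372))) (.node (.node (.leaf 0x100089) (.leaf 0x3002ab)) (.node (.leaf 0x100158) (.leaf 0x300589))))) (.node (.node (.node (.node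 (.leaf 0x100022) (.leaf 0x1001d5)) (.node (.leaf 0xd7) (.leaf 0x333))) (.node (.node (.leaf 0x200072) (.leaf 0x200282)) (.node (.leaf 0x30013c) (.leaf 0x100535)))) (.node (.node (.node (.leaf 0x300049) (.leaf 0x100233)) (.node (.leaf 0x300106) (.leaf 0x1003c7))) (.node (.node (.leaf 0x2000a3) (.leaf 0x2d8)) (.node (.leaf 0x30017a) (.leaf 0x300651))))))))

/-- part of parents -/
def parentT11 : Trie :=
  (.node (.node (.node (.node (.node (.node (.node (.leaf 0x300002) (.leaf 0x10018c)) (.node (.leaf 0x3000ac) (.leaf 0x2002ea))) (.node (.node (.leaf 0x100051) (.leaf 0x250)) (.node (.leaf 0x110) (.leaf 0x3ec)))) (.node (.node (.node (.leaf 0x200029) (.leaf 0x2001e4)) (.node (.leaf 0x3000de) (.leaf 0x200348))) (.node (.node (.leaf 0x20007a) (.leaf 0x100291)) (.node (.leaf 0x100148) (.leaf 0x300550))))) (.node (.node (.node (.node (.leaf 0x16) (.leaf 0x2001b7)) (.node (.leaf 0x1000c8) (.leaf 0x10031a))) (.node (.node (.leaf 0x300065)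 (.leaf 0x20026f)) (.node (.leaf 0x300128) (.leaf 0x1004b5)))) (.node (.node (.node (.leaf 0x20003d) (.leaf 0x200213)) (.node (.leaf 0x2000f5) (.leaf 0x397))) (.node (.node (.leaf 0x100093) (.leaf 0x2002ba)) (.node (.leaf 0x100164) (.leaf 0x2005be)))))) (.node (.node (.node (.node (.node (.leaf 0x20000c) (.leaf 0x2001a0)) (.node (.leaf 0x2000b8) (.leaf 0x2002fe))) (.node (.node (.leaf 0x10005b) (.leaf 0x100262)) (.node (.leaf 0x20011c) (.leaf 0x30042d)))) (.node (.node (.node (.leaf 0x200033) (.leaf 0x100200)) (.node (.leaf 0x1000e9) (.leaf 0x36a))) (.node (.node (.leaf 0x200086) (.leaf 0x1002a6)) (.node (.leaf 0x200155) (.leaf 0x10057b))))) (.node (.node (.node (.node (.leaf 0x20001f) (.leaf 0x2001d0)) (.node (.leaf 0x2000d4) (.leaf 0x20032d))) (.node (.node (.leaf 0x30006f) (.leaf 0x10027e)) (.node (.leaf 0x100138) (.leaf 0x529)))) (.node (.node (.node (.leaf 0x100047) (.leaf 0x20022e)) (.node (.leaf 0x200103) (.leaf 0x3003b8)))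 (.node (.node (.leaf 0x1000a0) (.leaf 0x2002d1)) (.node (.leaf 0x100177) (.leaf 0x200617))))))) (.node (.node (.node (.node (.node (.node (.leaf 0x300007) (.leaf 0x197)) (.node (.leaf 0x1000b3) (.leaf 0x1002f5))) (.node (.node (.leaf 0x200056) (.leaf 0x10025a)) (.node (.leaf 0x300115) (.leaf 0x10040c)))) (.node (.node (.node (.leaf 0x10002e) (.leaf 0x2001f2)) (.node (.leaf 0xe4) (.leaf 0x10035c))) (.node (.node (.leaf 0x100080) (.leaf 0x300298)) (.node (.leaf 0x10014e) (.leaf 0x200566))))) (.node (.node (.node (.node (.leaf 0x30001a) (.leaf 0x3001c5)) (.node (.leaf 0x3000cf) (.leaf 0x100325))) (.node (.node (.leaf 0x20006a) (.leaf 0x276)) (.node (.leaf 0x200130) (.leaf 0x300511)))) (.node (.node (.node (.leaf 0x200042) (.leaf 0x30021e)) (.node (.leaf 0x3000fc) (.leaf 0x2003a6))) (.node (.node (.leaf 0x20009a) (.leaf 0x3002c2)) (.node (.leaf 0x20016b) (.leaf 0x5da)))))) (.node (.node (.node (.node (.node (.leaf 0x100011) (.leaf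 0x3001a8)) (.node (.leaf 0x3000c0) (.leaf 0x20030c))) (.node (.node (.leaf 0x200060) (.leaf 0x100268)) (.node (.leaf 0x100122) (.leaf 0x300453)))) (.node (.node (.node (.leaf 0x200038) (.leaf 0x10020b)) (.node (.leaf 0x2000ef) (.leaf 0x300381))) (.node (.node (.leaf 0x20008c) (.leaf 0x2b1)) (.node (.leaf 0x15c) (.leaf 0x100594))))) (.node (.node (.node (.node (.leaf 0x100024) (.leaf 0x1001db)) (.node (.leaf 0x2000d9) (.leaf 0x300338))) (.node (.node (.leaf 0x75) (.leaf 0x200285)) (.node (.leaf 0x100140) (.leaf 0x53a)))) (.node (.node (.node (.leaf 0x10004c) (.leaf 0x100242)) (.node (.leaf 0x10a) (.leaf 0x3d2))) (.node (.node (.leaf 0x3000a6) (.leaf 0x3002df)) (.node (.leaf 0x30017e) (.leaf 0x20068c))))))))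

/-- part of parents -/
def parentT7 : Trie :=
  (.node (.node (.node (.node (.node (.node (.node (.leaf 0x300001) (.leaf 0x300187)) (.node (.leaf 0x1000ab) (.leaf 0x2e9))) (.node (.node (.leaf 0x50) (.leaf 0x30024b)) (.node (.leaf 0x30010d) (.leaf 0x2003e2)))) (.node (.node (.node (.leaf 0x28) (.leaf 0x2001e1)) (.node (.leaf 0x2000dd) (.leaf 0x200342))) (.node (.node (.leaf 0x79) (.leaf 0x28c)) (.node (.leaf 0x100145) (.leaf 0x10054e))))) (.node (.node (.node (.node (.leaf 0x15) (.leaf 0x1001b1)) (.node (.leaf 0x2000c6) (.leaf 0x300313))) (.node (.node (.leaf 0x100064) (.leaf 0x10026e)) (.node (.leaf 0x300126) (.leaf 0x30049b)))) (.node (.node (.node (.leaf 0x10003c) (.leaf 0x300211)) (.node (.leaf 0x1000f4) (.leaf 0x300392))) (.node (.node (.leaf 0x300091) (.leaf 0x1002b8)) (.node (.leaf 0x300161) (.leaf 0x5b0)))))) (.node (.node (.node (.node (.node (.leaf 0x20000b) (.leaf 0x10019e)) (.node (.leaf 0x3000b6) (.leaf 0x2002fb)))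 (.node (.node (.leaf 0x10005a) (.leaf 0x10025f)) (.node (.leaf 0x20011a) (.leaf 0x10042a)))) (.node (.node (.node (.leaf 0x300031) (.leaf 0x3001f9)) (.node (.leaf 0xe8) (.leaf 0x300365))) (.node (.node (.leaf 0x300084) (.leaf 0x3002a1)) (.node (.leaf 0x100154) (.leaf 0x200575))))) (.node (.node (.node (.node (.leaf 0x10001e) (.leaf 0x1cf)) (.node (.leaf 0x2000d3) (.leaf 0x30032b))) (.node (.node (.leaf 0x30006e) (.leaf 0x30027b)) (.node (.leaf 0x300136) (.leaf 0x100524)))) (.node (.node (.node (.leaf 0x46) (.leaf 0x200228)) (.node (.leaf 0x101) (.leaf 0x1003b4))) (.node (.node (.leaf 0x30009e) (.leaf 0x1002cb)) (.node (.leaf 0x172) (.leaf 0x1005ff))))))) (.node (.node (.node (.node (.node (.node (.leaf 0x300006) (.leaf 0x195)) (.node (.leaf 0x1000b2) (.leaf 0x3002f3))) (.node (.node (.leaf 0x100055) (.leaf 0x300258)) (.node (.leaf 0x200114) (.leaf 0x300405)))) (.node (.node (.node (.leaf 0x10002d) (.leaf 0x2001f0)) (.node (.leaf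 0x2000e2) (.leaf 0x300354))) (.node (.node (.leaf 0x10007e) (.leaf 0x200296)) (.node (.leaf 0x10014c) (.leaf 0x10055d))))) (.node (.node (.node (.node (.leaf 0x100019) (.leaf 0x1001c1)) (.node (.leaf 0xce) (.leaf 0x323))) (.node (.node (.leaf 0x200069) (.leaf 0x100274)) (.node (.leaf 0x10012e) (.leaf 0x10050e)))) (.node (.node (.node (.leaf 0x100041) (.leaf 0x30021c)) (.node (.leaf 0x2000fa) (.leaf 0x3003a3))) (.node (.node (.leaf 0x100099) (.leaf 0x2002bf)) (.node (.leaf 0x300169) (.leaf 0x3005d1)))))) (.node (.node (.node (.node (.node (.leaf 0x30000f) (.leaf 0x2001a5)) (.node (.leaf 0x3000bd) (.leaf 0x20030a))) (.node (.node (.leaf 0x10005f) (.leaf 0x100266)) (.node (.leaf 0x121) (.leaf 0x300448)))) (.node (.node (.node (.leaf 0x200037) (.leaf 0x209)) (.node (.leaf 0x3000ed) (.leaf 0x300377))) (.node (.node (.leaf 0x30008a) (.leaf 0x2af)) (.node (.leaf 0x10015a) (.leaf 0x10058e))))) (.node (.node (.node (.node (.leaf 0x100023)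 (.leaf 0x3001d9)) (.node (.leaf 0x1000d8) (.leaf 0x300336))) (.node (.node (.leaf 0x200073) (.leaf 0x300283)) (.node (.leaf 0x30013e) (.leaf 0x100538)))) (.node (.node (.node (.leaf 0x10004b) (.leaf 0x30023a)) (.node (.leaf 0x200108) (.leaf 0x3003cf))) (.node (.node (.leaf 0x1000a5) (.leaf 0x1002db)) (.node (.leaf 0x20017c) (.leaf 0x100678))))))))

/-- part of parents -/
def parentT15 : Trie :=
  (.node (.node (.node (.node (.node (.node (.node (.leaf 0x100004) (.leaf 0x20018e)) (.node (.leaf 0x1000ae) (.leaf 0x2002ed))) (.node (.node (.leaf 0x200052) (.leaf 0x300254)) (.node (.leaf 0x300111) (.leaf 0x3003ee)))) (.node (.node (.node (.leaf 0x20002a) (.leaf 0x1e7)) (.node (.leaf 0xe0) (.leaf 0x34b))) (.node (.node (.leaf 0x20007b) (.leaf 0x200292)) (.node (.leaf 0x100149) (.leaf 0x300553))))) (.node (.node (.node (.node (.leaf 0x17) (.leaf 0x3001b9)) (.node (.leaf 0x2000ca) (.leaf 0x30031c))) (.node (.node (.leaf 0x67) (.leaf 0x300270))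 (.node (.leaf 0x300129) (.leaf 0x1004df)))) (.node (.node (.node (.leaf 0x20003e) (.leaf 0x300215)) (.node (.leaf 0xf7) (.leaf 0x399))) (.node (.node (.leaf 0x300094) (.leaf 0x2bd)) (.node (.leaf 0x300166) (.leaf 0x1005c8)))))) (.node (.node (.node (.node (.node (.leaf 0x20000d) (.leaf 0x1a3)) (.node (.leaf 0x2000ba) (.leaf 0x301))) (.node (.node (.leaf 0x20005c) (.leaf 0x100263)) (.node (.leaf 0x30011e) (.leaf 0x100432)))) (.node (.node (.node (.leaf 0x35) (.leaf 0x300202)) (.node (.leaf 0x3000ea) (.leaf 0x36f))) (.node (.node (.leaf 0x300087) (.leaf 0x2002a8)) (.node (.leaf 0x300156) (.leaf 0x300581))))) (.node (.node (.node (.node (.leaf 0x300020) (.leaf 0x2001d3)) (.node (.leaf 0xd6) (.leaf 0x30032f))) (.node (.node (.leaf 0x100071) (.leaf 0x300280)) (.node (.leaf 0x30013a) (.leaf 0x20052f)))) (.node (.node (.node (.leaf 0x100048) (.leaf 0x231)) (.node (.leaf 0x100105) (.leaf 0x2003c1))) (.node (.node (.leaf 0x2000a1) (.leaf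 0x3002d3)) (.node (.leaf 0x200178) (.leaf 0x30062d))))))) (.node (.node (.node (.node (.node (.node (.leaf 0x9) (.leaf 0x300198)) (.node (.leaf 0x2000b4) (.leaf 0x2002f8))) (.node (.node (.leaf 0x300057) (.leaf 0x10025c)) (.node (.leaf 0x117) (.leaf 0x200411)))) (.node (.node (.node (.leaf 0x30002f) (.leaf 0x1f5)) (.node (.leaf 0x1000e5) (.leaf 0x10035e))) (.node (.node (.leaf 0x200081) (.leaf 0x30029a)) (.node (.leaf 0x100150) (.leaf 0x30056e))))) (.node (.node (.node (.node (.leaf 0x30001b) (.leaf 0x3001c8)) (.node (.leaf 0x3000d0) (.leaf 0x100327))) (.node (.node (.leaf 0x6c) (.leaf 0x278)) (.node (.leaf 0x300132) (.leaf 0x100515)))) (.node (.node (.node (.leaf 0x44) (.leaf 0x200221)) (.node (.leaf 0xfe) (.leaf 0x3003ae))) (.node (.node (.leaf 0x10009c) (.leaf 0x1002c6)) (.node (.leaf 0x10016e) (.leaf 0x1005e6)))))) (.node (.node (.node (.node (.node (.leaf 0x200012) (.leaf 0x1001ac)) (.node (.leaf 0x3000c2) (.leaf 0x30f)))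 (.node (.node (.leaf 0x300061) (.leaf 0x10026a)) (.node (.leaf 0x100123) (.leaf 0x10046c)))) (.node (.node (.node (.leaf 0x200039) (.leaf 0x10020d)) (.node (.leaf 0x1000f1) (.leaf 0x200384))) (.node (.node (.leaf 0x8e) (.leaf 0x3002b2)) (.node (.leaf 0x15e) (.leaf 0x3005a1))))) (.node (.node (.node (.node (.leaf 0x200025) (.leaf 0x2001de)) (.node (.leaf 0x3000da) (.leaf 0x20033b))) (.node (.node (.leaf 0x200076) (.leaf 0x100288)) (.node (.leaf 0x100142) (.leaf 0x541)))) (.node (.node (.node (.leaf 0x30004d) (.leaf 0x100244)) (.node (.leaf 0x10b) (.leaf 0x3d7))) (.node (.node (.leaf 0x1000a8) (.leaf 0x3002e2)) (.node (.leaf 0x300180) (.leaf 0x3006ab))))))))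

/-- parents -/
def parentT : Trie :=
  (.node (.node (.node (.node parentT0 parentT8) (.node parentT4 parentT12)) (.node (.node parentT2 parentT10) (.node parentT6 parentT14))) (.node (.node (.node parentT1 parentT9) (.node parentT5 parentT13)) (.node (.node parentT3 parentT11) (.node parentT7 parentT15))))

/-- part of the order of keys -/
def sortT0 : Trie :=
  (.node (.node (.node (.node (.node (.node (.node (.leaf 0x710) (.leaf 0x6d4)) (.node (.leaf 0x668) (.leaf 0x339))) (.node (.node (.leaf 0x440) (.leaf 0x581)) (.node (.leaf 0x6cd) (.leaf 0x2c7)))) (.node (.node (.node (.leaf 0x4ab) (.leaf 0x7d2)) (.node (.leaf 0x79a) (.leaf 0x109))) (.node (.node (.leaf 0x76f) (.leaf 0x4cf)) (.node (.leaf 0x60a) (.leaf 0x62d))))) (.node (.node (.node (.node (.leaf 0x4ec) (.leaf 0x366)) (.node (.leaf 0x688) (.leaf 0x41))) (.node (.node (.leaf 0x480) (.leaf 0x723)) (.node (.leaf 0x553) (.leaf 0x125)))) (.node (.node (.node (.leaf 0x447)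 (.leaf 0x4de)) (.node (.leaf 0x6db) (.leaf 0x46a))) (.node (.node (.leaf 0x55b) (.leaf 0x6ad)) (.node (.leaf 0x629) (.leaf 0x78c)))))) (.node (.node (.node (.node (.node (.leaf 0xfb) (.leaf 0x73e)) (.node (.leaf 0x40a) (.leaf 0x5c5))) (.node (.node (.leaf 0x323) (.leaf 0x5df)) (.node (.leaf 0x36f) (.leaf 0x156)))) (.node (.node (.node (.leaf 0x599) (.leaf 0x3c5)) (.node (.leaf 0x5c7) (.leaf 0x219))) (.node (.node (.leaf 0x6c7) (.leaf 0x64d)) (.node (.leaf 0x91) (.leaf 0x689))))) (.node (.node (.node (.node (.leaf 0x68a) (.leaf 0x14b)) (.node (.leaf 0x57d) (.leaf 0x778))) (.node (.node (.leaf 0x6cc) (.leaf 0x410)) (.node (.leaf 0x2fc) (.leaf 0x34f)))) (.node (.node (.node (.leaf 0x265) (.leaf 0x73d)) (.node (.leaf 0x38d) (.leaf 0x7ef))) (.node (.node (.leaf 0x6ec) (.leaf 0x55a)) (.node (.leaf 0x475) (.leaf 0x4a1))))))) (.node (.node (.node (.node (.node (.node (.leaf 0x0) (.leaf 0xe8)) (.node (.leaf 0x7dd) (.leaf 0x393))) (.node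 (.node (.leaf 0xc) (.leaf 0x412)) (.node (.leaf 0x7e6) (.leaf 0x392)))) (.node (.node (.node (.leaf 0x740) (.leaf 0x65f)) (.node (.leaf 0x5c6) (.leaf 0x36d))) (.node (.node (.leaf 0x346) (.leaf 0x4ba)) (.node (.leaf 0x4ce) (.leaf 0x58a))))) (.node (.node (.node (.node (.leaf 0x1ff) (.leaf 0x4fc)) (.node (.leaf 0x41e) (.leaf 0x5e6))) (.node (.node (.leaf 0x114) (.leaf 0x89)) (.node (.leaf 0x178) (.leaf 0x86)))) (.node (.node (.node (.leaf 0x13d) (.leaf 0x6c3)) (.node (.leaf 0x2f3) (.leaf 0x66b))) (.node (.node (.leaf 0x58) (.leaf 0x1da)) (.node (.leaf 0x552) (.leaf 0x1d8)))))) (.node (.node (.node (.node (.node (.leaf 0x309) (.leaf 0x207)) (.node (.leaf 0xd6) (.leaf 0x3a3))) (.node (.node (.leaf 0x3dc) (.leaf 0x74b)) (.node (.leaf 0x1fc) (.leaf 0x58e)))) (.node (.node (.node (.leaf 0x3b5) (.leaf 0x74a)) (.node (.leaf 0x19c) (.leaf 0x759))) (.node (.node (.leaf 0x75a) (.leaf 0x5ce)) (.node (.leaf 0x21) (.leaf 0xa0))))) (.node (.node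 (.node (.node (.leaf 0x378) (.leaf 0xb)) (.node (.leaf 0x379) (.leaf 0x1dc))) (.node (.node (.leaf 0x370) (.leaf 0x2e5)) (.node (.leaf 0x221) (.leaf 0x661)))) (.node (.node (.node (.leaf 0x4c9) (.leaf 0x182)) (.node (.leaf 0x793) (.leaf 0x658))) (.node (.node (.leaf 0x69b) (.leaf 0x7f7)) (.node (.leaf 0x20f) (.leaf 0x3aa))))))))

/-- part of the order of keys -/
def sortT8 : Trie :=
  (.node (.node (.node (.node (.node (.node (.node (.leaf 0x569) (.leaf 0x7f0)) (.node (.leaf 0x437) (.leaf 0x148))) (.node (.node (.leaf 0x79c) (.leaf 0x1f0)) (.node (.leaf 0xe7) (.leaf 0xbf)))) (.node (.node (.node (.leaf 0x771) (.leaf 0x1ea)) (.node (.leaf 0x526) (.leaf 0x2a0))) (.node (.node (.leaf 0x5f3) (.leaf 0x50b)) (.node (.leaf 0x1db) (.leaf 0x4ac))))) (.node (.node (.node (.node (.leaf 0x746) (.leaf 0x21d)) (.node (.leaf 0x5e5) (.leaf 0x66))) (.node (.node (.leaf 0x4d1) (.leaf 0x71e)) (.node (.leaf 0x30c) (.leaf 0x385)))) (.node (.node (.node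 (.leaf 0xaf) (.leaf 0x665)) (.node (.leaf 0x319) (.leaf 0x2a))) (.node (.node (.leaf 0x5ea) (.leaf 0x3d)) (.node (.leaf 0x81) (.leaf 0x30b)))))) (.node (.node (.node (.node (.node (.leaf 0x534) (.leaf 0x166)) (.node (.leaf 0x186) (.leaf 0x559))) (.node (.node (.leaf 0x7a9) (.leaf 0x5b3)) (.node (.leaf 0x681) (.leaf 0xcb)))) (.node (.node (.node (.leaf 0x6b6) (.leaf 0x218)) (.node (.leaf 0x232) (.leaf 0x168))) (.node (.node (.leaf 0xa8) (.leaf 0x1f3)) (.node (.leaf 0x7f1) (.leaf 0x460))))) (.node (.node (.node (.node (.leaf 0x43e) (.leaf 0x19a)) (.node (.leaf 0x7c8) (.leaf 0x474))) (.node (.node (.leaf 0x267) (.leaf 0x787)) (.node (.leaf 0x211) (.leaf 0x3eb)))) (.node (.node (.node (.leaf 0x292) (.leaf 0x16b)) (.node (.leaf 0x7cb) (.leaf 0x115))) (.node (.node (.leaf 0x730) (.leaf 0x2ee)) (.node (.leaf 0x19) (.leaf 0x4cd))))))) (.node (.node (.node (.node (.node (.node (.leaf 0x7b9) (.leaf 0x527)) (.node (.leaf 0x395) (.leaf 0x4ef)))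 (.node (.node (.leaf 0x795) (.leaf 0x2dd)) (.node (.leaf 0xb4) (.leaf 0x4aa)))) (.node (.node (.node (.leaf 0x21a) (.leaf 0x3ab)) (.node (.leaf 0x190) (.leaf 0x53d))) (.node (.node (.leaf 0x2eb) (.leaf 0x36b)) (.node (.leaf 0x4bb) (.leaf 0x270))))) (.node (.node (.node (.node (.leaf 0x143) (.leaf 0x3ea)) (.node (.leaf 0x149) (.leaf 0x670))) (.node (.node (.leaf 0x5d7) (.leaf 0x2ec)) (.node (.leaf 0x1a) (.leaf 0x798)))) (.node (.node (.node (.leaf 0x145) (.leaf 0x334)) (.node (.leaf 0x63b) (.leaf 0x691))) (.node (.node (.leaf 0x5a9) (.leaf 0x37c)) (.node (.leaf 0x616) (.leaf 0xd3)))))) (.node (.node (.node (.node (.node (.leaf 0x4e1) (.leaf 0x609)) (.node (.leaf 0x5a4) (.leaf 0x2a8))) (.node (.node (.leaf 0xac) (.leaf 0x42)) (.node (.leaf 0xfa) (.leaf 0x633)))) (.node (.node (.node (.leaf 0x473) (.leaf 0x313)) (.node (.leaf 0x54e) (.leaf 0x8d))) (.node (.node (.leaf 0x512) (.leaf 0x23)) (.node (.leaf 0x744) (.leaf 0x20))))) (.node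 (.node (.node (.node (.leaf 0x3e5) (.leaf 0x3d5)) (.node (.leaf 0x30a) (.leaf 0x27))) (.node (.node (.leaf 0x324) (.leaf 0x45d)) (.node (.leaf 0x71a) (.leaf 0x4c8)))) (.node (.node (.node (.leaf 0x3d7) (.leaf 0x51f)) (.node (.leaf 0x5b1) (.leaf 0x2d4))) (.node (.node (.leaf 0x262) (.leaf 0x542)) (.node (.leaf 0x118) (.leaf 0x88))))))))

/-- part of the order of keys -/
def sortT4 : Trie :=
  (.node (.node (.node (.node (.node (.node (.node (.leaf 0x2) (.leaf 0x5ab)) (.node (.leaf 0x1de) (.leaf 0x25f))) (.node (.node (.leaf 0x55) (.leaf 0x6d8)) (.node (.leaf 0x18d) (.leaf 0x2fa)))) (.node (.node (.node (.leaf 0x3fb) (.leaf 0x786)) (.node (.leaf 0x2ac) (.leaf 0x708))) (.node (.node (.leaf 0x49) (.leaf 0x35b)) (.node (.leaf 0x57e) (.leaf 0x179))))) (.node (.node (.node (.node (.leaf 0x79e) (.leaf 0xb9)) (.node (.leaf 0x713) (.leaf 0x32f))) (.node (.node (.leaf 0x42b) (.leaf 0x700)) (.node (.leaf 0x515) (.leaf 0x6f6)))) (.node (.node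 (.node (.leaf 0x37a) (.leaf 0x7c9)) (.node (.leaf 0x5a7) (.leaf 0x361))) (.node (.node (.leaf 0x539) (.leaf 0x582)) (.node (.leaf 0x1ce) (.leaf 0x377)))))) (.node (.node (.node (.node (.node (.leaf 0x24d) (.leaf 0x729)) (.node (.leaf 0x35c) (.leaf 0x214))) (.node (.node (.leaf 0x4c5) (.leaf 0x196)) (.node (.leaf 0x4f9) (.leaf 0x605)))) (.node (.node (.node (.leaf 0x62b) (.leaf 0x438)) (.node (.leaf 0x70c) (.leaf 0x66d))) (.node (.node (.leaf 0x10e) (.leaf 0x73a)) (.node (.leaf 0x43) (.leaf 0x56d))))) (.node (.node (.node (.node (.leaf 0x245) (.leaf 0x131)) (.node (.leaf 0x690) (.leaf 0x3ba))) (.node (.node (.leaf 0x5f7) (.leaf 0x784)) (.node (.leaf 0x8b) (.leaf 0x3e6)))) (.node (.node (.node (.leaf 0xc4) (.leaf 0x6c2)) (.node (.leaf 0x45f) (.leaf 0x7a2))) (.node (.node (.leaf 0x5a1) (.leaf 0x5b9)) (.node (.leaf 0x327) (.leaf 0x2de))))))) (.node (.node (.node (.node (.node (.node (.leaf 0x435) (.leaf 0x1f1)) (.node (.leaf 0x43b)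 (.leaf 0x277))) (.node (.node (.leaf 0x8) (.leaf 0x25a)) (.node (.leaf 0x3bf) (.leaf 0x4bf)))) (.node (.node (.node (.leaf 0x63e) (.leaf 0x1e5)) (.node (.leaf 0x697) (.leaf 0x2fe))) (.node (.node (.leaf 0x263) (.leaf 0x3c3)) (.node (.leaf 0x2ca) (.leaf 0x632))))) (.node (.node (.node (.node (.leaf 0x104) (.leaf 0x4f6)) (.node (.leaf 0x776) (.leaf 0x19b))) (.node (.node (.leaf 0x204) (.leaf 0x331)) (.node (.leaf 0x1c5) (.leaf 0x467)))) (.node (.node (.node (.leaf 0x20b) (.leaf 0x676)) (.node (.leaf 0x7e3) (.leaf 0x5aa))) (.node (.node (.leaf 0x76d) (.leaf 0x655)) (.node (.leaf 0x2f) (.leaf 0x596)))))) (.node (.node (.node (.node (.node (.leaf 0xa1) (.leaf 0x61e)) (.node (.leaf 0x73b) (.leaf 0x70))) (.node (.node (.leaf 0x3c6) (.leaf 0x26)) (.node (.leaf 0x226) (.leaf 0xda)))) (.node (.node (.node (.leaf 0x286) (.leaf 0x5ed)) (.node (.leaf 0x52d) (.leaf 0x3f9))) (.node (.node (.leaf 0x4e4) (.leaf 0x161)) (.node (.leaf 0xfe) (.leaf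 0x3ec))))) (.node (.node (.node (.node (.leaf 0x348) (.leaf 0x3fd)) (.node (.leaf 0x3df) (.leaf 0x73f))) (.node (.node (.leaf 0x2d3) (.leaf 0x7ad)) (.node (.leaf 0x591) (.leaf 0x1a9)))) (.node (.node (.node (.leaf 0x446) (.leaf 0x1e1)) (.node (.leaf 0x49d) (.leaf 0x101))) (.node (.node (.leaf 0x752) (.leaf 0x4da)) (.node (.leaf 0x6fb) (.leaf 0x7e5))))))))

/-- part of the order of keys -/
def sortT12 : Trie :=
  (.node (.node (.node (.node (.node (.node (.node (.leaf 0x5c2) (.leaf 0x350)) (.node (.leaf 0x6) (.leaf 0x5fb))) (.node (.node (.leaf 0x757) (.leaf 0x589)) (.node (.leaf 0x631) (.leaf 0x7fa)))) (.node (.node (.node (.leaf 0x27d) (.leaf 0x1b7)) (.node (.leaf 0x18a) (.leaf 0x4b7))) (.node (.node (.leaf 0x6d9) (.leaf 0x47e)) (.node (.leaf 0x5fc) (.leaf 0x330))))) (.node (.node (.node (.node (.leaf 0x6a7) (.leaf 0x1ad)) (.node (.leaf 0x674) (.leaf 0x351))) (.node (.node (.leaf 0x452) (.leaf 0x1bc)) (.node (.leaf 0x349) (.leaf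 0x45a)))) (.node (.node (.node (.leaf 0x2da) (.leaf 0x5bb)) (.node (.leaf 0x31a) (.leaf 0x720))) (.node (.node (.leaf 0x699) (.leaf 0x5fd)) (.node (.leaf 0x74) (.leaf 0x7aa)))))) (.node (.node (.node (.node (.node (.leaf 0x59f) (.leaf 0x592)) (.node (.leaf 0xd0) (.leaf 0x6d2))) (.node (.node (.leaf 0x7b3) (.leaf 0x1d0)) (.node (.leaf 0x6e4) (.leaf 0x5a)))) (.node (.node (.node (.leaf 0x195) (.leaf 0x736)) (.node (.leaf 0x1e7) (.leaf 0x6fe))) (.node (.node (.leaf 0x418) (.leaf 0x603)) (.node (.leaf 0x7af) (.leaf 0xc5))))) (.node (.node (.node (.node (.leaf 0x32d) (.leaf 0x70e)) (.node (.leaf 0x477) (.leaf 0x4e8))) (.node (.node (.leaf 0x7a6) (.leaf 0x3da)) (.node (.leaf 0x60c) (.leaf 0x77e)))) (.node (.node (.node (.leaf 0x768) (.leaf 0x71b)) (.node (.leaf 0x463) (.leaf 0x554))) (.node (.node (.leaf 0x56a) (.leaf 0x48a)) (.node (.leaf 0x6d0) (.leaf 0x333))))))) (.node (.node (.node (.node (.node (.node (.leaf 0x33e) (.leaf 0x72d))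 (.node (.leaf 0x493) (.leaf 0x34b))) (.node (.node (.leaf 0xca) (.leaf 0x41c)) (.node (.leaf 0x35e) (.leaf 0x52)))) (.node (.node (.node (.leaf 0x175) (.leaf 0x381)) (.node (.leaf 0x6da) (.leaf 0x1b2))) (.node (.node (.leaf 0x75b) (.leaf 0xba)) (.node (.leaf 0x3fa) (.leaf 0x7e1))))) (.node (.node (.node (.node (.leaf 0x6c9) (.leaf 0x4c6)) (.node (.leaf 0x754) (.leaf 0x64a))) (.node (.node (.leaf 0x37) (.leaf 0x42a)) (.node (.leaf 0x5e3) (.leaf 0x2a1)))) (.node (.node (.node (.leaf 0x5a5) (.leaf 0x284)) (.node (.leaf 0x1df) (.leaf 0x1f4))) (.node (.node (.leaf 0x57c) (.leaf 0x29e)) (.node (.leaf 0x639) (.leaf 0x61d)))))) (.node (.node (.node (.node (.node (.leaf 0x8a) (.leaf 0xdd)) (.node (.leaf 0x13f) (.leaf 0x341))) (.node (.node (.leaf 0x329) (.leaf 0x7b6)) (.node (.leaf 0x5a8) (.leaf 0x602)))) (.node (.node (.node (.leaf 0x3bc) (.leaf 0x338)) (.node (.leaf 0x14e) (.leaf 0xbd))) (.node (.node (.leaf 0x220) (.leaf 0x650)) (.node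 (.leaf 0x71c) (.leaf 0xf1))))) (.node (.node (.node (.node (.leaf 0x3f4) (.leaf 0xb3)) (.node (.leaf 0x3e9) (.leaf 0x1bb))) (.node (.node (.leaf 0x2d2) (.leaf 0x5f)) (.node (.leaf 0x1c4) (.leaf 0x2f8)))) (.node (.node (.node (.leaf 0x7a1) (.leaf 0x20d)) (.node (.leaf 0x181) (.leaf 0x28d))) (.node (.node (.leaf 0x335) (.leaf 0x607)) (.node (.leaf 0x623) (.leaf 0x2e6))))))))

/-- part of the order of keys -/
def sortT2 : Trie :=
  (.node (.node (.node (.node (.node (.node (.node (.leaf 0x228) (.leaf 0x735)) (.node (.leaf 0x68e) (.leaf 0x297))) (.node (.node (.leaf 0x3bd) (.leaf 0x6e1)) (.node (.leaf 0x5be) (.leaf 0x36c)))) (.node (.node (.node (.leaf 0x375) (.leaf 0x763)) (.node (.leaf 0x7dc) (.leaf 0x564))) (.node (.node (.leaf 0x2d5) (.leaf 0x491)) (.node (.leaf 0x68b) (.leaf 0x696))))) (.node (.node (.node (.node (.leaf 0x422) (.leaf 0x2f5)) (.node (.leaf 0x645) (.leaf 0x4f7))) (.node (.node (.leaf 0x45e) (.leaf 0x6b4)) (.node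 (.leaf 0x1d5) (.leaf 0x17)))) (.node (.node (.node (.leaf 0x4f5) (.leaf 0x3e)) (.node (.leaf 0x249) (.leaf 0x4eb))) (.node (.node (.leaf 0x709) (.leaf 0x1bd)) (.node (.leaf 0x24) (.leaf 0xb8)))))) (.node (.node (.node (.node (.node (.leaf 0x185) (.leaf 0x698)) (.node (.leaf 0x36e) (.leaf 0x180))) (.node (.node (.leaf 0x41b) (.leaf 0x6e5)) (.node (.leaf 0x7ac) (.leaf 0x550)))) (.node (.node (.node (.leaf 0xeb) (.leaf 0x3bb)) (.node (.leaf 0x14d) (.leaf 0x634))) (.node (.node (.leaf 0x1a3) (.leaf 0xd5)) (.node (.leaf 0x2b3) (.leaf 0x646))))) (.node (.node (.node (.node (.leaf 0x22e) (.leaf 0x5dc)) (.node (.leaf 0x16c) (.leaf 0x2c6))) (.node (.node (.leaf 0x63d) (.leaf 0xc7)) (.node (.leaf 0xa) (.leaf 0x27a)))) (.node (.node (.node (.leaf 0x43c) (.leaf 0x55f)) (.node (.leaf 0x357) (.leaf 0x306))) (.node (.node (.leaf 0x108) (.leaf 0x1ac)) (.node (.leaf 0x2e3) (.leaf 0x2e7))))))) (.node (.node (.node (.node (.node (.node (.leaf 0x3f2)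 (.leaf 0x545)) (.node (.leaf 0xbe) (.leaf 0x27e))) (.node (.node (.leaf 0x471) (.leaf 0x2aa)) (.node (.leaf 0xad) (.leaf 0x72)))) (.node (.node (.node (.leaf 0x1d7) (.leaf 0x11b)) (.node (.leaf 0x1b5) (.leaf 0x30e))) (.node (.node (.leaf 0xc9) (.leaf 0x44d)) (.node (.leaf 0x394) (.leaf 0x576))))) (.node (.node (.node (.node (.leaf 0x56c) (.leaf 0x365)) (.node (.leaf 0x37d) (.leaf 0x74d))) (.node (.node (.leaf 0x626) (.leaf 0x7c7)) (.node (.leaf 0xd8) (.leaf 0x2c5)))) (.node (.node (.node (.leaf 0x1bf) (.leaf 0x5fe)) (.node (.leaf 0x47b) (.leaf 0x72c))) (.node (.node (.leaf 0x2b9) (.leaf 0x52f)) (.node (.leaf 0x649) (.leaf 0x692)))))) (.node (.node (.node (.node (.node (.leaf 0x28e) (.leaf 0x693)) (.node (.leaf 0x1d1) (.leaf 0x26c))) (.node (.node (.leaf 0x409) (.leaf 0x72a)) (.node (.leaf 0x1d6) (.leaf 0x15d)))) (.node (.node (.node (.leaf 0x4f0) (.leaf 0x1ee)) (.node (.leaf 0x635) (.leaf 0x48b))) (.node (.node (.leaf 0x94) (.leaf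 0x130)) (.node (.leaf 0x1f5) (.leaf 0x769))))) (.node (.node (.node (.node (.leaf 0x4ea) (.leaf 0x4b5)) (.node (.leaf 0x3ac) (.leaf 0x637))) (.node (.node (.leaf 0x383) (.leaf 0x372)) (.node (.leaf 0x202) (.leaf 0x600)))) (.node (.node (.node (.leaf 0x2b5) (.leaf 0x10a)) (.node (.leaf 0x775) (.leaf 0x6b1))) (.node (.node (.leaf 0x6f3) (.leaf 0x99)) (.node (.leaf 0x172) (.leaf 0x4d8))))))))

/-- part of the order of keys -/
def sortT10 : Trie :=
  (.node (.node (.node (.node (.node (.node (.node (.leaf 0x68c) (.leaf 0x50d)) (.node (.leaf 0x59) (.leaf 0x21b))) (.node (.node (.leaf 0x504) (.leaf 0x636)) (.node (.leaf 0x606) (.leaf 0x4b0)))) (.node (.node (.node (.leaf 0x7b7) (.leaf 0x727)) (.node (.leaf 0x678) (.leaf 0x90))) (.node (.node (.leaf 0x1e) (.leaf 0x7bb)) (.node (.leaf 0x126) (.leaf 0x2f1))))) (.node (.node (.node (.node (.leaf 0x6f9) (.leaf 0x252)) (.node (.leaf 0x579) (.leaf 0x256))) (.node (.node (.leaf 0x2b0) (.leaf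 0xf6)) (.node (.leaf 0x481) (.leaf 0x449)))) (.node (.node (.node (.leaf 0x3d8) (.leaf 0x151)) (.node (.leaf 0x272) (.leaf 0xe5))) (.node (.node (.leaf 0x112) (.leaf 0x65d)) (.node (.leaf 0x779) (.leaf 0x39f)))))) (.node (.node (.node (.node (.node (.leaf 0x243) (.leaf 0x1)) (.node (.leaf 0x714) (.leaf 0x66a))) (.node (.node (.leaf 0x498) (.leaf 0x60b)) (.node (.leaf 0x10c) (.leaf 0x2e1)))) (.node (.node (.node (.leaf 0x23e) (.leaf 0x205)) (.node (.leaf 0x5e1) (.leaf 0x525))) (.node (.node (.leaf 0x344) (.leaf 0x1c1)) (.node (.leaf 0x5c) (.leaf 0x2c3))))) (.node (.node (.node (.node (.leaf 0x77b) (.leaf 0x55e)) (.node (.leaf 0x411) (.leaf 0x4a5))) (.node (.node (.leaf 0x455) (.leaf 0x7da)) (.node (.leaf 0x519) (.leaf 0xc3)))) (.node (.node (.node (.leaf 0x49f) (.leaf 0x731)) (.node (.leaf 0x2db) (.leaf 0x165))) (.node (.node (.leaf 0x65b) (.leaf 0x316)) (.node (.leaf 0x1e6) (.leaf 0x44e))))))) (.node (.node (.node (.node (.node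 (.node (.leaf 0x5) (.leaf 0x33)) (.node (.leaf 0x461) (.leaf 0x37b))) (.node (.node (.leaf 0x3e3) (.leaf 0x354)) (.node (.leaf 0x441) (.leaf 0x7b4)))) (.node (.node (.node (.leaf 0x24a) (.leaf 0x2ea)) (.node (.leaf 0x183) (.leaf 0x575))) (.node (.node (.leaf 0x271) (.leaf 0x49b)) (.node (.leaf 0x423) (.leaf 0x2cb))))) (.node (.node (.node (.node (.leaf 0x1c3) (.leaf 0x281)) (.node (.leaf 0x739) (.leaf 0x70b))) (.node (.node (.leaf 0x17a) (.leaf 0x345)) (.node (.leaf 0x235) (.leaf 0x499)))) (.node (.node (.node (.leaf 0x588) (.leaf 0x2c9)) (.node (.leaf 0x6e2) (.leaf 0x253))) (.node (.node (.leaf 0x6af) (.leaf 0x7e8)) (.node (.leaf 0x6ef) (.leaf 0x59c)))))) (.node (.node (.node (.node (.node (.leaf 0x31d) (.leaf 0x147)) (.node (.leaf 0x5e4) (.leaf 0x453))) (.node (.node (.leaf 0x3a0) (.leaf 0x2c0)) (.node (.leaf 0x707) (.leaf 0x1f8)))) (.node (.node (.node (.leaf 0x358) (.leaf 0x4f2)) (.node (.leaf 0x1cc) (.leaf 0x60))) (.node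 (.node (.leaf 0x704) (.leaf 0x67d)) (.node (.leaf 0x706) (.leaf 0x1a6))))) (.node (.node (.node (.node (.leaf 0x78f) (.leaf 0x73)) (.node (.leaf 0x496) (.leaf 0x619))) (.node (.node (.leaf 0x2e8) (.leaf 0x28a)) (.node (.leaf 0x6ce) (.leaf 0x7bf)))) (.node (.node (.node (.leaf 0x7e0) (.leaf 0x1c9)) (.node (.leaf 0x548) (.leaf 0x48c))) (.node (.node (.leaf 0x389) (.leaf 0xd7)) (.node (.leaf 0x594) (.leaf 0x7c6))))))))

/-- part of the order of keys -/
def sortT6 : Trie :=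
  (.node (.node (.node (.node (.node (.node (.node (.leaf 0x116) (.leaf 0x568)) (.node (.leaf 0x250) (.leaf 0x355))) (.node (.node (.leaf 0x387) (.leaf 0x5ad)) (.node (.leaf 0x206) (.leaf 0x28b)))) (.node (.node (.node (.leaf 0x2ed) (.leaf 0x3db)) (.node (.leaf 0x2d9) (.leaf 0xde))) (.node (.node (.leaf 0x4d3) (.leaf 0x39e)) (.node (.leaf 0x247) (.leaf 0x19e))))) (.node (.node (.node (.node (.leaf 0x500) (.leaf 0x390)) (.node (.leaf 0x6d1) (.leaf 0x2cf))) (.node (.node (.leaf 0x38c) (.leaf 0x72e)) (.node (.leaf 0x64b) (.leaf 0x517)))) (.node (.node (.node (.leaf 0x77d) (.leaf 0x4c)) (.node (.leaf 0x5b0) (.leaf 0x3b6))) (.node (.node (.leaf 0x56f) (.leaf 0x13b)) (.node (.leaf 0x150) (.leaf 0xd)))))) (.node (.node (.node (.node (.node (.leaf 0x531) (.leaf 0x5c4)) (.node (.leaf 0x4cb) (.leaf 0x732))) (.node (.node (.leaf 0x26b) (.leaf 0x1b4)) (.node (.leaf 0x7c2) (.leaf 0x53c)))) (.node (.node (.node (.leaf 0x66c) (.leaf 0x3cf))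 (.node (.leaf 0x672) (.leaf 0x718))) (.node (.node (.leaf 0x193) (.leaf 0x1d9)) (.node (.leaf 0x3ed) (.leaf 0x106))))) (.node (.node (.node (.node (.leaf 0x210) (.leaf 0x20e)) (.node (.leaf 0x627) (.leaf 0x276))) (.node (.node (.leaf 0x6ea) (.leaf 0x2c8)) (.node (.leaf 0xa7) (.leaf 0x3f5)))) (.node (.node (.node (.leaf 0x305) (.leaf 0xd2)) (.node (.leaf 0x2b6) (.leaf 0xb2))) (.node (.node (.leaf 0x230) (.leaf 0x18)) (.node (.leaf 0x37f) (.leaf 0x269))))))) (.node (.node (.node (.node (.node (.node (.leaf 0x33c) (.leaf 0x6fa)) (.node (.leaf 0x367) (.leaf 0x2be))) (.node (.node (.leaf 0xb6) (.leaf 0x29d)) (.node (.leaf 0x450) (.leaf 0x42d)))) (.node (.node (.node (.leaf 0x216) (.leaf 0x532)) (.node (.leaf 0x1e8) (.leaf 0x46e))) (.node (.node (.leaf 0x9a) (.leaf 0x308)) (.node (.leaf 0x4c2) (.leaf 0x666))))) (.node (.node (.node (.node (.leaf 0x158) (.leaf 0x2b8)) (.node (.leaf 0x320) (.leaf 0x6a2))) (.node (.node (.leaf 0x687) (.leaf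 0x7be)) (.node (.leaf 0x5c0) (.leaf 0x3a2)))) (.node (.node (.node (.leaf 0x192) (.leaf 0x620)) (.node (.leaf 0x4ad) (.leaf 0x567))) (.node (.node (.leaf 0x304) (.leaf 0xf9)) (.node (.leaf 0x1d2) (.leaf 0x21e)))))) (.node (.node (.node (.node (.node (.leaf 0x770) (.leaf 0x3c)) (.node (.leaf 0x686) (.leaf 0x287))) (.node (.node (.leaf 0x75c) (.leaf 0x618)) (.node (.leaf 0x67f) (.leaf 0x1a4)))) (.node (.node (.node (.leaf 0x487) (.leaf 0x65a)) (.node (.leaf 0x23d) (.leaf 0x4cc))) (.node (.node (.leaf 0x67) (.leaf 0x6d5)) (.node (.leaf 0x683) (.leaf 0x7df))))) (.node (.node (.node (.node (.leaf 0x35f) (.leaf 0x38f)) (.node (.leaf 0x791) (.leaf 0x68d))) (.node (.node (.leaf 0x32e) (.leaf 0x79b)) (.node (.leaf 0x16) (.leaf 0x3b)))) (.node (.node (.node (.leaf 0x3e0) (.leaf 0x68f)) (.node (.leaf 0x457) (.leaf 0x721))) (.node (.node (.leaf 0x667) (.leaf 0x4a6)) (.node (.leaf 0x562) (.leaf 0x37e))))))))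

/-- part of the order of keys -/
def sortT14 : Trie :=
  (.node (.node (.node (.node (.node (.node (.node (.leaf 0x248) (.leaf 0x76)) (.node (.leaf 0xb5) (.leaf 0x15e))) (.node (.node (.leaf 0x7a8) (.leaf 0x5d1)) (.node (.leaf 0x241) (.leaf 0x62)))) (.node (.node (.node (.leaf 0x432) (.leaf 0x19f)) (.node (.leaf 0x234) (.leaf 0x7f2))) (.node (.node (.leaf 0x227) (.leaf 0x4f3)) (.node (.leaf 0x743) (.leaf 0x7e9))))) (.node (.node (.node (.node (.leaf 0x590) (.leaf 0x129)) (.node (.leaf 0x737) (.leaf 0x40e))) (.node (.node (.leaf 0x43f) (.leaf 0x28)) (.node (.leaf 0x781) (.leaf 0x336)))) (.node (.node (.node (.leaf 0x352) (.leaf 0x191)) (.node (.leaf 0x3b1) (.leaf 0x39))) (.node (.node (.leaf 0x703) (.leaf 0x711)) (.node (.leaf 0x300) (.leaf 0x7a3)))))) (.node (.node (.node (.node (.node (.leaf 0x1b0) (.leaf 0x124)) (.node (.leaf 0xfd) (.leaf 0x1aa))) (.node (.node (.leaf 0x79d) (.leaf 0x541)) (.node (.leaf 0xf7) (.leaf 0x3c4))))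 (.node (.node (.node (.leaf 0x32) (.leaf 0x10d)) (.node (.leaf 0x622) (.leaf 0x5fa))) (.node (.node (.leaf 0x434) (.leaf 0x741)) (.node (.leaf 0x7c5) (.leaf 0x347))))) (.node (.node (.node (.node (.leaf 0x39a) (.leaf 0x5c1)) (.node (.leaf 0x26e) (.leaf 0x77a))) (.node (.node (.leaf 0xb0) (.leaf 0x464)) (.node (.leaf 0x57f) (.leaf 0x42e)))) (.node (.node (.node (.leaf 0x6b) (.leaf 0x57a)) (.node (.leaf 0x25b) (.leaf 0x22a))) (.node (.node (.leaf 0x728) (.leaf 0x2f0)) (.node (.leaf 0x756) (.leaf 0x7c1))))))) (.node (.node (.node (.node (.node (.node (.leaf 0xa9) (.leaf 0x67c)) (.node (.leaf 0x312) (.leaf 0x3e4))) (.node (.node (.leaf 0x401) (.leaf 0x772)) (.node (.leaf 0x34c) (.leaf 0x4d0)))) (.node (.node (.node (.leaf 0x16a) (.leaf 0x3a1)) (.node (.leaf 0x63a) (.leaf 0x573))) (.node (.node (.leaf 0x69) (.leaf 0x360)) (.node (.leaf 0x7d1) (.leaf 0x39c))))) (.node (.node (.node (.node (.leaf 0x5bc) (.leaf 0x3d6)) (.node (.leaf 0x20c)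 (.leaf 0x30))) (.node (.node (.leaf 0x122) (.leaf 0x4a9)) (.node (.leaf 0x160) (.leaf 0x7fe)))) (.node (.node (.node (.leaf 0x23b) (.leaf 0x364)) (.node (.leaf 0x251) (.leaf 0x6c5))) (.node (.node (.leaf 0x6b3) (.leaf 0x2f6)) (.node (.leaf 0x755) (.leaf 0x100)))))) (.node (.node (.node (.node (.node (.leaf 0x9f) (.leaf 0x16d)) (.node (.leaf 0x1c0) (.leaf 0x4af))) (.node (.node (.leaf 0x3c2) (.leaf 0x2d0)) (.node (.leaf 0x682) (.leaf 0x664)))) (.node (.node (.node (.leaf 0x54) (.leaf 0x4ff)) (.node (.leaf 0x71d) (.leaf 0x299))) (.node (.node (.leaf 0x5f4) (.leaf 0xcf)) (.node (.leaf 0x3a) (.leaf 0x1e9))))) (.node (.node (.node (.node (.leaf 0x483) (.leaf 0x788)) (.node (.leaf 0x431) (.leaf 0x5a6))) (.node (.node (.leaf 0x4b1) (.leaf 0x4bd)) (.node (.leaf 0x144) (.leaf 0x4b2)))) (.node (.node (.node (.leaf 0x4d4) (.leaf 0x615)) (.node (.leaf 0x154) (.leaf 0x7f4))) (.node (.node (.leaf 0x278) (.leaf 0x656)) (.node (.leaf 0x5e2) (.leaf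 0x40c))))))))

/-- part of the order of keys -/
def sortT1 : Trie :=
  (.node (.node (.node (.node (.node (.node (.node (.leaf 0x29) (.leaf 0x695)) (.node (.leaf 0x652) (.leaf 0x405))) (.node (.node (.leaf 0x7ee) (.leaf 0x621)) (.node (.leaf 0x51d) (.leaf 0x48f)))) (.node (.node (.node (.leaf 0x41a) (.leaf 0x4f8)) (.node (.leaf 0x298) (.leaf 0x138))) (.node (.node (.leaf 0x406) (.leaf 0x6c)) (.node (.leaf 0x16e) (.leaf 0x69c))))) (.node (.node (.node (.node (.leaf 0x761) (.leaf 0x45c)) (.node (.leaf 0x679) (.leaf 0x3ef))) (.node (.node (.leaf 0x3c0) (.leaf 0x70a)) (.node (.leaf 0x1d3) (.leaf 0x1fe)))) (.node (.node (.node (.leaf 0x40b) (.leaf 0x33f)) (.node (.leaf 0xf4) (.leaf 0x3a4))) (.node (.node (.leaf 0x5d8) (.leaf 0x236)) (.node (.leaf 0x651) (.leaf 0x3f3)))))) (.node (.node (.node (.node (.node (.leaf 0x734) (.leaf 0x57b)) (.node (.leaf 0x7d5) (.leaf 0x1b9))) (.node (.node (.leaf 0x25c) (.leaf 0x31)) (.node (.leaf 0x44a)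 (.leaf 0x1b1)))) (.node (.node (.node (.leaf 0x111) (.leaf 0x343)) (.node (.leaf 0x1ed) (.leaf 0x5ee))) (.node (.node (.leaf 0x23c) (.leaf 0x685)) (.node (.leaf 0x64) (.leaf 0x597))))) (.node (.node (.node (.node (.leaf 0x6e0) (.leaf 0x1eb)) (.node (.leaf 0x608) (.leaf 0xe))) (.node (.node (.leaf 0x5b6) (.leaf 0x407)) (.node (.leaf 0x470) (.leaf 0x485)))) (.node (.node (.node (.leaf 0x328) (.leaf 0xef)) (.node (.leaf 0x495) (.leaf 0x3f0))) (.node (.node (.leaf 0x137) (.leaf 0x6cf)) (.node (.leaf 0x4a7) (.leaf 0x7c3))))))) (.node (.node (.node (.node (.node (.node (.leaf 0x280) (.leaf 0x659)) (.node (.leaf 0x8e) (.leaf 0x433))) (.node (.node (.leaf 0x33b) (.leaf 0x77)) (.node (.leaf 0x76b) (.leaf 0x2ff)))) (.node (.node (.node (.leaf 0x5bf) (.leaf 0x6e9)) (.node (.leaf 0x1f) (.leaf 0x76e))) (.node (.node (.leaf 0x7fd) (.leaf 0x42f)) (.node (.leaf 0x44f) (.leaf 0x5d9))))) (.node (.node (.node (.node (.leaf 0x6e7) (.leaf 0x57)) (.node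 (.leaf 0xa3) (.leaf 0x69d))) (.node (.node (.leaf 0x610) (.leaf 0x2d6)) (.node (.leaf 0x724) (.leaf 0x4b6)))) (.node (.node (.node (.leaf 0x6f1) (.leaf 0x52c)) (.node (.leaf 0x4e5) (.leaf 0x242))) (.node (.node (.leaf 0x7d0) (.leaf 0x15)) (.node (.leaf 0x52b) (.leaf 0x17c)))))) (.node (.node (.node (.node (.node (.leaf 0x2bd) (.leaf 0x643)) (.node (.leaf 0x6b2) (.leaf 0x261))) (.node (.node (.leaf 0x35a) (.leaf 0x173)) (.node (.leaf 0x1d) (.leaf 0x533)))) (.node (.node (.node (.leaf 0x468) (.leaf 0x5cf)) (.node (.leaf 0x194) (.leaf 0x7c0))) (.node (.node (.leaf 0x7ca) (.leaf 0x587)) (.node (.leaf 0xd1) (.leaf 0x4d7))))) (.node (.node (.node (.node (.leaf 0x789) (.leaf 0x43a)) (.node (.leaf 0x382) (.leaf 0x6bc))) (.node (.node (.leaf 0x29a) (.leaf 0x266)) (.node (.leaf 0x644) (.leaf 0x22d)))) (.node (.node (.node (.leaf 0x502) (.leaf 0x139)) (.node (.leaf 0x2f7) (.leaf 0x684))) (.node (.node (.leaf 0x705) (.leaf 0x31b)) (.node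 (.leaf 0x1a2) (.leaf 0x34e))))))))

/-- part of the order of keys -/
def sortT9 : Trie :=
  (.node (.node (.node (.node (.node (.node (.node (.leaf 0x6f5) (.leaf 0x255)) (.node (.leaf 0x258) (.leaf 0x176))) (.node (.node (.leaf 0x7fb) (.leaf 0x5a3)) (.node (.leaf 0x5ec) (.leaf 0x45)))) (.node (.node (.node (.leaf 0x3be) (.leaf 0x36)) (.node (.leaf 0x51e) (.leaf 0xc0))) (.node (.node (.leaf 0x2c) (.leaf 0x5e)) (.node (.leaf 0x24c) (.leaf 0x49e))))) (.node (.node (.node (.node (.leaf 0x5c8) (.leaf 0x1e0)) (.node (.leaf 0x577) (.leaf 0x93))) (.node (.node (.leaf 0x2ce) (.leaf 0x715)) (.node (.leaf 0x40d) (.leaf 0x282)))) (.node (.node (.node (.leaf 0x404) (.leaf 0x209)) (.node (.leaf 0x790) (.leaf 0x225))) (.node (.node (.leaf 0x719) (.leaf 0x2e)) (.node (.leaf 0xf) (.leaf 0x7b)))))) (.node (.node (.node (.node (.node (.leaf 0x5ef) (.leaf 0x1a5)) (.node (.leaf 0x749) (.leaf 0x5de))) (.node (.node (.leaf 0x503) (.leaf 0x5f9)) (.node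 (.leaf 0x203) (.leaf 0x71)))) (.node (.node (.node (.leaf 0x55c) (.leaf 0x6c0)) (.node (.leaf 0x528) (.leaf 0x5e9))) (.node (.node (.leaf 0x3b4) (.leaf 0x722)) (.node (.leaf 0x47f) (.leaf 0x508))))) (.node (.node (.node (.node (.leaf 0x3b9) (.leaf 0x6c8)) (.node (.leaf 0x254) (.leaf 0x7bc))) (.node (.node (.leaf 0x307) (.leaf 0x285)) (.node (.leaf 0x6e8) (.leaf 0x27b)))) (.node (.node (.node (.leaf 0x7cd) (.leaf 0x571)) (.node (.leaf 0x30d) (.leaf 0x5d4))) (.node (.node (.leaf 0x514) (.leaf 0x340)) (.node (.leaf 0x5eb) (.leaf 0x4b3))))))) (.node (.node (.node (.node (.node (.node (.leaf 0x317) (.leaf 0x55d)) (.node (.leaf 0x311) (.leaf 0x9d))) (.node (.node (.leaf 0x762) (.leaf 0x25d)) (.node (.leaf 0x388) (.leaf 0x4e0)))) (.node (.node (.node (.leaf 0x169) (.leaf 0x413)) (.node (.leaf 0x239) (.leaf 0xe0))) (.node (.node (.leaf 0x7e4) (.leaf 0x289)) (.node (.leaf 0x3ca) (.leaf 0x465))))) (.node (.node (.node (.node (.leaf 0x69e)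 (.leaf 0x6f)) (.node (.leaf 0x1a8) (.leaf 0x680))) (.node (.node (.leaf 0x3) (.leaf 0x51)) (.node (.leaf 0x586) (.leaf 0x476)))) (.node (.node (.node (.leaf 0x5d0) (.leaf 0x3d0)) (.node (.leaf 0x127) (.leaf 0x60e))) (.node (.node (.leaf 0x240) (.leaf 0x368)) (.node (.leaf 0x187) (.leaf 0x13c)))))) (.node (.node (.node (.node (.node (.leaf 0x46d) (.leaf 0x152)) (.node (.leaf 0x11c) (.leaf 0x4e))) (.node (.node (.leaf 0x28c) (.leaf 0x84)) (.node (.leaf 0x6aa) (.leaf 0x1f7)))) (.node (.node (.node (.leaf 0x75f) (.leaf 0x296)) (.node (.leaf 0x513) (.leaf 0x7b0))) (.node (.node (.leaf 0x642) (.leaf 0x751)) (.node (.leaf 0x63c) (.leaf 0x70d))))) (.node (.node (.node (.node (.leaf 0xab) (.leaf 0x3d3)) (.node (.leaf 0x415) (.leaf 0x6c6))) (.node (.node (.leaf 0x279) (.leaf 0x38e)) (.node (.leaf 0x5bd) (.leaf 0x794)))) (.node (.node (.node (.leaf 0x445) (.leaf 0x14a)) (.node (.leaf 0x742) (.leaf 0x7d3))) (.node (.node (.leaf 0x2e2) (.leaf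 0x6be)) (.node (.leaf 0x585) (.leaf 0x268))))))))

/-- part of the order of keys -/
def sortT5 : Trie :=
  (.node (.node (.node (.node (.node (.node (.node (.leaf 0x224) (.leaf 0x51a)) (.node (.leaf 0x6eb) (.leaf 0x430))) (.node (.node (.leaf 0x7d6) (.leaf 0x1f2)) (.node (.leaf 0x110) (.leaf 0x295)))) (.node (.node (.node (.leaf 0x3b3) (.leaf 0x424)) (.node (.leaf 0x325) (.leaf 0x1c7))) (.node (.node (.leaf 0x479) (.leaf 0x7a)) (.node (.leaf 0x6d7) (.leaf 0x24b))))) (.node (.node (.node (.node (.leaf 0x3c9) (.leaf 0x4b4)) (.node (.leaf 0x6f7) (.leaf 0x302))) (.node (.node (.leaf 0x76c) (.leaf 0x6f4)) (.node (.leaf 0x113) (.leaf 0x223)))) (.node (.node (.node (.leaf 0x7de) (.leaf 0x4ae)) (.node (.leaf 0x1ae) (.leaf 0x288))) (.node (.node (.leaf 0x229) (.leaf 0x6a1)) (.node (.leaf 0x15f) (.leaf 0x79f)))))) (.node (.node (.node (.node (.node (.leaf 0xce) (.leaf 0x6dd)) (.node (.leaf 0x3c7) (.leaf 0x25))) (.node (.node (.leaf 0x799)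 (.leaf 0x60f)) (.node (.leaf 0xa5) (.leaf 0x18c)))) (.node (.node (.node (.leaf 0x59e) (.leaf 0x399)) (.node (.leaf 0x6fd) (.leaf 0x653))) (.node (.node (.leaf 0x174) (.leaf 0x61b)) (.node (.leaf 0x30f) (.leaf 0x74e))))) (.node (.node (.node (.node (.leaf 0x5f6) (.leaf 0x663)) (.node (.leaf 0x52a) (.leaf 0x773))) (.node (.node (.leaf 0x1dd) (.leaf 0x87)) (.node (.leaf 0x486) (.leaf 0x10)))) (.node (.node (.node (.leaf 0x2e4) (.leaf 0x5f0)) (.node (.leaf 0x3ad) (.leaf 0x7fc))) (.node (.node (.leaf 0x583) (.leaf 0x6ca)) (.node (.leaf 0x264) (.leaf 0x777))))))) (.node (.node (.node (.node (.node (.node (.leaf 0x2bf) (.leaf 0x701)) (.node (.leaf 0x29f) (.leaf 0x4c0))) (.node (.node (.leaf 0x31c) (.leaf 0x783)) (.node (.leaf 0x82) (.leaf 0xae)))) (.node (.node (.node (.leaf 0x725) (.leaf 0xdf)) (.node (.leaf 0x524) (.leaf 0x4f1))) (.node (.node (.leaf 0x7e2) (.leaf 0xc1)) (.node (.leaf 0x80) (.leaf 0xdc))))) (.node (.node (.node (.node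 (.leaf 0x200) (.leaf 0x48d)) (.node (.leaf 0x7f9) (.leaf 0x669))) (.node (.node (.leaf 0xf8) (.leaf 0x47a)) (.node (.leaf 0x146) (.leaf 0x6a)))) (.node (.node (.node (.leaf 0x17e) (.leaf 0x560)) (.node (.leaf 0x68) (.leaf 0x6d3))) (.node (.node (.leaf 0x44) (.leaf 0x59d)) (.node (.leaf 0x22b) (.leaf 0x1f9)))))) (.node (.node (.node (.node (.node (.leaf 0x7d4) (.leaf 0x69a)) (.node (.leaf 0x103) (.leaf 0x273))) (.node (.node (.leaf 0x310) (.leaf 0x1ba)) (.node (.leaf 0x62a) (.leaf 0x5d3)))) (.node (.node (.node (.leaf 0x3dd) (.leaf 0x563)) (.node (.leaf 0x54d) (.leaf 0xa4))) (.node (.node (.leaf 0x380) (.leaf 0x58b)) (.node (.leaf 0x199) (.leaf 0x332))))) (.node (.node (.node (.node (.leaf 0x456) (.leaf 0x4be)) (.node (.leaf 0x32b) (.leaf 0x51c))) (.node (.node (.leaf 0x7db) (.leaf 0x33a)) (.node (.leaf 0x123) (.leaf 0x5dd)))) (.node (.node (.node (.leaf 0x7f5) (.leaf 0x584)) (.node (.leaf 0x369) (.leaf 0x5f8))) (.node (.node (.leaf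 0x6ff) (.leaf 0x4e9)) (.node (.leaf 0xe9) (.leaf 0x484))))))))

/-- part of the order of keys -/
def sortT13 : Trie :=
  (.node (.node (.node (.node (.node (.node (.node (.leaf 0x6b8) (.leaf 0x3e2)) (.node (.leaf 0x3ce) (.leaf 0x1c8))) (.node (.node (.leaf 0x7ae) (.leaf 0x5b5)) (.node (.leaf 0x53e) (.leaf 0x488)))) (.node (.node (.node (.leaf 0x2b4) (.leaf 0x22)) (.node (.leaf 0x624) (.leaf 0x63))) (.node (.node (.leaf 0x18e) (.leaf 0x4a3)) (.node (.leaf 0x530) (.leaf 0x41f))))) (.node (.node (.node (.node (.leaf 0x11f) (.leaf 0x171)) (.node (.leaf 0x557) (.leaf 0x47d))) (.node (.node (.leaf 0x78e) (.leaf 0x726)) (.node (.leaf 0x50c) (.leaf 0x75e)))) (.node (.node (.node (.leaf 0x444) (.leaf 0x142)) (.node (.leaf 0x97) (.leaf 0x1c))) (.node (.node (.leaf 0x549) (.leaf 0x128)) (.node (.leaf 0xc8) (.leaf 0x3a5)))))) (.node (.node (.node (.node (.node (.leaf 0xed) (.leaf 0x516)) (.node (.leaf 0x657) (.leaf 0x15a))) (.node (.node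 (.leaf 0x75d) (.leaf 0x521)) (.node (.leaf 0x1c6) (.leaf 0x9c)))) (.node (.node (.node (.leaf 0x6ed) (.leaf 0x58c)) (.node (.leaf 0xe2) (.leaf 0x6b5))) (.node (.node (.leaf 0x27f) (.leaf 0x141)) (.node (.leaf 0x7ed) (.leaf 0x4c1))))) (.node (.node (.node (.node (.leaf 0x2c4) (.leaf 0x5d2)) (.node (.leaf 0x3a8) (.leaf 0x7a0))) (.node (.node (.leaf 0x427) (.leaf 0x7c4)) (.node (.leaf 0x522) (.leaf 0x3d2)))) (.node (.node (.node (.leaf 0x260) (.leaf 0x53b)) (.node (.leaf 0x7ea) (.leaf 0x5b8))) (.node (.node (.leaf 0x59a) (.leaf 0x4d)) (.node (.leaf 0xee) (.leaf 0x7f))))))) (.node (.node (.node (.node (.node (.node (.leaf 0x4b) (.leaf 0x745)) (.node (.leaf 0x462) (.leaf 0x29c))) (.node (.node (.leaf 0x9b) (.leaf 0x4fe)) (.node (.leaf 0x75) (.leaf 0x760)))) (.node (.node (.node (.leaf 0x570) (.leaf 0x46b)) (.node (.leaf 0x5b2) (.leaf 0x120))) (.node (.node (.leaf 0x96) (.leaf 0x2f9)) (.node (.leaf 0x414) (.leaf 0x3b0))))) (.node (.node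 (.node (.node (.leaf 0x19d) (.leaf 0x492)) (.node (.leaf 0x136) (.leaf 0x6ee))) (.node (.node (.leaf 0x62e) (.leaf 0x38b)) (.node (.leaf 0x595) (.leaf 0x2a9)))) (.node (.node (.node (.leaf 0x21f) (.leaf 0x448)) (.node (.leaf 0x54f) (.leaf 0x612))) (.node (.node (.leaf 0x1f6) (.leaf 0x765)) (.node (.leaf 0x6cb) (.leaf 0x1be)))))) (.node (.node (.node (.node (.node (.leaf 0x9) (.leaf 0x1cf)) (.node (.leaf 0x238) (.leaf 0x782))) (.node (.node (.leaf 0x7c) (.leaf 0x451)) (.node (.leaf 0xcd) (.leaf 0x536)))) (.node (.node (.node (.leaf 0x314) (.leaf 0x3f6)) (.node (.leaf 0xf5) (.leaf 0x4e2))) (.node (.node (.leaf 0x6f2) (.leaf 0x628)) (.node (.leaf 0x702) (.leaf 0x1b6))))) (.node (.node (.node (.node (.leaf 0x442) (.leaf 0x429)) (.node (.leaf 0x403) (.leaf 0x208))) (.node (.node (.leaf 0x489) (.leaf 0x7ba)) (.node (.leaf 0x641) (.leaf 0x36a)))) (.node (.node (.node (.leaf 0x3b7) (.leaf 0x67b)) (.node (.leaf 0x71f) (.leaf 0x478))) (.node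 (.node (.leaf 0x2ba) (.leaf 0x15b)) (.node (.leaf 0x233) (.leaf 0x3ae))))))))

/-- part of the order of keys -/
def sortT3 : Trie :=
  (.node (.node (.node (.node (.node (.node (.node (.leaf 0x5d6) (.leaf 0x5e7)) (.node (.leaf 0x716) (.leaf 0x490))) (.node (.node (.leaf 0x4dc) (.leaf 0x6ac)) (.node (.leaf 0x189) (.leaf 0x337)))) (.node (.node (.node (.leaf 0x2ef) (.leaf 0x47c)) (.node (.leaf 0x257) (.leaf 0x38))) (.node (.node (.leaf 0x4f4) (.leaf 0x44c)) (.node (.leaf 0x544) (.leaf 0x35))))) (.node (.node (.node (.node (.leaf 0x362) (.leaf 0x7ec)) (.node (.leaf 0x1b) (.leaf 0x426))) (.node (.node (.leaf 0x4d6) (.leaf 0x6a3)) (.node (.leaf 0x59b) (.leaf 0x593)))) (.node (.node (.node (.leaf 0x3c8) (.leaf 0x5b)) (.node (.leaf 0x134) (.leaf 0x3de))) (.node (.node (.leaf 0x4) (.leaf 0xe3)) (.node (.leaf 0x20a) (.leaf 0x33d)))))) (.node (.node (.node (.node (.node (.leaf 0x12b) (.leaf 0x61c)) (.node (.leaf 0x77c) (.leaf 0x523))) (.node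 (.node (.leaf 0x2dc) (.leaf 0x5f2)) (.node (.leaf 0x400) (.leaf 0x738)))) (.node (.node (.node (.leaf 0x6b0) (.leaf 0x7)) (.node (.leaf 0x5f5) (.leaf 0x6bd))) (.node (.node (.leaf 0x1ef) (.leaf 0x5af)) (.node (.leaf 0x7f8) (.leaf 0x67a))))) (.node (.node (.node (.node (.leaf 0x518) (.leaf 0x6fc)) (.node (.leaf 0x1e3) (.leaf 0x419))) (.node (.node (.leaf 0x24f) (.leaf 0x363)) (.node (.leaf 0x4e7) (.leaf 0x417)))) (.node (.node (.node (.leaf 0x7a5) (.leaf 0xff)) (.node (.leaf 0x2ae) (.leaf 0x428))) (.node (.node (.leaf 0x558) (.leaf 0x648)) (.node (.leaf 0x2bb) (.leaf 0x25e))))))) (.node (.node (.node (.node (.node (.node (.leaf 0xb7) (.leaf 0x561)) (.node (.leaf 0x61) (.leaf 0x3ee))) (.node (.node (.leaf 0x4a4) (.leaf 0x353)) (.node (.leaf 0x92) (.leaf 0x83)))) (.node (.node (.node (.leaf 0x64c) (.leaf 0xf0)) (.node (.leaf 0x58f) (.leaf 0x472))) (.node (.node (.leaf 0x2c2) (.leaf 0x7d)) (.node (.leaf 0x3ff) (.leaf 0x1a7))))) (.node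 (.node (.node (.node (.leaf 0x105) (.leaf 0x293)) (.node (.leaf 0x2a3) (.leaf 0x580))) (.node (.node (.leaf 0x1e2) (.leaf 0x7cf)) (.node (.leaf 0x6bf) (.leaf 0x767)))) (.node (.node (.node (.leaf 0x733) (.leaf 0x5cb)) (.node (.leaf 0x40f) (.leaf 0x547))) (.node (.node (.leaf 0x2d1) (.leaf 0x5da)) (.node (.leaf 0x5ca) (.leaf 0x69f)))))) (.node (.node (.node (.node (.node (.leaf 0x356) (.leaf 0x712)) (.node (.leaf 0x157) (.leaf 0x469))) (.node (.node (.leaf 0x398) (.leaf 0x62c)) (.node (.leaf 0x1d4) (.leaf 0x164)))) (.node (.node (.node (.leaf 0x38a) (.leaf 0x12e)) (.node (.leaf 0x5ff) (.leaf 0x3fe))) (.node (.node (.leaf 0x458) (.leaf 0x572)) (.node (.leaf 0x74f) (.leaf 0x31f))))) (.node (.node (.node (.node (.leaf 0xc6) (.leaf 0x2f4)) (.node (.leaf 0x764) (.leaf 0x184))) (.node (.node (.leaf 0x425) (.leaf 0x4a2)) (.node (.leaf 0x12) (.leaf 0x132)))) (.node (.node (.node (.leaf 0x4fd) (.leaf 0x51b)) (.node (.leaf 0x416) (.leaf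 0x520))) (.node (.node (.leaf 0x6ae) (.leaf 0x3cd)) (.node (.leaf 0x119) (.leaf 0x2a4))))))))

/-- part of the order of keys -/
def sortT11 : Trie :=
  (.node (.node (.node (.node (.node (.node (.node (.leaf 0x72f) (.leaf 0x2d7)) (.node (.leaf 0x294) (.leaf 0x1a0))) (.node (.node (.leaf 0x4c7) (.leaf 0x6a9)) (.node (.leaf 0x66f) (.leaf 0x8f)))) (.node (.node (.node (.leaf 0x3cb) (.leaf 0x10b)) (.node (.leaf 0x73c) (.leaf 0x7bd))) (.node (.node (.leaf 0x511) (.leaf 0x321)) (.node (.leaf 0xf2) (.leaf 0xa2))))) (.node (.node (.node (.node (.leaf 0x1ec) (.leaf 0x62f)) (.node (.leaf 0x6f8) (.leaf 0x3fc))) (.node (.node (.leaf 0x46f) (.leaf 0x217)) (.node (.leaf 0x78a) (.leaf 0x7a7)))) (.node (.node (.node (.leaf 0x259) (.leaf 0x6f0)) (.node (.leaf 0x98) (.leaf 0x64e))) (.node (.node (.leaf 0x5a0) (.leaf 0x170)) (.node (.leaf 0x44b) (.leaf 0x4b9)))))) (.node (.node (.node (.node (.node (.leaf 0x662) (.leaf 0x5d5)) (.node (.leaf 0x197)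 (.leaf 0x213))) (.node (.node (.leaf 0x7cc) (.leaf 0x54b)) (.node (.leaf 0x60d) (.leaf 0x7b1)))) (.node (.node (.node (.leaf 0x613) (.leaf 0x677)) (.node (.leaf 0x244) (.leaf 0x177))) (.node (.node (.leaf 0x4f) (.leaf 0xe6)) (.node (.leaf 0x49c) (.leaf 0x5d))))) (.node (.node (.node (.node (.leaf 0x274) (.leaf 0x56b)) (.node (.leaf 0x29b) (.leaf 0x11))) (.node (.node (.leaf 0x7b5) (.leaf 0x3d1)) (.node (.leaf 0x54c) (.leaf 0x2a5)))) (.node (.node (.node (.leaf 0x2df) (.leaf 0x604)) (.node (.leaf 0x397) (.leaf 0x2d))) (.node (.node (.leaf 0x5c3) (.leaf 0x3f)) (.node (.leaf 0xe1) (.leaf 0x766))))))) (.node (.node (.node (.node (.node (.node (.leaf 0x342) (.leaf 0x598)) (.node (.leaf 0x4c4) (.leaf 0x2fb))) (.node (.node (.leaf 0x34a) (.leaf 0x2b7)) (.node (.leaf 0x482) (.leaf 0xaa)))) (.node (.node (.node (.leaf 0x5e8) (.leaf 0x459)) (.node (.leaf 0xe4) (.leaf 0x5c9))) (.node (.node (.leaf 0x4e6) (.leaf 0x3af)) (.node (.leaf 0x7d9)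 (.leaf 0x2a6))))) (.node (.node (.node (.node (.leaf 0x11e) (.leaf 0x439)) (.node (.leaf 0x22c) (.leaf 0x6b7))) (.node (.node (.leaf 0x56e) (.leaf 0x4d5)) (.node (.leaf 0x625) (.leaf 0x26d)))) (.node (.node (.node (.leaf 0x630) (.leaf 0x28f)) (.node (.leaf 0x246) (.leaf 0x1e4))) (.node (.node (.leaf 0x538) (.leaf 0x497)) (.node (.leaf 0x153) (.leaf 0x5ae)))))) (.node (.node (.node (.node (.node (.leaf 0x2e0) (.leaf 0x543)) (.node (.leaf 0x578) (.leaf 0x371))) (.node (.node (.leaf 0x7a4) (.leaf 0x6e)) (.node (.leaf 0x12a) (.leaf 0x535)))) (.node (.node (.node (.leaf 0x2af) (.leaf 0x76a)) (.node (.leaf 0x1b3) (.leaf 0x50a))) (.node (.node (.leaf 0x1cb) (.leaf 0xfc)) (.node (.leaf 0x748) (.leaf 0xdb))))) (.node (.node (.node (.node (.leaf 0x34d) (.leaf 0x39d)) (.node (.leaf 0x402) (.leaf 0x694))) (.node (.node (.leaf 0x46) (.leaf 0xbb)) (.node (.leaf 0x14f) (.leaf 0xc2)))) (.node (.node (.node (.leaf 0x506) (.leaf 0x1a1)) (.node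 (.leaf 0x13a) (.leaf 0x48))) (.node (.node (.leaf 0x45b) (.leaf 0xf3)) (.node (.leaf 0x6e6) (.leaf 0x373))))))))

/-- part of the order of keys -/
def sortT7 : Trie :=
  (.node (.node (.node (.node (.node (.node (.node (.leaf 0x1fd) (.leaf 0x212)) (.node (.leaf 0x12f) (.leaf 0x3e8))) (.node (.node (.leaf 0x3f8) (.leaf 0x22f)) (.node (.leaf 0x750) (.leaf 0xbc)))) (.node (.node (.node (.leaf 0xa6) (.leaf 0x7e7)) (.node (.leaf 0x4bc) (.leaf 0x640))) (.node (.node (.leaf 0x322) (.leaf 0x466)) (.node (.leaf 0x556) (.leaf 0x6dc))))) (.node (.node (.node (.node (.leaf 0x7d8) (.leaf 0x85)) (.node (.leaf 0x614) (.leaf 0x384))) (.node (.node (.leaf 0x359) (.leaf 0x638)) (.node (.leaf 0x5ba) (.leaf 0x6e3)))) (.node (.node (.node (.leaf 0x32c) (.leaf 0x78)) (.node (.leaf 0x546) (.leaf 0x780))) (.node (.node (.leaf 0x565) (.leaf 0x747)) (.node (.leaf 0x1b8) (.leaf 0x318)))))) (.node (.node (.node (.node (.node (.leaf 0x5db) (.leaf 0x6ba))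 (.node (.leaf 0x3a7) (.leaf 0x510))) (.node (.node (.leaf 0x2ab) (.leaf 0x671)) (.node (.leaf 0x3a9) (.leaf 0x162)))) (.node (.node (.node (.leaf 0x717) (.leaf 0x7b2)) (.node (.leaf 0x11d) (.leaf 0xec))) (.node (.node (.leaf 0x72b) (.leaf 0x102)) (.node (.leaf 0x4e3) (.leaf 0x201))))) (.node (.node (.node (.node (.leaf 0x133) (.leaf 0x1ca)) (.node (.leaf 0x555) (.leaf 0x4a8))) (.node (.node (.leaf 0x188) (.leaf 0x3a6)) (.node (.leaf 0x31e) (.leaf 0x443)))) (.node (.node (.node (.leaf 0x4c3) (.leaf 0x11a)) (.node (.leaf 0x42c) (.leaf 0x507))) (.node (.node (.leaf 0x6b9) (.leaf 0x15c)) (.node (.leaf 0x4db) (.leaf 0x41d))))))) (.node (.node (.node (.node (.node (.node (.leaf 0x376) (.leaf 0x53f)) (.node (.leaf 0x391) (.leaf 0x6d))) (.node (.node (.leaf 0x3f1) (.leaf 0x49a)) (.node (.leaf 0x65) (.leaf 0x792)))) (.node (.node (.node (.leaf 0x10f) (.leaf 0x5cd)) (.node (.leaf 0x215) (.leaf 0x2b2))) (.node (.node (.leaf 0x326) (.leaf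 0x7f3)) (.node (.leaf 0x35d) (.leaf 0x167))))) (.node (.node (.node (.node (.leaf 0x551) (.leaf 0x785)) (.node (.leaf 0x2a7) (.leaf 0x74c))) (.node (.node (.leaf 0x14) (.leaf 0x4a)) (.node (.leaf 0x63f) (.leaf 0x275)))) (.node (.node (.node (.leaf 0x65c) (.leaf 0x23f)) (.node (.leaf 0x95) (.leaf 0x50e))) (.node (.node (.leaf 0x9e) (.leaf 0x65e)) (.node (.leaf 0x675) (.leaf 0x6c1)))))) (.node (.node (.node (.node (.node (.leaf 0x2ad) (.leaf 0x6ab)) (.node (.leaf 0x6d6) (.leaf 0x2e9))) (.node (.node (.leaf 0x758) (.leaf 0x34)) (.node (.leaf 0x2b) (.leaf 0x660)))) (.node (.node (.node (.leaf 0x2fd) (.leaf 0xea)) (.node (.leaf 0x5cc) (.leaf 0x7e))) (.node (.node (.leaf 0x4b8) (.leaf 0x18b)) (.node (.leaf 0x58d) (.leaf 0x3d4))))) (.node (.node (.node (.node (.leaf 0x32a) (.leaf 0x8c)) (.node (.leaf 0x46c) (.leaf 0x24e))) (.node (.node (.leaf 0x47) (.leaf 0x454)) (.node (.leaf 0x611) (.leaf 0x6a8)))) (.node (.node (.node (.leaf 0x7f6)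 (.leaf 0x231)) (.node (.leaf 0x2a2) (.leaf 0xd4))) (.node (.node (.leaf 0x6a4) (.leaf 0x3f7)) (.node (.leaf 0x540) (.leaf 0x386))))))))

/-- part of the order of keys -/
def sortT15 : Trie :=
  (.node (.node (.node (.node (.node (.node (.node (.leaf 0x6a0) (.leaf 0x501)) (.node (.leaf 0x48e) (.leaf 0x529))) (.node (.node (.leaf 0x4fb) (.leaf 0x5a2)) (.node (.leaf 0xd9) (.leaf 0x4dd)))) (.node (.node (.node (.leaf 0x421) (.leaf 0x6c4)) (.node (.leaf 0x54a) (.leaf 0x2b1))) (.node (.node (.leaf 0x64f) (.leaf 0x4fa)) (.node (.leaf 0x654) (.leaf 0x7ce))))) (.node (.node (.node (.node (.leaf 0x753) (.leaf 0x17b)) (.node (.leaf 0x6a6) (.leaf 0x2d8))) (.node (.node (.leaf 0x53) (.leaf 0x61a)) (.node (.leaf 0x3e1) (.leaf 0x291)))) (.node (.node (.node (.leaf 0x505) (.leaf 0x1c2)) (.node (.leaf 0x3cc) (.leaf 0x67e))) (.node (.node (.leaf 0x50f) (.leaf 0x52e)) (.node (.leaf 0x7ff) (.leaf 0x3c1)))))) (.node (.node (.node (.node (.node (.leaf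 0x66e) (.leaf 0x222)) (.node (.leaf 0x12d) (.leaf 0x53a))) (.node (.node (.leaf 0x7d7) (.leaf 0x155)) (.node (.leaf 0x13) (.leaf 0x4a0)))) (.node (.node (.node (.leaf 0x1fa) (.leaf 0x574)) (.node (.leaf 0x121) (.leaf 0x21c))) (.node (.node (.leaf 0x7b8) (.leaf 0x537)) (.node (.leaf 0x7ab) (.leaf 0x43d))))) (.node (.node (.node (.node (.leaf 0x4ca) (.leaf 0x163)) (.node (.leaf 0x7eb) (.leaf 0x4d9))) (.node (.node (.leaf 0x4d2) (.leaf 0x39b)) (.node (.leaf 0x6bb) (.leaf 0x3e7)))) (.node (.node (.node (.leaf 0x420) (.leaf 0x6de)) (.node (.leaf 0x79) (.leaf 0x70f))) (.node (.node (.leaf 0x5b4) (.leaf 0x4df)) (.node (.leaf 0x135) (.leaf 0x494))))))) (.node (.node (.node (.node (.node (.node (.leaf 0x436) (.leaf 0x5e0)) (.node (.leaf 0x396) (.leaf 0xcc))) (.node (.node (.leaf 0x3b8) (.leaf 0xb1)) (.node (.leaf 0x301) (.leaf 0x797)))) (.node (.node (.node (.leaf 0x1af) (.leaf 0x26f)) (.node (.leaf 0x140) (.leaf 0x6df))) (.node (.node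 (.leaf 0x77f) (.leaf 0x78b)) (.node (.leaf 0x374) (.leaf 0x27c))))) (.node (.node (.node (.node (.leaf 0x23a) (.leaf 0x2c1)) (.node (.leaf 0x107) (.leaf 0x117))) (.node (.node (.leaf 0x13e) (.leaf 0x3b2)) (.node (.leaf 0x5b7) (.leaf 0x774)))) (.node (.node (.node (.leaf 0x17d) (.leaf 0x283)) (.node (.leaf 0x16f) (.leaf 0x198))) (.node (.node (.leaf 0x566) (.leaf 0x4ed)) (.node (.leaf 0x18f) (.leaf 0x237)))))) (.node (.node (.node (.node (.node (.leaf 0x78d) (.leaf 0x159)) (.node (.leaf 0x6a5) (.leaf 0x40))) (.node (.node (.leaf 0x2bc) (.leaf 0x303)) (.node (.leaf 0x17f) (.leaf 0x601)))) (.node (.node (.node (.leaf 0x796) (.leaf 0x2f2)) (.node (.leaf 0x5ac) (.leaf 0x408))) (.node (.node (.leaf 0x14c) (.leaf 0x12c)) (.node (.leaf 0x61f) (.leaf 0x5f1))))) (.node (.node (.node (.node (.leaf 0x315) (.leaf 0x2cc)) (.node (.leaf 0x509) (.leaf 0x673))) (.node (.node (.leaf 0x26a) (.leaf 0x50)) (.node (.leaf 0x1cd) (.leaf 0x4ee)))) (.node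 (.node (.node (.leaf 0x3d9) (.leaf 0x647)) (.node (.leaf 0x617) (.leaf 0x56))) (.node (.node (.leaf 0x290) (.leaf 0x1ab)) (.node (.leaf 0x1fb) (.leaf 0x2cd))))))))

/-- the order of keys -/
def sortT : Trie :=
  (.node (.node (.node (.node sortT0 sortT8) (.node sortT4 sortT12)) (.node (.node sortT2 sortT10) (.node sortT6 sortT14))) (.node (.node (.node sortT1 sortT9) (.node sortT5 sortT13)) (.node (.node sortT3 sortT11) (.node sortT7 sortT15))))

/-- part of class and conjugating word of each involution -/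
def witT0 : Trie :=
  (.node (.node (.node (.node (.node (.node (.node (.leaf 0x0) (.leaf 0x0)) (.node (.leaf 0x0) (.leaf 0x0))) (.node (.node (.leaf 0x0) (.leaf 0x0)) (.node (.leaf 0x0) (.leaf 0x0)))) (.node (.node (.node (.leaf 0x0) (.leaf 0x0)) (.node (.leaf 0x6d352289bada75b2) (.leaf 0x0))) (.node (.node (.leaf 0x0) (.leaf 0x0)) (.node (.leaf 0x0) (.leaf 0x0))))) (.node (.node (.node (.node (.leaf 0x0) (.leaf 0x0)) (.node (.leaf 0x26d592c92c9644d95) (.leaf 0x0))) (.node (.node (.leaf 0x0) (.leaf 0x0)) (.node (.leaf 0x0) (.leaf 0x0)))) (.node (.node (.node (.leaf 0x0) (.leaf 0x0)) (.node (.leaf 0x0) (.leaf 0x352289d9132ebb0c4))) (.node (.node (.leaf 0x0) (.leaf 0x0)) (.node (.leaf 0x0) (.leaf 0x0)))))) (.node (.node (.node (.node (.node (.leaf 0x0) (.leaf 0x0)) (.node (.leaf 0x0) (.leaf 0x0))) (.node (.node (.leaf 0x0) (.leaf 0x0)) (.node (.leaf 0x0) (.leaf 0x14564b1375d65d3215)))) (.node (.node (.node (.leaf 0x0) (.leaf 0x0))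 (.node (.leaf 0x0) (.leaf 0x0))) (.node (.node (.leaf 0xa2b2b75badd2ec5) (.leaf 0x0)) (.node (.leaf 0x0) (.leaf 0x0))))) (.node (.node (.node (.node (.leaf 0x0) (.leaf 0x0)) (.node (.leaf 0x0) (.leaf 0x0))) (.node (.node (.leaf 0x0) (.leaf 0x0)) (.node (.leaf 0x0) (.leaf 0x0)))) (.node (.node (.node (.leaf 0x0) (.leaf 0x0)) (.node (.leaf 0x0) (.leaf 0x0))) (.node (.node (.leaf 0x0) (.leaf 0x0)) (.node (.leaf 0x0) (.leaf 0x0))))))) (.node (.node (.node (.node (.node (.node (.leaf 0x0) (.leaf 0x0)) (.node (.leaf 0x44daaeb69b65d30c5) (.leaf 0x0))) (.node (.node (.leaf 0x0) (.leaf 0x0)) (.node (.leaf 0x0) (.leaf 0x0)))) (.node (.node (.node (.leaf 0x0) (.leaf 0x0)) (.node (.leaf 0x0) (.leaf 0x0))) (.node (.node (.leaf 0x1589badd91496430c5) (.leaf 0x0)) (.node (.leaf 0x0) (.leaf 0x0))))) (.node (.node (.node (.node (.leaf 0x0) (.leaf 0x0)) (.node (.leaf 0x0) (.leaf 0x0))) (.node (.node (.leaf 0x0) (.leaf 0x1a9159148a54dbb214)) (.node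 (.leaf 0x0) (.leaf 0x0)))) (.node (.node (.node (.leaf 0x0) (.leaf 0x0)) (.node (.leaf 0x0) (.leaf 0x0))) (.node (.node (.leaf 0x0) (.leaf 0x0)) (.node (.leaf 0x0) (.leaf 0x0)))))) (.node (.node (.node (.node (.node (.leaf 0x55a8a450bacb3295) (.leaf 0x0)) (.node (.leaf 0x0) (.leaf 0x369a8a289d6d48654))) (.node (.node (.leaf 0x0) (.leaf 0x0)) (.node (.leaf 0x0) (.leaf 0x0)))) (.node (.node (.node (.leaf 0x0) (.leaf 0x0)) (.node (.leaf 0x0) (.leaf 0x0))) (.node (.node (.leaf 0x0) (.leaf 0x0)) (.node (.leaf 0x0) (.leaf 0xd4b2275965b7643))))) (.node (.node (.node (.node (.leaf 0x0) (.leaf 0x0)) (.node (.leaf 0xb2c92c90bad99652) (.leaf 0x156ebb2c89d6594))) (.node (.node (.leaf 0x0) (.leaf 0x0)) (.node (.leaf 0x0) (.leaf 0x0)))) (.node (.node (.node (.leaf 0x0) (.leaf 0x0)) (.node (.leaf 0x0) (.leaf 0x0))) (.node (.node (.leaf 0x0) (.leaf 0x0)) (.node (.leaf 0x0) (.leaf 0x296450bb2592badd2))))))))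

/-- part of class and conjugating word of each involution -/
def witT8 : Trie :=
  (.node (.node (.node (.node (.node (.node (.node (.leaf 0x0) (.leaf 0x0)) (.node (.leaf 0x0) (.leaf 0x0))) (.node (.node (.leaf 0x0) (.leaf 0x2b144ebad32dbae92)) (.node (.leaf 0x0) (.leaf 0x0)))) (.node (.node (.node (.leaf 0x0) (.leaf 0x0)) (.node (.leaf 0x0) (.leaf 0x0))) (.node (.node (.leaf 0x0) (.leaf 0x0)) (.node (.leaf 0x0) (.leaf 0x0))))) (.node (.node (.node (.node (.leaf 0x0) (.leaf 0x0)) (.node (.leaf 0x0) (.leaf 0x0))) (.node (.node (.leaf 0x0) (.leaf 0x0)) (.node (.leaf 0x0) (.leaf 0x0)))) (.node (.node (.node (.leaf 0x0) (.leaf 0x0)) (.node (.leaf 0x0) (.leaf 0x26a44ec8ac9643294))) (.node (.node (.leaf 0x0) (.leaf 0x0)) (.node (.leaf 0x0) (.leaf 0x0)))))) (.node (.node (.node (.node (.node (.leaf 0x0) (.leaf 0x1d6d56d352575a6ec2)) (.node (.leaf 0x158acadd6eb5255) (.leaf 0x0))) (.node (.node (.leaf 0x12c4da75d6d42dd5) (.leaf 0x275d75d6d3aec4))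 (.node (.leaf 0x0) (.leaf 0x0)))) (.node (.node (.node (.leaf 0x0) (.leaf 0x0)) (.node (.leaf 0x0) (.leaf 0x0))) (.node (.node (.leaf 0x0) (.leaf 0x0)) (.node (.leaf 0x0) (.leaf 0x0))))) (.node (.node (.node (.node (.leaf 0x0) (.leaf 0x0)) (.node (.leaf 0x0) (.leaf 0x0))) (.node (.node (.leaf 0x9b5659226dd8595) (.leaf 0x0)) (.node (.leaf 0x0) (.leaf 0x0)))) (.node (.node (.node (.leaf 0x0) (.leaf 0x0)) (.node (.leaf 0x0) (.leaf 0x0))) (.node (.node (.leaf 0x0) (.leaf 0x0)) (.node (.leaf 0x0) (.leaf 0x0))))))) (.node (.node (.node (.node (.node (.node (.leaf 0x0) (.leaf 0x0)) (.node (.leaf 0x4) (.leaf 0x0))) (.node (.node (.leaf 0x0) (.leaf 0x0)) (.node (.leaf 0x0) (.leaf 0x0)))) (.node (.node (.node (.leaf 0x0) (.leaf 0x0)) (.node (.leaf 0x0) (.leaf 0x0))) (.node (.node (.leaf 0x0) (.leaf 0x0)) (.node (.leaf 0x0) (.leaf 0x0))))) (.node (.node (.node (.node (.leaf 0x0) (.leaf 0x0)) (.node (.leaf 0x9bada92532c3253) (.leaf 0x0)))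 (.node (.node (.leaf 0xb24b134d96618615) (.leaf 0x0)) (.node (.leaf 0x0) (.leaf 0x0)))) (.node (.node (.node (.leaf 0x0) (.leaf 0x2592b75aaeb75a8643)) (.node (.leaf 0x0) (.leaf 0x0))) (.node (.node (.leaf 0x0) (.leaf 0x0)) (.node (.leaf 0x0) (.leaf 0x0)))))) (.node (.node (.node (.node (.node (.leaf 0x0) (.leaf 0x0)) (.node (.leaf 0x0) (.leaf 0x0))) (.node (.node (.leaf 0x0) (.leaf 0x0)) (.node (.leaf 0x55b52cb22764a593) (.leaf 0x0)))) (.node (.node (.node (.leaf 0x0) (.leaf 0x0)) (.node (.leaf 0x0) (.leaf 0x452c525913b259654))) (.node (.node (.leaf 0x1d6d492c95ba6590b5) (.leaf 0x0)) (.node (.leaf 0x0) (.leaf 0x0))))) (.node (.node (.node (.node (.leaf 0x4b2c8ab4dd3256d92) (.leaf 0x0)) (.node (.leaf 0x0) (.leaf 0x0))) (.node (.node (.leaf 0x0) (.leaf 0x0)) (.node (.leaf 0x0) (.leaf 0x0)))) (.node (.node (.node (.leaf 0x0) (.leaf 0x0)) (.node (.leaf 0x0) (.leaf 0x0))) (.node (.node (.leaf 0x0) (.leaf 0x0)) (.node (.leaf 0x0) (.leaf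 0x0))))))))

/-- part of class and conjugating word of each involution -/
def witT4 : Trie :=
  (.node (.node (.node (.node (.node (.node (.node (.leaf 0x0) (.leaf 0x0)) (.node (.leaf 0x0) (.leaf 0x0))) (.node (.node (.leaf 0x0) (.leaf 0x0)) (.node (.leaf 0x0) (.leaf 0x0)))) (.node (.node (.node (.leaf 0x0) (.leaf 0x0)) (.node (.leaf 0x0) (.leaf 0x69d6cb7658645))) (.node (.node (.leaf 0x0) (.leaf 0x26a592b2db5)) (.node (.leaf 0x4ec8a4ada6653292) (.leaf 0x0))))) (.node (.node (.node (.node (.leaf 0x0) (.leaf 0x0)) (.node (.leaf 0x0) (.leaf 0x5256eb75d6cb5))) (.node (.node (.leaf 0x0) (.leaf 0x0)) (.node (.leaf 0x0) (.leaf 0x12275a75a8659655)))) (.node (.node (.node (.leaf 0x0) (.leaf 0x0)) (.node (.leaf 0xb24add9253216dd2) (.leaf 0x0))) (.node (.node (.leaf 0x0) (.leaf 0x0)) (.node (.leaf 0x0) (.leaf 0x0)))))) (.node (.node (.node (.node (.node (.leaf 0x0) (.leaf 0x0)) (.node (.leaf 0x51352274baec4) (.leaf 0x0))) (.node (.node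 (.leaf 0x34d34dd6eb50b5) (.leaf 0x0)) (.node (.leaf 0x0) (.leaf 0x0)))) (.node (.node (.node (.leaf 0x0) (.leaf 0x0)) (.node (.leaf 0x0) (.leaf 0x0))) (.node (.node (.leaf 0x0) (.leaf 0x92591452530b6615)) (.node (.leaf 0x0) (.leaf 0x0))))) (.node (.node (.node (.node (.leaf 0x0) (.leaf 0x0)) (.node (.leaf 0x0) (.leaf 0x0))) (.node (.node (.leaf 0x0) (.leaf 0x0)) (.node (.leaf 0x0) (.leaf 0x0)))) (.node (.node (.node (.leaf 0x0) (.leaf 0x0)) (.node (.leaf 0x0) (.leaf 0x0))) (.node (.node (.leaf 0x0) (.leaf 0x0)) (.node (.leaf 0x44d36a28a4b2a6ec2) (.leaf 0x0))))))) (.node (.node (.node (.node (.node (.node (.leaf 0x0) (.leaf 0xa4524b258a585b2d92)) (.node (.leaf 0x0) (.leaf 0x0))) (.node (.node (.leaf 0x0) (.leaf 0x95b4eb7659542dd5)) (.node (.leaf 0x0) (.leaf 0x0)))) (.node (.node (.node (.leaf 0x0) (.leaf 0x0)) (.node (.leaf 0xa4ada95b69d3212) (.leaf 0x0))) (.node (.node (.leaf 0x0) (.leaf 0x0)) (.node (.leaf 0x0) (.leaf 0x0)))))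 (.node (.node (.node (.node (.leaf 0x0) (.leaf 0x0)) (.node (.leaf 0x0) (.leaf 0x0))) (.node (.node (.leaf 0x0) (.leaf 0x0)) (.node (.leaf 0x0) (.leaf 0x0)))) (.node (.node (.node (.leaf 0x0) (.leaf 0x0)) (.node (.leaf 0x0) (.leaf 0x1495d6d4b2285d65d5))) (.node (.node (.leaf 0x0) (.leaf 0x0)) (.node (.leaf 0x0) (.leaf 0x8acb228a26eba643)))))) (.node (.node (.node (.node (.node (.leaf 0x164b1495b69d75b5) (.leaf 0x0)) (.node (.leaf 0x0) (.leaf 0x0))) (.node (.node (.leaf 0x0) (.leaf 0x26a56ec964b0cb254)) (.node (.leaf 0x0) (.leaf 0xb145645256e96655)))) (.node (.node (.node (.leaf 0x0) (.leaf 0x0)) (.node (.leaf 0x0) (.leaf 0x0))) (.node (.node (.leaf 0x0) (.leaf 0x45229659532cb4)) (.node (.leaf 0x0) (.leaf 0x0))))) (.node (.node (.node (.node (.leaf 0x0) (.leaf 0xebb2595d75b4cc8642)) (.node (.leaf 0x2289d92c4d374cb212) (.leaf 0xd3aec89d6dd69d5))) (.node (.node (.leaf 0x0) (.leaf 0x0)) (.node (.leaf 0x44eb69a6eb6e992b2) (.leaf 0x0))))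 (.node (.node (.node (.leaf 0x0) (.leaf 0x0)) (.node (.leaf 0x0) (.leaf 0x0))) (.node (.node (.leaf 0x0) (.leaf 0x0)) (.node (.leaf 0x0) (.leaf 0x0))))))))

/-- part of class and conjugating word of each involution -/
def witT12 : Trie :=
  (.node (.node (.node (.node (.node (.node (.node (.leaf 0x0) (.leaf 0x29156ebacb2dbb292)) (.node (.leaf 0x0) (.leaf 0x0))) (.node (.node (.leaf 0x0) (.leaf 0x0)) (.node (.leaf 0x0) (.leaf 0x0)))) (.node (.node (.node (.leaf 0x0) (.leaf 0x0)) (.node (.leaf 0x0) (.leaf 0x256a592b74b2db5))) (.node (.node (.leaf 0x0) (.leaf 0x52c964ad495b74b4)) (.node (.leaf 0x0) (.leaf 0x0))))) (.node (.node (.node (.node (.leaf 0x0) (.leaf 0x0)) (.node (.leaf 0x0) (.leaf 0xada92590c2cba5d5))) (.node (.node (.leaf 0x0) (.leaf 0x0)) (.node (.leaf 0x0) (.leaf 0x0)))) (.node (.node (.node (.leaf 0x3) (.leaf 0x0)) (.node (.leaf 0x0) (.leaf 0x0))) (.node (.node (.leaf 0x52589b4ebaeb7624) (.leaf 0x0)) (.node (.leaf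 0x0) (.leaf 0x0)))))) (.node (.node (.node (.node (.node (.leaf 0x0) (.leaf 0x0)) (.node (.leaf 0x226d452c2dbadb5) (.leaf 0x0))) (.node (.node (.leaf 0x0) (.leaf 0x6a48a175bb2595b5)) (.node (.leaf 0x0) (.leaf 0x256ec96592b5)))) (.node (.node (.node (.leaf 0x0) (.leaf 0x0)) (.node (.leaf 0x0) (.leaf 0x5764b2c52caa42dd5))) (.node (.node (.leaf 0x0) (.leaf 0x0)) (.node (.leaf 0x0) (.leaf 0x0))))) (.node (.node (.node (.node (.leaf 0x0) (.leaf 0x0)) (.node (.leaf 0x0) (.leaf 0x0))) (.node (.node (.leaf 0x4dd6d350c94b2cb4) (.leaf 0x0)) (.node (.leaf 0x0) (.leaf 0x0)))) (.node (.node (.node (.leaf 0x0) (.leaf 0x0)) (.node (.leaf 0x0) (.leaf 0x0))) (.node (.node (.leaf 0x0) (.leaf 0x15a76450c9653255)) (.node (.leaf 0x0) (.leaf 0x0))))))) (.node (.node (.node (.node (.node (.node (.leaf 0x0) (.leaf 0x0)) (.node (.leaf 0x0) (.leaf 0x1a96289b2ec85b5))) (.node (.node (.leaf 0x0) (.leaf 0x0)) (.node (.leaf 0x0) (.leaf 0x0)))) (.node (.node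 (.node (.leaf 0x0) (.leaf 0x0)) (.node (.leaf 0x13b258a4b22764b253) (.leaf 0x0))) (.node (.node (.leaf 0x4d3aeb51432c8594) (.leaf 0x0)) (.node (.leaf 0x0) (.leaf 0x0))))) (.node (.node (.node (.node (.leaf 0x0) (.leaf 0x0)) (.node (.leaf 0x0) (.leaf 0x0))) (.node (.node (.leaf 0x89baeba5d92c5) (.leaf 0x0)) (.node (.leaf 0x2) (.leaf 0x0)))) (.node (.node (.node (.leaf 0x11375bb2c8a4b2b5) (.leaf 0x0)) (.node (.leaf 0x0) (.leaf 0x0))) (.node (.node (.leaf 0x0) (.leaf 0x2b2b66192c5)) (.node (.leaf 0x0) (.leaf 0x0)))))) (.node (.node (.node (.node (.node (.leaf 0x34dd92b55b2ccb0c5) (.leaf 0x0)) (.node (.leaf 0x0) (.leaf 0x0))) (.node (.node (.leaf 0x0) (.leaf 0x27645644ebada9654)) (.node (.leaf 0x0) (.leaf 0x4b2455b4d990cb2b4)))) (.node (.node (.node (.leaf 0x0) (.leaf 0x0)) (.node (.leaf 0x0) (.leaf 0x0))) (.node (.node (.leaf 0x0) (.leaf 0x0)) (.node (.leaf 0x0) (.leaf 0x0))))) (.node (.node (.node (.node (.leaf 0x0) (.leaf 0x4dd69a6ea6ec9652))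 (.node (.leaf 0x0) (.leaf 0x0))) (.node (.node (.leaf 0x0) (.leaf 0x0)) (.node (.leaf 0x0) (.leaf 0x69b55d92166185b3)))) (.node (.node (.node (.leaf 0x0) (.leaf 0x0)) (.node (.leaf 0x0) (.leaf 0x0))) (.node (.node (.leaf 0x0) (.leaf 0x0)) (.node (.leaf 0x0) (.leaf 0x26d369a90b75d90c3))))))))

/-- part of class and conjugating word of each involution -/
def witT2 : Trie :=
  (.node (.node (.node (.node (.node (.node (.node (.leaf 0x0) (.leaf 0x0)) (.node (.leaf 0x0) (.leaf 0x0))) (.node (.node (.leaf 0x0) (.leaf 0x0)) (.node (.leaf 0x0) (.leaf 0xb2cb1375a9642e95)))) (.node (.node (.node (.leaf 0x0) (.leaf 0x14b245229642cb7643)) (.node (.leaf 0x0) (.leaf 0x0))) (.node (.node (.leaf 0x28a269d6cb6cb2ec4) (.leaf 0x1a764524524a9d6595)) (.node (.leaf 0x0) (.leaf 0x0))))) (.node (.node (.node (.node (.leaf 0x0) (.leaf 0x0)) (.node (.leaf 0x9badd964b2194c5) (.leaf 0x0))) (.node (.node (.leaf 0x0) (.leaf 0xada6abb259652db4)) (.node (.leaf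 0x0) (.leaf 0xaebaeb6abadd2ec5)))) (.node (.node (.node (.leaf 0x0) (.leaf 0x3ada964add8a52)) (.node (.leaf 0x0) (.leaf 0x0))) (.node (.node (.leaf 0x0) (.leaf 0x0)) (.node (.leaf 0x0) (.leaf 0x0)))))) (.node (.node (.node (.node (.node (.leaf 0x0) (.leaf 0x0)) (.node (.leaf 0x164b2452c95bb215) (.leaf 0x0))) (.node (.node (.leaf 0x0) (.leaf 0xac8ac92c8a4b216d95)) (.node (.leaf 0x0) (.leaf 0x27659256cbadd8655)))) (.node (.node (.node (.leaf 0x0) (.leaf 0x0)) (.node (.leaf 0x0) (.leaf 0x0))) (.node (.node (.leaf 0x0) (.leaf 0x0)) (.node (.leaf 0x0) (.leaf 0x0))))) (.node (.node (.node (.node (.leaf 0x0) (.leaf 0x0)) (.node (.leaf 0x0) (.leaf 0x0))) (.node (.node (.leaf 0x0) (.leaf 0x0)) (.node (.leaf 0x0) (.leaf 0x0)))) (.node (.node (.node (.leaf 0x0) (.leaf 0x0)) (.node (.leaf 0x0) (.leaf 0x0))) (.node (.node (.leaf 0x369b51492c8a19615) (.leaf 0x0)) (.node (.leaf 0x0) (.leaf 0x0))))))) (.node (.node (.node (.node (.node (.node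 (.leaf 0x0) (.leaf 0x0)) (.node (.leaf 0x0) (.leaf 0x0))) (.node (.node (.leaf 0x0) (.leaf 0x1355d6d4b2c96275b5)) (.node (.leaf 0x0) (.leaf 0x0)))) (.node (.node (.node (.leaf 0x0) (.leaf 0x0)) (.node (.leaf 0x75a6eb76532cb0c3) (.leaf 0x0))) (.node (.node (.leaf 0x0) (.leaf 0x4b2452c9642d96ec4)) (.node (.leaf 0x0) (.leaf 0x0))))) (.node (.node (.node (.node (.leaf 0x0) (.leaf 0x0)) (.node (.leaf 0x9b564b2552b7644) (.leaf 0x13ada8a489b74bacc4))) (.node (.node (.leaf 0xdd91452174b6654) (.leaf 0x1576489bad3add90c5)) (.node (.leaf 0x0) (.leaf 0x145648a2b2c95bb145)))) (.node (.node (.node (.leaf 0x0) (.leaf 0x0)) (.node (.leaf 0x0) (.leaf 0x0))) (.node (.node (.leaf 0x0) (.leaf 0x0)) (.node (.leaf 0x0) (.leaf 0x0)))))) (.node (.node (.node (.node (.node (.leaf 0x0) (.leaf 0x13b244eb4ea96590c3)) (.node (.leaf 0x4d375bb2990b3254) (.leaf 0x0))) (.node (.node (.leaf 0x0) (.leaf 0x0)) (.node (.leaf 0x0) (.leaf 0x156d369a913a5b7615)))) (.node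 (.node (.node (.leaf 0x0) (.leaf 0x0)) (.node (.leaf 0x0) (.leaf 0x0))) (.node (.node (.leaf 0x0) (.leaf 0x0)) (.node (.leaf 0x0) (.leaf 0x0))))) (.node (.node (.node (.node (.leaf 0x0) (.leaf 0x0)) (.node (.leaf 0x0) (.leaf 0x0))) (.node (.node (.leaf 0x5134dd75bb296595) (.leaf 0x0)) (.node (.leaf 0x0) (.leaf 0x0)))) (.node (.node (.node (.leaf 0x0) (.leaf 0x0)) (.node (.leaf 0x0) (.leaf 0x0))) (.node (.node (.leaf 0x0) (.leaf 0x0)) (.node (.leaf 0x249628a589baec8a52) (.leaf 0x0))))))))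

/-- part of class and conjugating word of each involution -/
def witT10 : Trie :=
  (.node (.node (.node (.node (.node (.node (.node (.leaf 0x0) (.leaf 0x1aadd69bad4a653)) (.node (.leaf 0x0) (.leaf 0x0))) (.node (.node (.leaf 0x4564b244cb75b2cc5) (.leaf 0x0)) (.node (.leaf 0x0) (.leaf 0x964b22b1496192b4)))) (.node (.node (.node (.leaf 0x0) (.leaf 0x0)) (.node (.leaf 0x0) (.leaf 0x0))) (.node (.node (.leaf 0x0) (.leaf 0x0)) (.node (.leaf 0x351495baec9626d93) (.leaf 0x0))))) (.node (.node (.node (.node (.leaf 0x0) (.leaf 0x0)) (.node (.leaf 0x0) (.leaf 0x6ab75d69d6ea6614))) (.node (.node (.leaf 0x1489bada7597599595) (.leaf 0x0)) (.node (.leaf 0x0) (.leaf 0x0)))) (.node (.node (.node (.leaf 0x0) (.leaf 0x0)) (.node (.leaf 0x0) (.leaf 0x0))) (.node (.node (.leaf 0x0) (.leaf 0x0)) (.node (.leaf 0x134dab228abb2585b3) (.leaf 0x0)))))) (.node (.node (.node (.node (.node (.leaf 0x0) (.leaf 0x0)) (.node (.leaf 0x26ecadd6d37615) (.leaf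 0x2292c96532cacc5))) (.node (.node (.leaf 0x6a591369b32c9645) (.leaf 0x12589a6eb69975d6cb4)) (.node (.leaf 0x0) (.leaf 0x0)))) (.node (.node (.node (.leaf 0x0) (.leaf 0x0)) (.node (.leaf 0x0) (.leaf 0xa56d376585d5))) (.node (.node (.leaf 0x9659134cb75b2ec4) (.leaf 0x0)) (.node (.leaf 0x0) (.leaf 0x0))))) (.node (.node (.node (.node (.leaf 0x0) (.leaf 0x0)) (.node (.leaf 0x0) (.leaf 0x0))) (.node (.node (.leaf 0x0) (.leaf 0x292b6ab6a592c94c4)) (.node (.leaf 0x0) (.leaf 0x0)))) (.node (.node (.node (.leaf 0x0) (.leaf 0x0)) (.node (.leaf 0x0) (.leaf 0x0))) (.node (.node (.leaf 0x0) (.leaf 0x0)) (.node (.leaf 0x0) (.leaf 0x0))))))) (.node (.node (.node (.node (.node (.node (.leaf 0x0) (.leaf 0x0)) (.node (.leaf 0x0) (.leaf 0x0))) (.node (.node (.leaf 0x0) (.leaf 0x0)) (.node (.leaf 0x0) (.leaf 0x6a292c8a4b218655)))) (.node (.node (.node (.leaf 0x0) (.leaf 0x0)) (.node (.leaf 0x0) (.leaf 0x0))) (.node (.node (.leaf 0xec8acb2cb0b6cc5)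 (.leaf 0x3514b149642d975d4)) (.node (.leaf 0x0) (.leaf 0x0))))) (.node (.node (.node (.node (.leaf 0x0) (.leaf 0x0)) (.node (.leaf 0x0) (.leaf 0x0))) (.node (.node (.leaf 0x452292b75a6ccb294) (.leaf 0x0)) (.node (.leaf 0x0) (.leaf 0x0)))) (.node (.node (.node (.leaf 0x0) (.leaf 0x0)) (.node (.leaf 0x0) (.leaf 0x2c4da75ba5d9655))) (.node (.node (.leaf 0x0) (.leaf 0xd3ada92192b2db5)) (.node (.leaf 0x0) (.leaf 0x26ec5256dd90c3)))))) (.node (.node (.node (.node (.node (.leaf 0x0) (.leaf 0x0)) (.node (.leaf 0x0) (.leaf 0x0))) (.node (.node (.leaf 0x0) (.leaf 0x0)) (.node (.leaf 0x0) (.leaf 0x0)))) (.node (.node (.node (.leaf 0x0) (.leaf 0x12296592baeb7613)) (.node (.leaf 0x0) (.leaf 0x0))) (.node (.node (.leaf 0x0) (.leaf 0x0)) (.node (.leaf 0x0) (.leaf 0x0))))) (.node (.node (.node (.node (.leaf 0x0) (.leaf 0x2575b5244eb74bb212)) (.node (.leaf 0x0) (.leaf 0x0))) (.node (.node (.leaf 0x26eb75a8a44eb2cc4) (.leaf 0x0)) (.node (.leaf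 0x0) (.leaf 0x0)))) (.node (.node (.node (.leaf 0x0) (.leaf 0x0)) (.node (.leaf 0x135149136656e93) (.leaf 0x0))) (.node (.node (.leaf 0x0) (.leaf 0x0)) (.node (.leaf 0x4d49148a59659542) (.leaf 0x4d4964ad32eb2db2))))))))

/-- part of class and conjugating word of each involution -/
def witT6 : Trie :=
  (.node (.node (.node (.node (.node (.node (.node (.leaf 0x8acb149658657593) (.leaf 0x0)) (.node (.leaf 0xa45226ab6a45259615) (.leaf 0x0))) (.node (.node (.leaf 0x0) (.leaf 0x0)) (.node (.leaf 0x0) (.leaf 0x0)))) (.node (.node (.node (.leaf 0x0) (.leaf 0x0)) (.node (.leaf 0x148ab75b55d914a612) (.leaf 0x0))) (.node (.node (.leaf 0x0) (.leaf 0x0)) (.node (.leaf 0x3b22b2b69b6616593) (.leaf 0x0))))) (.node (.node (.node (.node (.leaf 0x0) (.leaf 0x0)) (.node (.leaf 0x0) (.leaf 0x75a96456586190b5))) (.node (.node (.leaf 0x148a28acb14b2b6e95) (.leaf 0x0)) (.node (.leaf 0x0) (.leaf 0x352592badd6ea5)))) (.node (.node (.node (.leaf 0x0) (.leaf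 0x0)) (.node (.leaf 0x0) (.leaf 0x0))) (.node (.node (.leaf 0x0) (.leaf 0x0)) (.node (.leaf 0x0) (.leaf 0x0)))))) (.node (.node (.node (.node (.node (.leaf 0x0) (.leaf 0x0)) (.node (.leaf 0x4d49658a44dd6ea6eb5) (.leaf 0x0))) (.node (.node (.leaf 0x0) (.leaf 0x0)) (.node (.leaf 0x0) (.leaf 0x0)))) (.node (.node (.node (.leaf 0x0) (.leaf 0xacaeb4d49644d96592)) (.node (.leaf 0x0) (.leaf 0x0))) (.node (.node (.leaf 0x226d36abadd6a18615) (.leaf 0x0)) (.node (.leaf 0x156eb5242ebb252) (.leaf 0x0))))) (.node (.node (.node (.node (.leaf 0x0) (.leaf 0x0)) (.node (.leaf 0x0) (.leaf 0x0))) (.node (.node (.leaf 0x134dd6a5913b214) (.leaf 0x0)) (.node (.leaf 0x0) (.leaf 0x0)))) (.node (.node (.node (.leaf 0x0) (.leaf 0x0)) (.node (.leaf 0x0) (.leaf 0x0))) (.node (.node (.leaf 0x0) (.leaf 0x0)) (.node (.leaf 0x0) (.leaf 0x0))))))) (.node (.node (.node (.node (.node (.node (.leaf 0x0) (.leaf 0x0)) (.node (.leaf 0x0) (.leaf 0x0))) (.node (.node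 (.leaf 0x0) (.leaf 0x12caeb5)) (.node (.leaf 0x0) (.leaf 0x2c8a2aeb6a52d94)))) (.node (.node (.node (.leaf 0x0) (.leaf 0x0)) (.node (.leaf 0x0) (.leaf 0xdd7596dd6645))) (.node (.node (.leaf 0x0) (.leaf 0x0)) (.node (.leaf 0x0) (.leaf 0x0))))) (.node (.node (.node (.node (.leaf 0x0) (.leaf 0x0)) (.node (.leaf 0x0) (.leaf 0x0))) (.node (.node (.leaf 0x0) (.leaf 0x0)) (.node (.leaf 0x0) (.leaf 0x0)))) (.node (.node (.node (.leaf 0x0) (.leaf 0x0)) (.node (.leaf 0x0) (.leaf 0x0))) (.node (.node (.leaf 0x0) (.leaf 0x0)) (.node (.leaf 0x0) (.leaf 0x0)))))) (.node (.node (.node (.node (.node (.leaf 0x0) (.leaf 0x0)) (.node (.leaf 0x0) (.leaf 0x0))) (.node (.node (.leaf 0x0) (.leaf 0x0)) (.node (.leaf 0x0) (.leaf 0x0)))) (.node (.node (.node (.leaf 0x0) (.leaf 0x0)) (.node (.leaf 0x0) (.leaf 0x0))) (.node (.node (.leaf 0x0) (.leaf 0x0)) (.node (.leaf 0x0) (.leaf 0x0))))) (.node (.node (.node (.node (.leaf 0x0) (.leaf 0x0)) (.node (.leaf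 0x0) (.leaf 0x0))) (.node (.node (.leaf 0x0) (.leaf 0x0)) (.node (.leaf 0x96495a764b0b2cb2) (.leaf 0x0)))) (.node (.node (.node (.leaf 0x0) (.leaf 0x0)) (.node (.leaf 0x0) (.leaf 0x0))) (.node (.node (.leaf 0x0) (.leaf 0x0)) (.node (.leaf 0x0) (.leaf 0x0))))))))

/-- part of class and conjugating word of each involution -/
def witT14 : Trie :=
  (.node (.node (.node (.node (.node (.node (.node (.leaf 0x0) (.leaf 0x0)) (.node (.leaf 0x0) (.leaf 0x0))) (.node (.node (.leaf 0x0) (.leaf 0x144da92cb229615)) (.node (.leaf 0x0) (.leaf 0x0)))) (.node (.node (.node (.leaf 0x0) (.leaf 0x0)) (.node (.leaf 0x0) (.leaf 0x0))) (.node (.node (.leaf 0x0) (.leaf 0x16489a9137596eb4)) (.node (.leaf 0x0) (.leaf 0x0))))) (.node (.node (.node (.node (.leaf 0x0) (.leaf 0x0)) (.node (.leaf 0xa291592b75a6cc8655) (.leaf 0x0))) (.node (.node (.leaf 0x0) (.leaf 0xad4b2589b75b75b4)) (.node (.leaf 0x0) (.leaf 0x0)))) (.node (.node (.node (.leaf 0x0) (.leaf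 0x0)) (.node (.leaf 0x0) (.leaf 0x0))) (.node (.node (.leaf 0x0) (.leaf 0x0)) (.node (.leaf 0x6a45256d4add74b3) (.leaf 0x6eb75ab242d975b2)))))) (.node (.node (.node (.node (.node (.leaf 0x0) (.leaf 0x0)) (.node (.leaf 0x0) (.leaf 0x0))) (.node (.node (.leaf 0x0) (.leaf 0x0)) (.node (.leaf 0x0) (.leaf 0x26d4964b2ca6585b5)))) (.node (.node (.node (.leaf 0x0) (.leaf 0x0)) (.node (.leaf 0x0) (.leaf 0x0))) (.node (.node (.leaf 0x0) (.leaf 0x0)) (.node (.leaf 0x0) (.leaf 0x0))))) (.node (.node (.node (.node (.leaf 0x0) (.leaf 0x0)) (.node (.leaf 0x0) (.leaf 0x0))) (.node (.node (.leaf 0x0) (.leaf 0x55a96269badbadd5)) (.node (.leaf 0x4b2452c90bae97593) (.leaf 0x0)))) (.node (.node (.node (.leaf 0x0) (.leaf 0x0)) (.node (.leaf 0x0) (.leaf 0x0))) (.node (.node (.leaf 0x0) (.leaf 0x144d34dd69d6eb6615)) (.node (.leaf 0x0) (.leaf 0xb1369baebad4b0b3))))))) (.node (.node (.node (.node (.node (.node (.leaf 0x52cb228abad36645) (.leaf 0x0)) (.node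 (.leaf 0x1a76452592c95a65d5) (.leaf 0x296296450b2ebad94))) (.node (.node (.leaf 0x0) (.leaf 0x522aeb2dbacb4)) (.node (.leaf 0x0) (.leaf 0x0)))) (.node (.node (.node (.leaf 0x0) (.leaf 0x0)) (.node (.leaf 0x0) (.leaf 0x0))) (.node (.node (.leaf 0x0) (.leaf 0x0)) (.node (.leaf 0x0) (.leaf 0x0))))) (.node (.node (.node (.node (.leaf 0x0) (.leaf 0x0)) (.node (.leaf 0x0) (.leaf 0x0))) (.node (.node (.leaf 0x0) (.leaf 0x6ab52c50baeb3294)) (.node (.leaf 0x0) (.leaf 0x0)))) (.node (.node (.node (.leaf 0x0) (.leaf 0x13b228ac89b52992c3)) (.node (.leaf 0x0) (.leaf 0x0))) (.node (.node (.leaf 0x14564514aec964ad44) (.leaf 0x12c9159658a4b255)) (.node (.leaf 0x0) (.leaf 0x0)))))) (.node (.node (.node (.node (.node (.leaf 0x0) (.leaf 0x4dab1430bacc2)) (.node (.leaf 0x0) (.leaf 0x0))) (.node (.node (.leaf 0x16496275bb2c2cc4) (.leaf 0x0)) (.node (.leaf 0x0) (.leaf 0x0)))) (.node (.node (.node (.leaf 0x0) (.leaf 0x0)) (.node (.leaf 0x0) (.leaf 0x0)))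 (.node (.node (.leaf 0x0) (.leaf 0x0)) (.node (.leaf 0xecb2596430baec3) (.leaf 0x0))))) (.node (.node (.node (.node (.leaf 0x0) (.leaf 0x0)) (.node (.leaf 0x0) (.leaf 0x0))) (.node (.node (.leaf 0x0) (.leaf 0x2b226eb75bad97615)) (.node (.leaf 0x0) (.leaf 0x0)))) (.node (.node (.node (.leaf 0x0) (.leaf 0x0)) (.node (.leaf 0x0) (.leaf 0x0))) (.node (.node (.leaf 0x0) (.leaf 0x0)) (.node (.leaf 0x0) (.leaf 0x0))))))))

/-- part of class and conjugating word of each involution -/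
def witT1 : Trie :=
  (.node (.node (.node (.node (.node (.node (.node (.leaf 0x52c564b2432c30b4) (.leaf 0x0)) (.node (.leaf 0x0) (.leaf 0x0))) (.node (.node (.leaf 0x0) (.leaf 0x0)) (.node (.leaf 0x0) (.leaf 0x0)))) (.node (.node (.node (.leaf 0x0) (.leaf 0x0)) (.node (.leaf 0x0) (.leaf 0x0))) (.node (.node (.leaf 0x0) (.leaf 0x0)) (.node (.leaf 0x0) (.leaf 0x0))))) (.node (.node (.node (.node (.leaf 0x6ab50c965964b2b3) (.leaf 0x3ada914b2c4d974c3)) (.node (.leaf 0x0) (.leaf 0x0))) (.node (.node (.leaf 0x0) (.leaf 0x0)) (.node (.leaf 0x0) (.leaf 0x0)))) (.node (.node (.node (.leaf 0x0) (.leaf 0x0)) (.node (.leaf 0x0) (.leaf 0x0))) (.node (.node (.leaf 0x0) (.leaf 0x24ebaec96592b5)) (.node (.leaf 0x0) (.leaf 0x0)))))) (.node (.node (.node (.node (.node (.leaf 0x0) (.leaf 0x0)) (.node (.leaf 0x0) (.leaf 0x0))) (.node (.node (.leaf 0x0) (.leaf 0x0)) (.node (.leaf 0x0) (.leaf 0x0)))) (.node (.node (.node (.leaf 0x0) (.leaf 0x0)) (.node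 (.leaf 0x0) (.leaf 0x0))) (.node (.node (.leaf 0x0) (.leaf 0x0)) (.node (.leaf 0x145136a292a92c2db3) (.leaf 0x0))))) (.node (.node (.node (.node (.leaf 0x0) (.leaf 0x0)) (.node (.leaf 0x0) (.leaf 0x0))) (.node (.node (.leaf 0x0) (.leaf 0x48a451369d4d96615)) (.node (.leaf 0x0) (.leaf 0x0)))) (.node (.node (.node (.leaf 0x0) (.leaf 0x6d5962b24aeb7532)) (.node (.leaf 0x0) (.leaf 0x0))) (.node (.node (.leaf 0x13764b2590c95d65d5) (.leaf 0x0)) (.node (.leaf 0x0) (.leaf 0x491451575bb216642))))))) (.node (.node (.node (.node (.node (.node (.leaf 0x0) (.leaf 0x0)) (.node (.leaf 0x0) (.leaf 0x0))) (.node (.node (.leaf 0x0) (.leaf 0x0)) (.node (.leaf 0x0) (.leaf 0x0)))) (.node (.node (.node (.leaf 0x4b2275d2db2dd2) (.leaf 0x0)) (.node (.leaf 0x0) (.leaf 0xaecb226d365b74c5))) (.node (.node (.leaf 0x0) (.leaf 0x0)) (.node (.leaf 0x0) (.leaf 0x0))))) (.node (.node (.node (.node (.leaf 0x0) (.leaf 0x0)) (.node (.leaf 0x0) (.leaf 0x0))) (.node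 (.node (.leaf 0x0) (.leaf 0x0)) (.node (.leaf 0x0) (.leaf 0x0)))) (.node (.node (.node (.leaf 0x1134d4b2292b2eb5) (.leaf 0x0)) (.node (.leaf 0x0) (.leaf 0x95b52b75bb2caa45))) (.node (.node (.leaf 0x0) (.leaf 0x0)) (.node (.leaf 0x0) (.leaf 0x0)))))) (.node (.node (.node (.node (.node (.leaf 0x0) (.leaf 0x0)) (.node (.leaf 0x0) (.leaf 0x0))) (.node (.node (.leaf 0x0) (.leaf 0x0)) (.node (.leaf 0x0) (.leaf 0x29228a5964b2165d5)))) (.node (.node (.node (.leaf 0x0) (.leaf 0x0)) (.node (.leaf 0x0) (.leaf 0x0))) (.node (.node (.leaf 0x0) (.leaf 0x11369b4eb55bb2cb145)) (.node (.leaf 0x0) (.leaf 0x0))))) (.node (.node (.node (.node (.leaf 0x0) (.leaf 0x0)) (.node (.leaf 0x0) (.leaf 0x4da8acb0b75b2cc5))) (.node (.node (.leaf 0x0) (.leaf 0x0)) (.node (.leaf 0x0) (.leaf 0x1)))) (.node (.node (.node (.leaf 0x0) (.leaf 0x0)) (.node (.leaf 0x0) (.leaf 0x29229158a44ebadd5))) (.node (.node (.leaf 0x0) (.leaf 0x0)) (.node (.leaf 0x0) (.leaf 0x124b24b2c2db30c3))))))))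

/-- part of class and conjugating word of each involution -/
def witT9 : Trie :=
  (.node (.node (.node (.node (.node (.node (.node (.leaf 0x55b4ec90cad96613) (.leaf 0x0)) (.node (.leaf 0x0) (.leaf 0x0))) (.node (.node (.leaf 0x89d92c5259297595) (.leaf 0x0)) (.node (.leaf 0x0) (.leaf 0x0)))) (.node (.node (.node (.leaf 0x0) (.leaf 0x0)) (.node (.leaf 0x0) (.leaf 0x0))) (.node (.node (.leaf 0x0) (.leaf 0x0)) (.node (.leaf 0x0) (.leaf 0x0))))) (.node (.node (.node (.node (.leaf 0x0) (.leaf 0x0)) (.node (.leaf 0x0) (.leaf 0x0))) (.node (.node (.leaf 0x0) (.leaf 0x0)) (.node (.leaf 0x0) (.leaf 0x0)))) (.node (.node (.node (.leaf 0x0) (.leaf 0xa26a5965913a5d2)) (.node (.leaf 0x0) (.leaf 0x0))) (.node (.node (.leaf 0x0) (.leaf 0x0)) (.node (.leaf 0x0) (.leaf 0x0)))))) (.node (.node (.node (.node (.node (.leaf 0x0) (.leaf 0x0)) (.node (.leaf 0x0) (.leaf 0x0))) (.node (.node (.leaf 0x28a489bb2b75b4) (.leaf 0x0)) (.node (.leaf 0x0) (.leaf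 0x0)))) (.node (.node (.node (.leaf 0x0) (.leaf 0x0)) (.node (.leaf 0x0) (.leaf 0x0))) (.node (.node (.leaf 0x1ab2c522aebad48655) (.leaf 0x0)) (.node (.leaf 0x0) (.leaf 0x0))))) (.node (.node (.node (.node (.leaf 0x0) (.leaf 0x0)) (.node (.leaf 0x0) (.leaf 0x145144ec90badd90b5))) (.node (.node (.leaf 0x0) (.leaf 0x0)) (.node (.leaf 0x0) (.leaf 0x0)))) (.node (.node (.node (.leaf 0x0) (.leaf 0x0)) (.node (.leaf 0x0) (.leaf 0x0))) (.node (.node (.leaf 0x0) (.leaf 0x0)) (.node (.leaf 0x0) (.leaf 0x589b4ecb2589b3))))))) (.node (.node (.node (.node (.node (.node (.leaf 0x256ac8a2aeb6e99615) (.leaf 0x0)) (.node (.leaf 0x0) (.leaf 0x0))) (.node (.node (.leaf 0x0) (.leaf 0x0)) (.node (.leaf 0x0) (.leaf 0x0)))) (.node (.node (.node (.leaf 0x0) (.leaf 0x0)) (.node (.leaf 0x26d375d96292c9652) (.leaf 0x256eb76452cb0b2e95))) (.node (.node (.leaf 0x0) (.leaf 0x0)) (.node (.leaf 0x0) (.leaf 0x0))))) (.node (.node (.node (.node (.leaf 0x0) (.leaf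 0x0)) (.node (.leaf 0x0) (.leaf 0x0))) (.node (.node (.leaf 0x0) (.leaf 0x2b2b75d9659654)) (.node (.leaf 0x0) (.leaf 0x0)))) (.node (.node (.node (.leaf 0x0) (.leaf 0x0)) (.node (.leaf 0x0) (.leaf 0x0))) (.node (.node (.leaf 0x0) (.leaf 0x0)) (.node (.leaf 0x0) (.leaf 0x0)))))) (.node (.node (.node (.node (.node (.leaf 0x44da9144eb2db2dd5) (.leaf 0x0)) (.node (.leaf 0x0) (.leaf 0x0))) (.node (.node (.leaf 0x4eb4dd6ebadbadb5) (.leaf 0x0)) (.node (.leaf 0x1d6ab4dd6ab32595b3) (.leaf 0x0)))) (.node (.node (.node (.leaf 0x0) (.leaf 0x0)) (.node (.leaf 0x0) (.leaf 0x0))) (.node (.node (.leaf 0x0) (.leaf 0x0)) (.node (.leaf 0x145648a59616596cc3) (.leaf 0x0))))) (.node (.node (.node (.node (.leaf 0x0) (.leaf 0x0)) (.node (.leaf 0x0) (.leaf 0x0))) (.node (.node (.leaf 0x0) (.leaf 0x0)) (.node (.leaf 0x0) (.leaf 0x0)))) (.node (.node (.node (.leaf 0x0) (.leaf 0x0)) (.node (.leaf 0x0) (.leaf 0x4ebb2289975d74b5))) (.node (.node (.leaf 0x0)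 (.leaf 0x2ad36a44cbae97595)) (.node (.leaf 0x0) (.leaf 0x0))))))))

/-- part of class and conjugating word of each involution -/
def witT5 : Trie :=
  (.node (.node (.node (.node (.node (.node (.node (.leaf 0x0) (.leaf 0x0)) (.node (.leaf 0x0) (.leaf 0x0))) (.node (.node (.leaf 0x0) (.leaf 0x0)) (.node (.leaf 0x0) (.leaf 0x0)))) (.node (.node (.node (.leaf 0x0) (.leaf 0x0)) (.node (.leaf 0x0) (.leaf 0x0))) (.node (.node (.leaf 0x0) (.leaf 0x0)) (.node (.leaf 0x0) (.leaf 0x0))))) (.node (.node (.node (.node (.leaf 0x0) (.leaf 0x0)) (.node (.leaf 0x0) (.leaf 0x0))) (.node (.node (.leaf 0x0) (.leaf 0x0)) (.node (.leaf 0x0) (.leaf 0x26ac8a4b24aa58655)))) (.node (.node (.node (.leaf 0x0) (.leaf 0x0)) (.node (.leaf 0x0) (.leaf 0x0))) (.node (.node (.leaf 0x0) (.leaf 0x0)) (.node (.leaf 0x0) (.leaf 0x0)))))) (.node (.node (.node (.node (.node (.leaf 0x0) (.leaf 0x0)) (.node (.leaf 0x0) (.leaf 0x2bada6a530ca645))) (.node (.node (.leaf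 0x2c56596269bad495b5) (.leaf 0x0)) (.node (.leaf 0x0) (.leaf 0x0)))) (.node (.node (.node (.leaf 0x0) (.leaf 0x22b24add69d6ec8643)) (.node (.leaf 0x0) (.leaf 0x0))) (.node (.node (.leaf 0x0) (.leaf 0x0)) (.node (.leaf 0x0) (.leaf 0x0))))) (.node (.node (.node (.node (.leaf 0x0) (.leaf 0x0)) (.node (.leaf 0x0) (.leaf 0x0))) (.node (.node (.leaf 0x0) (.leaf 0x0)) (.node (.leaf 0x0) (.leaf 0x0)))) (.node (.node (.node (.leaf 0x0) (.leaf 0x0)) (.node (.leaf 0x0) (.leaf 0x0))) (.node (.node (.leaf 0x12275b5256dd52c5) (.leaf 0x0)) (.node (.leaf 0x0) (.leaf 0x0))))))) (.node (.node (.node (.node (.node (.node (.leaf 0x0) (.leaf 0x0)) (.node (.leaf 0x0) (.leaf 0x0))) (.node (.node (.leaf 0x0) (.leaf 0x1226d48a26cc32c2d95)) (.node (.leaf 0x0) (.leaf 0x1b4eb55a6d49656cc5)))) (.node (.node (.node (.leaf 0x0) (.leaf 0x0)) (.node (.leaf 0x0) (.leaf 0x0))) (.node (.node (.leaf 0x0) (.leaf 0x0)) (.node (.leaf 0x0) (.leaf 0x0))))) (.node (.node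 (.node (.node (.leaf 0x0) (.leaf 0x0)) (.node (.leaf 0x0) (.leaf 0x0))) (.node (.node (.leaf 0x0) (.leaf 0x51376489d6cc3255)) (.node (.leaf 0x0) (.leaf 0x2269d75d6a4adb4cc5)))) (.node (.node (.node (.leaf 0x0) (.leaf 0x0)) (.node (.leaf 0x0) (.leaf 0x0))) (.node (.node (.leaf 0x0) (.leaf 0x0)) (.node (.leaf 0x0) (.leaf 0x0)))))) (.node (.node (.node (.node (.node (.leaf 0x0) (.leaf 0xa44ebad375d6eb2)) (.node (.leaf 0x0) (.leaf 0xa489a92592a92cb0c4))) (.node (.node (.leaf 0x0) (.leaf 0x0)) (.node (.leaf 0x0) (.leaf 0x0)))) (.node (.node (.node (.leaf 0x0) (.leaf 0x0)) (.node (.leaf 0x0) (.leaf 0x0))) (.node (.node (.leaf 0x158a4b13add6ea6595) (.leaf 0x0)) (.node (.leaf 0x122964acb76430b3) (.leaf 0x0))))) (.node (.node (.node (.node (.leaf 0x0) (.leaf 0x0)) (.node (.leaf 0x0) (.leaf 0x0))) (.node (.node (.leaf 0x0) (.leaf 0x0)) (.node (.leaf 0x0) (.leaf 0x0)))) (.node (.node (.node (.leaf 0x0) (.leaf 0x0)) (.node (.leaf 0x0) (.leaf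 0x0))) (.node (.node (.leaf 0x0) (.leaf 0x0)) (.node (.leaf 0x0) (.leaf 0x0))))))))

/-- part of class and conjugating word of each involution -/
def witT13 : Trie :=
  (.node (.node (.node (.node (.node (.node (.node (.leaf 0x0) (.leaf 0x0)) (.node (.leaf 0x0) (.leaf 0x0))) (.node (.node (.leaf 0x452c514b216cba5d5) (.leaf 0x0)) (.node (.leaf 0x0) (.leaf 0x28a4b2cb2a6ec4)))) (.node (.node (.node (.leaf 0x0) (.leaf 0x0)) (.node (.leaf 0x0) (.leaf 0x0))) (.node (.node (.leaf 0x0) (.leaf 0x0)) (.node (.leaf 0x0) (.leaf 0x0))))) (.node (.node (.node (.node (.leaf 0x0) (.leaf 0x0)) (.node (.leaf 0x56d4514b0baec5) (.leaf 0x0))) (.node (.node (.leaf 0x0) (.leaf 0x0)) (.node (.leaf 0xa275b4da6a58657592) (.leaf 0x0)))) (.node (.node (.node (.leaf 0x0) (.leaf 0x0)) (.node (.leaf 0x0) (.leaf 0x0))) (.node (.node (.leaf 0x0) (.leaf 0x0)) (.node (.leaf 0x0) (.leaf 0x0)))))) (.node (.node (.node (.node (.node (.leaf 0x0) (.leaf 0x0)) (.node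 (.leaf 0x0) (.leaf 0x0))) (.node (.node (.leaf 0x0) (.leaf 0x0)) (.node (.leaf 0x0) (.leaf 0x0)))) (.node (.node (.node (.leaf 0x0) (.leaf 0x0)) (.node (.leaf 0x0) (.leaf 0x0))) (.node (.node (.leaf 0x0) (.leaf 0x0)) (.node (.leaf 0x9d75badd2d96e92) (.leaf 0x0))))) (.node (.node (.node (.node (.leaf 0x0) (.leaf 0x0)) (.node (.leaf 0x0) (.leaf 0x0))) (.node (.node (.leaf 0x0) (.leaf 0x0)) (.node (.leaf 0x0) (.leaf 0x0)))) (.node (.node (.node (.leaf 0x0) (.leaf 0x0)) (.node (.leaf 0x0) (.leaf 0x1a92292c56595ba615))) (.node (.node (.leaf 0x0) (.leaf 0x0)) (.node (.leaf 0x28ab69b4ccb2192b3) (.leaf 0x0))))))) (.node (.node (.node (.node (.node (.node (.leaf 0x0) (.leaf 0x0)) (.node (.leaf 0x0) (.leaf 0x0))) (.node (.node (.leaf 0x0) (.leaf 0x0)) (.node (.leaf 0x0) (.leaf 0x0)))) (.node (.node (.node (.leaf 0x0) (.leaf 0x0)) (.node (.leaf 0x0) (.leaf 0x0))) (.node (.node (.leaf 0x0) (.leaf 0x0)) (.node (.leaf 0x0) (.leaf 0x0))))) (.node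 (.node (.node (.node (.leaf 0x0) (.leaf 0x0)) (.node (.leaf 0x0) (.leaf 0x0))) (.node (.node (.leaf 0x0) (.leaf 0x0)) (.node (.leaf 0x55d90baebaec2) (.leaf 0x0)))) (.node (.node (.node (.leaf 0x0) (.leaf 0x0)) (.node (.leaf 0x0) (.leaf 0x0))) (.node (.node (.leaf 0x0) (.leaf 0x0)) (.node (.leaf 0x51489b4eb6ec4dd3) (.leaf 0x0)))))) (.node (.node (.node (.node (.node (.leaf 0x0) (.leaf 0x0)) (.node (.leaf 0x0) (.leaf 0x295b52cb2c4dd2d95))) (.node (.node (.leaf 0x0) (.leaf 0x592cb0c8596cc5)) (.node (.leaf 0x0) (.leaf 0x0)))) (.node (.node (.node (.leaf 0x0) (.leaf 0x0)) (.node (.leaf 0x0) (.leaf 0x0))) (.node (.node (.leaf 0x0) (.leaf 0x0)) (.node (.leaf 0x0) (.leaf 0x0))))) (.node (.node (.node (.node (.leaf 0x0) (.leaf 0x0)) (.node (.leaf 0x134d375b5656dd2d93) (.leaf 0x276592291495badd5))) (.node (.node (.leaf 0x0) (.leaf 0x455a65bb24b259644)) (.node (.leaf 0x0) (.leaf 0x275b51489b66532c3)))) (.node (.node (.node (.leaf 0x0) (.leaf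 0x0)) (.node (.leaf 0x0) (.leaf 0x2ad489bad4b2190c5))) (.node (.node (.leaf 0x0) (.leaf 0x0)) (.node (.leaf 0x0) (.leaf 0x0))))))))

/-- part of class and conjugating word of each involution -/
def witT3 : Trie :=
  (.node (.node (.node (.node (.node (.node (.node (.leaf 0x15d6ec56432595b4) (.leaf 0x0)) (.node (.leaf 0x45134da9256cba595) (.leaf 0x0))) (.node (.node (.leaf 0x0) (.leaf 0x0)) (.node (.leaf 0x0) (.leaf 0x0)))) (.node (.node (.node (.leaf 0x0) (.leaf 0x0)) (.node (.leaf 0x0) (.leaf 0x44d3524b2c52c2d95))) (.node (.node (.leaf 0x0) (.leaf 0x0)) (.node (.leaf 0x0) (.leaf 0x0))))) (.node (.node (.node (.node (.leaf 0x0) (.leaf 0x0)) (.node (.leaf 0x0) (.leaf 0x0))) (.node (.node (.leaf 0x29656d4b24add6dd5) (.leaf 0x0)) (.node (.leaf 0x0) (.leaf 0x0)))) (.node (.node (.node (.leaf 0x0) (.leaf 0x48ac96592a9592)) (.node (.leaf 0x0) (.leaf 0x0))) (.node (.node (.leaf 0x0) (.leaf 0x0)) (.node (.leaf 0x0) (.leaf 0x0)))))) (.node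 (.node (.node (.node (.node (.leaf 0x0) (.leaf 0x0)) (.node (.leaf 0x0) (.leaf 0x0))) (.node (.node (.leaf 0x2b2bad4b142eb32c4) (.leaf 0x0)) (.node (.leaf 0x0) (.leaf 0x0)))) (.node (.node (.node (.leaf 0x0) (.leaf 0x0)) (.node (.leaf 0x0) (.leaf 0x0))) (.node (.node (.leaf 0x226a489aada964a615) (.leaf 0x9b51596590b2ec5)) (.node (.leaf 0x0) (.leaf 0x0))))) (.node (.node (.node (.node (.leaf 0x0) (.leaf 0x0)) (.node (.leaf 0x0) (.leaf 0x0))) (.node (.node (.leaf 0x26d48a26ab7645214) (.leaf 0x0)) (.node (.leaf 0x0) (.leaf 0x0)))) (.node (.node (.node (.leaf 0x0) (.leaf 0x0)) (.node (.leaf 0x0) (.leaf 0x0))) (.node (.node (.leaf 0x0) (.leaf 0x0)) (.node (.leaf 0x0) (.leaf 0x0))))))) (.node (.node (.node (.node (.node (.node (.leaf 0x0) (.leaf 0x0)) (.node (.leaf 0x0) (.leaf 0x0))) (.node (.node (.leaf 0x0) (.leaf 0x0)) (.node (.leaf 0x0) (.leaf 0x0)))) (.node (.node (.node (.leaf 0x0) (.leaf 0x0)) (.node (.leaf 0x0) (.leaf 0xac8a44ec9298659294)))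 (.node (.node (.leaf 0x0) (.leaf 0x0)) (.node (.leaf 0x0) (.leaf 0x0))))) (.node (.node (.node (.node (.leaf 0x0) (.leaf 0x0)) (.node (.leaf 0x0) (.leaf 0x0))) (.node (.node (.leaf 0x0) (.leaf 0x0)) (.node (.leaf 0x0) (.leaf 0x0)))) (.node (.node (.node (.leaf 0xd492cb22acbadd85b5) (.leaf 0x0)) (.node (.leaf 0x0) (.leaf 0x0))) (.node (.node (.leaf 0x0) (.leaf 0x13b2b6a4b257595)) (.node (.leaf 0x0) (.leaf 0x0)))))) (.node (.node (.node (.node (.node (.leaf 0x0) (.leaf 0x0)) (.node (.leaf 0x2cb148abadd65d5) (.leaf 0x0))) (.node (.node (.leaf 0x0) (.leaf 0x0)) (.node (.leaf 0x0) (.leaf 0x0)))) (.node (.node (.node (.leaf 0x0) (.leaf 0x0)) (.node (.leaf 0x0) (.leaf 0x0))) (.node (.node (.leaf 0x0) (.leaf 0x0)) (.node (.leaf 0x0) (.leaf 0x0))))) (.node (.node (.node (.node (.leaf 0x0) (.leaf 0x0)) (.node (.leaf 0x0) (.leaf 0x0))) (.node (.node (.leaf 0x0) (.leaf 0x0)) (.node (.leaf 0x3aeb6a56eb4cba612) (.leaf 0x0)))) (.node (.node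 (.node (.leaf 0x0) (.leaf 0x0)) (.node (.leaf 0x0) (.leaf 0x0))) (.node (.node (.leaf 0x0) (.leaf 0x0)) (.node (.leaf 0x0) (.leaf 0x0))))))))

/-- part of class and conjugating word of each involution -/
def witT11 : Trie :=
  (.node (.node (.node (.node (.node (.node (.node (.leaf 0x0) (.leaf 0x0)) (.node (.leaf 0x9bad59142ebaeb5) (.leaf 0x0))) (.node (.node (.leaf 0x145226d34dd4db30b5) (.leaf 0x0)) (.node (.leaf 0x0) (.leaf 0x1451596285b2e94)))) (.node (.node (.node (.leaf 0x0) (.leaf 0x0)) (.node (.leaf 0x0) (.leaf 0x0))) (.node (.node (.leaf 0x0) (.leaf 0x0)) (.node (.leaf 0x0) (.leaf 0x0))))) (.node (.node (.node (.node (.leaf 0x0) (.leaf 0x0)) (.node (.leaf 0x0) (.leaf 0x0))) (.node (.node (.leaf 0x0) (.leaf 0x0)) (.node (.leaf 0x1352c4d575d6da92c2) (.leaf 0x0)))) (.node (.node (.node (.leaf 0x0) (.leaf 0x0)) (.node (.leaf 0x0) (.leaf 0x0))) (.node (.node (.leaf 0x0) (.leaf 0x0)) (.node (.leaf 0x9b52c5658a592b7613) (.leaf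 0x0)))))) (.node (.node (.node (.node (.node (.leaf 0x0) (.leaf 0x0)) (.node (.leaf 0x0) (.leaf 0x592275b4eb76265b5))) (.node (.node (.leaf 0x0) (.leaf 0x0)) (.node (.leaf 0x0) (.leaf 0x0)))) (.node (.node (.node (.leaf 0x0) (.leaf 0x0)) (.node (.leaf 0x0) (.leaf 0x0))) (.node (.node (.leaf 0x0) (.leaf 0x0)) (.node (.leaf 0x0) (.leaf 0x0))))) (.node (.node (.node (.node (.leaf 0x0) (.leaf 0x0)) (.node (.leaf 0x0) (.leaf 0x92592275bada7595))) (.node (.node (.leaf 0x0) (.leaf 0xd5764524aea8615)) (.node (.leaf 0x0) (.leaf 0x0)))) (.node (.node (.node (.leaf 0x0) (.leaf 0x0)) (.node (.leaf 0x0) (.leaf 0x0))) (.node (.node (.leaf 0x0) (.leaf 0x0)) (.node (.leaf 0x0) (.leaf 0x0))))))) (.node (.node (.node (.node (.node (.node (.leaf 0x0) (.leaf 0x0)) (.node (.leaf 0x0) (.leaf 0x0))) (.node (.node (.leaf 0x0) (.leaf 0x5)) (.node (.leaf 0x0) (.leaf 0x0)))) (.node (.node (.node (.leaf 0x0) (.leaf 0x0)) (.node (.leaf 0x0) (.leaf 0x0)))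 (.node (.node (.leaf 0x0) (.leaf 0x0)) (.node (.leaf 0x0) (.leaf 0x0))))) (.node (.node (.node (.node (.leaf 0x0) (.leaf 0x0)) (.node (.leaf 0x0) (.leaf 0x0))) (.node (.node (.leaf 0x0) (.leaf 0x136a292b765964ada5)) (.node (.leaf 0x0) (.leaf 0x0)))) (.node (.node (.node (.leaf 0x0) (.leaf 0x0)) (.node (.leaf 0x0) (.leaf 0x0))) (.node (.node (.leaf 0x148a28a4b296ecb255) (.leaf 0x0)) (.node (.leaf 0x0) (.leaf 0x0)))))) (.node (.node (.node (.node (.node (.leaf 0x0) (.leaf 0x0)) (.node (.leaf 0x2b24aeb7544) (.leaf 0x296452575b32c8645))) (.node (.node (.leaf 0x136a275d2db2eb5) (.leaf 0x0)) (.node (.leaf 0x0) (.leaf 0x34d4b2c8a594b5)))) (.node (.node (.node (.leaf 0x0) (.leaf 0x0)) (.node (.leaf 0x0) (.leaf 0x0))) (.node (.node (.leaf 0x6a275badd6cb32c5) (.leaf 0x524b2c95bb0c9645)) (.node (.leaf 0x0) (.leaf 0x0))))) (.node (.node (.node (.node (.leaf 0x0) (.leaf 0x0)) (.node (.leaf 0x0) (.leaf 0x0))) (.node (.node (.leaf 0x0) (.leaf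 0x0)) (.node (.leaf 0x159644eb4cc8616cc3) (.leaf 0x0)))) (.node (.node (.node (.leaf 0x0) (.leaf 0x0)) (.node (.leaf 0x0) (.leaf 0x0))) (.node (.node (.leaf 0x0) (.leaf 0x0)) (.node (.leaf 0x0) (.leaf 0x0))))))))

/-- part of class and conjugating word of each involution -/
def witT7 : Trie :=
  (.node (.node (.node (.node (.node (.node (.node (.leaf 0x0) (.leaf 0x0)) (.node (.leaf 0x134dab1455b75d6ea4) (.leaf 0x148a296495bb0cb255))) (.node (.node (.leaf 0x0) (.leaf 0x0)) (.node (.leaf 0x0) (.leaf 0x0)))) (.node (.node (.node (.leaf 0x0) (.leaf 0x0)) (.node (.leaf 0x0) (.leaf 0x52c96292cb1494b5))) (.node (.node (.leaf 0x0) (.leaf 0x4ec9629656da8655)) (.node (.leaf 0x0) (.leaf 0x0))))) (.node (.node (.node (.node (.leaf 0x0) (.leaf 0x0)) (.node (.leaf 0x0) (.leaf 0x0))) (.node (.node (.leaf 0x0) (.leaf 0x5228a495992b75b4)) (.node (.leaf 0x0) (.leaf 0x0)))) (.node (.node (.node (.leaf 0x0) (.leaf 0x0)) (.node (.leaf 0x137648a43299653)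 (.leaf 0x0))) (.node (.node (.leaf 0x0) (.leaf 0x0)) (.node (.leaf 0x124aec96430b7592) (.leaf 0x0)))))) (.node (.node (.node (.node (.node (.leaf 0x0) (.leaf 0x0)) (.node (.leaf 0x0) (.leaf 0x0))) (.node (.node (.leaf 0x0) (.leaf 0x0)) (.node (.leaf 0x0) (.leaf 0x0)))) (.node (.node (.node (.leaf 0x0) (.leaf 0x0)) (.node (.leaf 0x0) (.leaf 0x0))) (.node (.node (.leaf 0x0) (.leaf 0x122b2290c86532c5)) (.node (.leaf 0x6d44dd6ac964b222) (.leaf 0x0))))) (.node (.node (.node (.node (.leaf 0x0) (.leaf 0x0)) (.node (.leaf 0x0) (.leaf 0xd58a590c30c5))) (.node (.node (.leaf 0x0) (.leaf 0x2489a92c4eb75d6595)) (.node (.leaf 0x0) (.leaf 0x0)))) (.node (.node (.node (.leaf 0x0) (.leaf 0x0)) (.node (.leaf 0x0) (.leaf 0x0))) (.node (.node (.leaf 0x0) (.leaf 0x0)) (.node (.leaf 0x0) (.leaf 0x0))))))) (.node (.node (.node (.node (.node (.node (.leaf 0x0) (.leaf 0x0)) (.node (.leaf 0x0) (.leaf 0x0))) (.node (.node (.leaf 0x0) (.leaf 0x0)) (.node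 (.leaf 0x0) (.leaf 0x0)))) (.node (.node (.node (.leaf 0x0) (.leaf 0x0)) (.node (.leaf 0x0) (.leaf 0x0))) (.node (.node (.leaf 0x16269b52b75d9535) (.leaf 0x0)) (.node (.leaf 0x0) (.leaf 0x0))))) (.node (.node (.node (.node (.leaf 0x0) (.leaf 0x0)) (.node (.leaf 0x0) (.leaf 0x0))) (.node (.node (.leaf 0x0) (.leaf 0x0)) (.node (.leaf 0x0) (.leaf 0x0)))) (.node (.node (.node (.leaf 0x0) (.leaf 0x0)) (.node (.leaf 0x158a26a592a7593) (.leaf 0x0))) (.node (.node (.leaf 0x0) (.leaf 0x0)) (.node (.leaf 0x0) (.leaf 0x0)))))) (.node (.node (.node (.node (.node (.leaf 0x0) (.leaf 0x0)) (.node (.leaf 0x0) (.leaf 0x0))) (.node (.node (.leaf 0xb2b75bad992c5) (.leaf 0x0)) (.node (.leaf 0x0) (.leaf 0xa4b1596269d6d3a5d5)))) (.node (.node (.node (.leaf 0x0) (.leaf 0x0)) (.node (.leaf 0x0) (.leaf 0x0))) (.node (.node (.leaf 0x0) (.leaf 0x0)) (.node (.leaf 0x0) (.leaf 0x4ada8a29656d98593))))) (.node (.node (.node (.node (.leaf 0x0) (.leaf 0x0)) (.node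 (.leaf 0x0) (.leaf 0x0))) (.node (.node (.leaf 0x0) (.leaf 0x0)) (.node (.leaf 0x0) (.leaf 0x0)))) (.node (.node (.node (.leaf 0x45144eb4dd6da6645) (.leaf 0x0)) (.node (.leaf 0x0) (.leaf 0x36ab75a92b75b75b5))) (.node (.node (.leaf 0x44da6d5764b2992c5) (.leaf 0x0)) (.node (.leaf 0x0) (.leaf 0x0))))))))

/-- part of class and conjugating word of each involution -/
def witT15 : Trie :=
  (.node (.node (.node (.node (.node (.node (.node (.leaf 0x0) (.leaf 0x0)) (.node (.leaf 0x0) (.leaf 0x0))) (.node (.node (.leaf 0x0) (.leaf 0x0)) (.node (.leaf 0x0) (.leaf 0x0)))) (.node (.node (.node (.leaf 0x495ab24aebad974c3) (.leaf 0x0)) (.node (.leaf 0x0) (.leaf 0x0))) (.node (.node (.leaf 0x0) (.leaf 0x292269b4cc3252cc5)) (.node (.leaf 0x0) (.leaf 0x0))))) (.node (.node (.node (.node (.leaf 0x0) (.leaf 0x0)) (.node (.leaf 0x0) (.leaf 0x0))) (.node (.node (.leaf 0x0) (.leaf 0x0)) (.node (.leaf 0x0) (.leaf 0x0)))) (.node (.node (.node (.leaf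 0x51492c8ab4d96cb5) (.leaf 0x0)) (.node (.leaf 0x0) (.leaf 0x0))) (.node (.node (.leaf 0x58ac96450bacb7615) (.leaf 0x564b2275b75430c5)) (.node (.leaf 0x0) (.leaf 0x0)))))) (.node (.node (.node (.node (.node (.leaf 0x0) (.leaf 0x0)) (.node (.leaf 0x0) (.leaf 0x0))) (.node (.node (.leaf 0xda6d45228a4b2ca645) (.leaf 0x0)) (.node (.leaf 0x0) (.leaf 0x0)))) (.node (.node (.node (.leaf 0x0) (.leaf 0x0)) (.node (.leaf 0x0) (.leaf 0x0))) (.node (.node (.leaf 0x375b4d58a190c8645) (.leaf 0x59134e96ccb215)) (.node (.leaf 0x0) (.leaf 0x1ab2575d2dd6cb2))))) (.node (.node (.node (.node (.leaf 0x0) (.leaf 0x0)) (.node (.leaf 0x0) (.leaf 0x0))) (.node (.node (.leaf 0x0) (.leaf 0x0)) (.node (.leaf 0x0) (.leaf 0x0)))) (.node (.node (.node (.leaf 0x1d75a6ebacbadbb215) (.leaf 0x49156eb75994cadd2)) (.node (.leaf 0x0) (.leaf 0x0))) (.node (.node (.leaf 0x0) (.leaf 0x2ad4b2575a6658614)) (.node (.leaf 0x0) (.leaf 0x0))))))) (.node (.node (.node (.node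 (.node (.node (.leaf 0x0) (.leaf 0x0)) (.node (.leaf 0x0) (.leaf 0x0))) (.node (.node (.leaf 0x0) (.leaf 0x0)) (.node (.leaf 0x0) (.leaf 0x0)))) (.node (.node (.node (.leaf 0x0) (.leaf 0x0)) (.node (.leaf 0x0) (.leaf 0x0))) (.node (.node (.leaf 0x0) (.leaf 0x0)) (.node (.leaf 0x0) (.leaf 0x0))))) (.node (.node (.node (.node (.leaf 0x0) (.leaf 0x8a2b2c8a5964ae92)) (.node (.leaf 0x75b55d92c4db3293) (.leaf 0x0))) (.node (.node (.leaf 0x0) (.leaf 0x0)) (.node (.leaf 0x0) (.leaf 0x0)))) (.node (.node (.node (.leaf 0x0) (.leaf 0x0)) (.node (.leaf 0x48ac91452cb2165d2) (.leaf 0x0))) (.node (.node (.leaf 0x0) (.leaf 0x0)) (.node (.leaf 0x0) (.leaf 0x0)))))) (.node (.node (.node (.node (.node (.leaf 0x0) (.leaf 0x0)) (.node (.leaf 0x0) (.leaf 0x0))) (.node (.node (.leaf 0x0) (.leaf 0x0)) (.node (.leaf 0x0) (.leaf 0x0)))) (.node (.node (.node (.leaf 0x0) (.leaf 0x0)) (.node (.leaf 0x76175badd75d92b2) (.leaf 0x4d35244dd76590c5))) (.node (.node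 (.leaf 0x0) (.leaf 0x8a59136acb256ec5)) (.node (.leaf 0x0) (.leaf 0x0))))) (.node (.node (.node (.node (.leaf 0x0) (.leaf 0x0)) (.node (.leaf 0x0) (.leaf 0x0))) (.node (.node (.leaf 0x0) (.leaf 0x0)) (.node (.leaf 0x0) (.leaf 0x56a4aeb75b2eb3213)))) (.node (.node (.node (.leaf 0x0) (.leaf 0x0)) (.node (.leaf 0x0) (.leaf 0x0))) (.node (.node (.leaf 0x0) (.leaf 0x0)) (.node (.leaf 0x0) (.leaf 0x0))))))))

/-- class and conjugating word of each involution -/
def witT : Trie :=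
  (.node (.node (.node (.node witT0 witT8) (.node witT4 witT12)) (.node (.node witT2 witT10) (.node witT6 witT14))) (.node (.node (.node witT1 witT9) (.node witT5 witT13)) (.node (.node witT3 witT11) (.node witT7 witT15))))

/-- part of eight conjugates of each outer involution -/
def conjT0 : Trie :=
  (.node (.node (.node (.node (.node (.node (.node (.leaf 0x0) (.leaf 0x0)) (.node (.leaf 0x0) (.leaf 0x0))) (.node (.node (.leaf 0x0) (.leaf 0x0)) (.node (.leaf 0x0) (.leaf 0x0)))) (.node (.node (.node (.leaf 0x0) (.leaf 0x0)) (.node (.leaf 0x0) (.leaf 0x0))) (.node (.node (.leaf 0x0) (.leaf 0x0)) (.node (.leaf 0x0) (.leaf 0x0))))) (.node (.node (.node (.node (.leaf 0x0) (.leaf 0x0)) (.node (.leaf 0x6250000300684000020069900001001370065200109005ef0052c0021800197002070024000000) (.leaf 0x0))) (.node (.node (.leaf 0x0) (.leaf 0x0)) (.node (.leaf 0x0) (.leaf 0x0)))) (.node (.node (.node (.leaf 0x0) (.leaf 0x0)) (.node (.leaf 0x0) (.leaf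 0x65200017005ef00004006930013e0073c0002000232000020064a0000100716005ef006c000000))) (.node (.node (.leaf 0x0) (.leaf 0x0)) (.node (.leaf 0x0) (.leaf 0x0)))))) (.node (.node (.node (.node (.node (.leaf 0x0) (.leaf 0x0)) (.node (.leaf 0x0) (.leaf 0x0))) (.node (.node (.leaf 0x0) (.leaf 0x0)) (.node (.leaf 0x0) (.leaf 0x5c1000170058200004006bf0015a00124000200010a00002006aa0000100683002070072000000)))) (.node (.node (.node (.leaf 0x0) (.leaf 0x0)) (.node (.leaf 0x0) (.leaf 0x0))) (.node (.node (.leaf 0x587000030021000002000ef00001007220065200696005ef0051200218006ac00207001a000000) (.leaf 0x0)) (.node (.leaf 0x0) (.leaf 0x0))))) (.node (.node (.node (.node (.leaf 0x0) (.leaf 0x0)) (.node (.leaf 0x0) (.leaf 0x0))) (.node (.node (.leaf 0x0) (.leaf 0x0)) (.node (.leaf 0x0) (.leaf 0x0)))) (.node (.node (.node (.leaf 0x0) (.leaf 0x0)) (.node (.leaf 0x0) (.leaf 0x0))) (.node (.node (.leaf 0x0) (.leaf 0x0)) (.node (.leaf 0x0) (.leaf 0x0)))))))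 (.node (.node (.node (.node (.node (.node (.leaf 0x0) (.leaf 0x0)) (.node (.leaf 0x24e000030055b000020063b00001005af0065200671005ef001db00218006ed002070021000000) (.leaf 0x0))) (.node (.node (.leaf 0x0) (.leaf 0x0)) (.node (.leaf 0x0) (.leaf 0x0)))) (.node (.node (.node (.leaf 0x0) (.leaf 0x0)) (.node (.leaf 0x0) (.leaf 0x0))) (.node (.node (.leaf 0x73400003001e200002005b1000010068c0065200226005ef005d30021800644002070019000000) (.leaf 0x0)) (.node (.leaf 0x0) (.leaf 0x0))))) (.node (.node (.node (.node (.leaf 0x0) (.leaf 0x0)) (.node (.leaf 0x0) (.leaf 0x0))) (.node (.node (.leaf 0x0) (.leaf 0x547000ff005590014f0055e000170059a000040054e0013e006350000100534002070055000000)) (.node (.leaf 0x0) (.leaf 0x0)))) (.node (.node (.node (.leaf 0x0) (.leaf 0x0)) (.node (.leaf 0x0) (.leaf 0x0))) (.node (.node (.leaf 0x0) (.leaf 0x0)) (.node (.leaf 0x0) (.leaf 0x0)))))) (.node (.node (.node (.node (.node (.leaf 0x5bf0004d0013b00017000d1000040070200020006f9000020010d000010003c005ef0003000000)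 (.leaf 0x0)) (.node (.leaf 0x0) (.leaf 0x1cc000170070b00004002320015a00693000f80064a000020073c0000100129002070063000000))) (.node (.node (.leaf 0x0) (.leaf 0x0)) (.node (.leaf 0x0) (.leaf 0x0)))) (.node (.node (.node (.leaf 0x0) (.leaf 0x0)) (.node (.leaf 0x0) (.leaf 0x0))) (.node (.node (.leaf 0x0) (.leaf 0x0)) (.node (.leaf 0x0) (.leaf 0x0))))) (.node (.node (.node (.node (.leaf 0x0) (.leaf 0x0)) (.node (.leaf 0x0) (.leaf 0x17a000ff001aa0014f001de000430052a000170056a000040061e0000300218000010067000000))) (.node (.node (.leaf 0x0) (.leaf 0x0)) (.node (.leaf 0x0) (.leaf 0x0)))) (.node (.node (.node (.leaf 0x0) (.leaf 0x0)) (.node (.leaf 0x0) (.leaf 0x0))) (.node (.node (.leaf 0x0) (.leaf 0x0)) (.node (.leaf 0x0) (.leaf 0x0))))))))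

/-- part of eight conjugates of each outer involution -/
def conjT8 : Trie :=
  (.node (.node (.node (.node (.node (.node (.node (.leaf 0x0) (.leaf 0x0)) (.node (.leaf 0x0) (.leaf 0x0))) (.node (.node (.leaf 0x0) (.leaf 0x0)) (.node (.leaf 0x0) (.leaf 0x0)))) (.node (.node (.node (.leaf 0x0) (.leaf 0x0)) (.node (.leaf 0x0) (.leaf 0x0))) (.node (.node (.leaf 0x0) (.leaf 0x0)) (.node (.leaf 0x0) (.leaf 0x0))))) (.node (.node (.node (.node (.leaf 0x0) (.leaf 0x0)) (.node (.leaf 0x0) (.leaf 0x0))) (.node (.node (.leaf 0x0) (.leaf 0x0)) (.node (.leaf 0x0) (.leaf 0x0)))) (.node (.node (.node (.leaf 0x0) (.leaf 0x0)) (.node (.leaf 0x0) (.leaf 0x13e003db00163000960057d000090015a00224005b4005ef00001002180059200207006c800000))) (.node (.node (.leaf 0x0) (.leaf 0x0)) (.node (.leaf 0x0) (.leaf 0x0)))))) (.node (.node (.node (.node (.node (.leaf 0x0) (.leaf 0x0)) (.node (.leaf 0x1a600020006f1000020064400001005b100652001cf005ef006670021800734002070022800000)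 (.leaf 0x0))) (.node (.node (.leaf 0x10b0000300699000020022c00001005ee0065200552005ef006ac0021800512002070012800000) (.leaf 0x16c0013f001820014f000030001700166000040023b0013e00252000010051e005ef0052800000)) (.node (.leaf 0x0) (.leaf 0x0)))) (.node (.node (.node (.leaf 0x0) (.leaf 0x0)) (.node (.leaf 0x0) (.leaf 0x0))) (.node (.node (.leaf 0x0) (.leaf 0x0)) (.node (.leaf 0x0) (.leaf 0x0))))) (.node (.node (.node (.node (.leaf 0x0) (.leaf 0x0)) (.node (.leaf 0x0) (.leaf 0x0))) (.node (.node (.leaf 0x143000030017200002000dc00001001250065200732005ef0020600218005ec002070016800000) (.leaf 0x0)) (.node (.leaf 0x0) (.leaf 0x0)))) (.node (.node (.node (.leaf 0x0) (.leaf 0x0)) (.node (.leaf 0x0) (.leaf 0x0))) (.node (.node (.leaf 0x0) (.leaf 0x0)) (.node (.leaf 0x0) (.leaf 0x0))))))) (.node (.node (.node (.node (.node (.node (.leaf 0x0) (.leaf 0x0)) (.node (.leaf 0x56a000ff0052a0014f0061e00043001aa000170017a00004001de0000300670000010021800000)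 (.leaf 0x0))) (.node (.node (.leaf 0x0) (.leaf 0x0)) (.node (.leaf 0x0) (.leaf 0x0)))) (.node (.node (.node (.leaf 0x0) (.leaf 0x0)) (.node (.leaf 0x0) (.leaf 0x0))) (.node (.node (.leaf 0x0) (.leaf 0x0)) (.node (.leaf 0x0) (.leaf 0x0))))) (.node (.node (.node (.node (.leaf 0x0) (.leaf 0x0)) (.node (.leaf 0x0) (.leaf 0x0))) (.node (.node (.leaf 0x51500003001370000200552000010068400652001af005ef0001e00218005a3002070015800000) (.leaf 0x0)) (.node (.leaf 0x0) (.leaf 0x0)))) (.node (.node (.node (.leaf 0x0) (.leaf 0x0)) (.node (.leaf 0x0) (.leaf 0x0))) (.node (.node (.leaf 0x0) (.leaf 0x0)) (.node (.leaf 0x0) (.leaf 0x0)))))) (.node (.node (.node (.node (.node (.leaf 0x0) (.leaf 0x0)) (.node (.leaf 0x0) (.leaf 0x0))) (.node (.node (.leaf 0x0) (.leaf 0x0)) (.node (.leaf 0x0) (.leaf 0x0)))) (.node (.node (.node (.leaf 0x0) (.leaf 0x0)) (.node (.leaf 0x0) (.leaf 0x5420000a005b400004002240013e00123000600070a000010058e005ef0015200207006b800000)))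 (.node (.node (.leaf 0x14a000030012800002005ec00001000dc00652005bb005ef006ed00218001db00207001b800000) (.leaf 0x0)) (.node (.leaf 0x0) (.leaf 0x0))))) (.node (.node (.node (.node (.leaf 0x0) (.leaf 0x0)) (.node (.leaf 0x0) (.leaf 0x0))) (.node (.node (.leaf 0x0) (.leaf 0x0)) (.node (.leaf 0x0) (.leaf 0x0)))) (.node (.node (.node (.leaf 0x0) (.leaf 0x0)) (.node (.leaf 0x0) (.leaf 0x0))) (.node (.node (.leaf 0x0) (.leaf 0x0)) (.node (.leaf 0x0) (.leaf 0x0))))))))

/-- part of eight conjugates of each outer involution -/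
def conjT4 : Trie :=
  (.node (.node (.node (.node (.node (.node (.node (.leaf 0x0) (.leaf 0x0)) (.node (.leaf 0x0) (.leaf 0x0))) (.node (.node (.leaf 0x0) (.leaf 0x0)) (.node (.leaf 0x0) (.leaf 0x0)))) (.node (.node (.node (.leaf 0x0) (.leaf 0x0)) (.node (.leaf 0x0) (.leaf 0x75500003005ec000020071a000010015800652001bb005ef005a40021800172002070068400000))) (.node (.node (.leaf 0x0) (.leaf 0x1390034b0051400096005de0000900555001520056e005ef0050e0021800242002070058400000)) (.node (.leaf 0x0) (.leaf 0x0))))) (.node (.node (.node (.node (.leaf 0x0) (.leaf 0x0)) (.node (.leaf 0x0) (.leaf 0x1cf00020005b1000020022800001006f100652001a6005ef006740021800190002070064400000))) (.node (.node (.leaf 0x0) (.leaf 0x0)) (.node (.leaf 0x0) (.leaf 0x567002a5005160014f0064c000430056b000170051b00004006d10000100746002070074400000)))) (.node (.node (.node (.leaf 0x0) (.leaf 0x0)) (.node (.leaf 0x0) (.leaf 0x0))) (.node (.node (.leaf 0x0) (.leaf 0x0))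 (.node (.leaf 0x0) (.leaf 0x0)))))) (.node (.node (.node (.node (.node (.leaf 0x0) (.leaf 0x0)) (.node (.leaf 0x1520000a0013e00004006b80013e0070a0006000123000010070d005ef00542002070022400000) (.leaf 0x0))) (.node (.node (.leaf 0x66b000170067d00004001e10013e0068300020007200000200222000010010a002070012400000) (.leaf 0x0)) (.node (.leaf 0x0) (.leaf 0x0)))) (.node (.node (.node (.leaf 0x0) (.leaf 0x0)) (.node (.leaf 0x0) (.leaf 0x0))) (.node (.node (.leaf 0x0) (.leaf 0x1af00003006250000200696000010001e0065200515005ef00684002180015c00207005a400000)) (.node (.leaf 0x0) (.leaf 0x0))))) (.node (.node (.node (.node (.leaf 0x0) (.leaf 0x0)) (.node (.leaf 0x0) (.leaf 0x0))) (.node (.node (.leaf 0x0) (.leaf 0x0)) (.node (.leaf 0x0) (.leaf 0x0)))) (.node (.node (.node (.leaf 0x0) (.leaf 0x0)) (.node (.leaf 0x0) (.leaf 0x0))) (.node (.node (.leaf 0x0) (.leaf 0x0)) (.node (.leaf 0x0) (.leaf 0x0))))))) (.node (.node (.node (.node (.node (.node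 (.leaf 0x0) (.leaf 0x0)) (.node (.leaf 0x0) (.leaf 0x0))) (.node (.node (.leaf 0x0) (.leaf 0x584003db005de00096001390000900242002240050e005ef0056e0021800555002070051400000)) (.node (.leaf 0x0) (.leaf 0x0)))) (.node (.node (.node (.leaf 0x0) (.leaf 0x0)) (.node (.leaf 0x0) (.leaf 0x0))) (.node (.node (.leaf 0x0) (.leaf 0x0)) (.node (.leaf 0x0) (.leaf 0x0))))) (.node (.node (.node (.node (.leaf 0x0) (.leaf 0x0)) (.node (.leaf 0x0) (.leaf 0x0))) (.node (.node (.leaf 0x0) (.leaf 0x0)) (.node (.leaf 0x0) (.leaf 0x0)))) (.node (.node (.node (.leaf 0x0) (.leaf 0x0)) (.node (.leaf 0x0) (.leaf 0x64600009001a3000ce0073100003005a700652005cf005ef00233002180071500207006d400000))) (.node (.node (.leaf 0x0) (.leaf 0x0)) (.node (.leaf 0x0) (.leaf 0x0)))))) (.node (.node (.node (.node (.node (.leaf 0x1db00003001a00000200019000010067100652005af005ef0024e002180014a002070003400000) (.leaf 0x0)) (.node (.leaf 0x0) (.leaf 0x0))) (.node (.node (.leaf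 0x0) (.leaf 0x55e000ff0059a0014f00547000170055900004006350013e0054e0000100550002070053400000)) (.node (.leaf 0x0) (.leaf 0x190000030022600002006f1000010072e00652001e2005ef006070021800228002070073400000)))) (.node (.node (.node (.leaf 0x0) (.leaf 0x0)) (.node (.leaf 0x0) (.leaf 0x0))) (.node (.node (.leaf 0x0) (.leaf 0x15a0034b000010009600592000090016300152006c8005ef0013e002180057d00207005b400000)) (.node (.leaf 0x0) (.leaf 0x0))))) (.node (.node (.node (.node (.leaf 0x0) (.leaf 0x0)) (.node (.leaf 0x0) (.leaf 0x6f100020001a6000020066700001001cf00652005b1005ef0064400218005d3002070067400000))) (.node (.node (.leaf 0x0) (.leaf 0x0)) (.node (.leaf 0x0) (.leaf 0x0)))) (.node (.node (.node (.leaf 0x0) (.leaf 0x0)) (.node (.leaf 0x0) (.leaf 0x0))) (.node (.node (.leaf 0x0) (.leaf 0x0)) (.node (.leaf 0x0) (.leaf 0x0))))))))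

/-- part of eight conjugates of each outer involution -/
def conjT12 : Trie :=
  (.node (.node (.node (.node (.node (.node (.node (.leaf 0x0) (.leaf 0x0)) (.node (.leaf 0x0) (.leaf 0x0))) (.node (.node (.leaf 0x0) (.leaf 0x0)) (.node (.leaf 0x0) (.leaf 0x0)))) (.node (.node (.node (.leaf 0x0) (.leaf 0x0)) (.node (.leaf 0x0) (.leaf 0x5d30002000734000020072e00001001900065200607005ef001e200218006f1002070068c00000))) (.node (.node (.leaf 0x0) (.leaf 0x630000170069300004002070013e00652005280053c000ce005ef000020070b000010058c00000)) (.node (.leaf 0x0) (.leaf 0x0))))) (.node (.node (.node (.node (.leaf 0x0) (.leaf 0x0)) (.node (.leaf 0x0) (.leaf 0x516002a5005670014f00744000430051b000170056b000040074600001006d1002070064c00000))) (.node (.node (.leaf 0x0) (.leaf 0x0)) (.node (.leaf 0x0) (.leaf 0x0)))) (.node (.node (.node (.leaf 0x0) (.leaf 0x0)) (.node (.leaf 0x0) (.leaf 0x0))) (.node (.node (.leaf 0x7160001700232000040053c0015a00207000200070b00002005ef000010019c00652001cc00000)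 (.leaf 0x0)) (.node (.leaf 0x0) (.leaf 0x0)))))) (.node (.node (.node (.node (.node (.leaf 0x0) (.leaf 0x0)) (.node (.leaf 0x1e50000300732000020012800001001f70065200172005ef0057e00218001bb002070022c00000) (.leaf 0x0))) (.node (.node (.leaf 0x0) (.leaf 0x5ec00003005a4000020014a0000100019006520063b005ef002400021800143002070052c00000)) (.node (.leaf 0x0) (.leaf 0x22200017006bf000040019a0013e00582000200058f000020066b00001005c1002070072c00000)))) (.node (.node (.node (.leaf 0x0) (.leaf 0x0)) (.node (.leaf 0x0) (.leaf 0x63d000030014a000020057e000010069100652000d3005ef0012800218001a000207006ac00000))) (.node (.node (.leaf 0x0) (.leaf 0x0)) (.node (.leaf 0x0) (.leaf 0x0))))) (.node (.node (.node (.node (.leaf 0x0) (.leaf 0x0)) (.node (.leaf 0x0) (.leaf 0x0))) (.node (.node (.leaf 0x528000ff0051e001510023b0014f00252000040016600020001820000200003002180016c00000) (.leaf 0x0)) (.node (.leaf 0x0) (.leaf 0x0)))) (.node (.node (.node (.leaf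 0x0) (.leaf 0x0)) (.node (.leaf 0x0) (.leaf 0x0))) (.node (.node (.leaf 0x0) (.leaf 0x52c00003001af00002001b800001001090065200137005ef00625002180016800207005ec00000)) (.node (.leaf 0x0) (.leaf 0x0))))))) (.node (.node (.node (.node (.node (.node (.leaf 0x0) (.leaf 0x0)) (.node (.leaf 0x0) (.leaf 0x74500009001a9000ce0066900003005f900652005dc005ef0021e002180073b002070061c00000))) (.node (.node (.leaf 0x0) (.leaf 0x0)) (.node (.leaf 0x0) (.leaf 0x0)))) (.node (.node (.node (.leaf 0x0) (.leaf 0x0)) (.node (.leaf 0x0) (.leaf 0x0))) (.node (.node (.leaf 0x6c0000170073c00004005ef0015a0070b0002000207000020053c00001001cc006520019c00000) (.leaf 0x0)) (.node (.leaf 0x0) (.leaf 0x0))))) (.node (.node (.node (.node (.leaf 0x0) (.leaf 0x0)) (.node (.leaf 0x0) (.leaf 0x0))) (.node (.node (.leaf 0x1f70000300143000020055b00001001e5006520057e005ef0017200218005a4002070015c00000) (.leaf 0x0)) (.node (.leaf 0x0) (.leaf 0x0)))) (.node (.node (.node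 (.leaf 0x5220000300552000020016800001001b80065200699005ef00561002180022a00207000dc00000) (.leaf 0x0)) (.node (.leaf 0x0) (.leaf 0x0))) (.node (.node (.leaf 0x0) (.leaf 0x233000f80071500003001a90000100745006520061c005ef001a3002180073100207005dc00000)) (.node (.leaf 0x0) (.leaf 0x0)))))) (.node (.node (.node (.node (.node (.leaf 0x6f70004d001b5000170003900004006f90002000702000020012f0000100030005ef0003c00000) (.leaf 0x0)) (.node (.leaf 0x0) (.leaf 0x0))) (.node (.node (.leaf 0x0) (.leaf 0x232000170071600004001cc0015a0058c000f800652000020019c00001005ef002070053c00000)) (.node (.leaf 0x0) (.leaf 0x207000170019c00004001290015a0071600020006c000002006300000100232006520073c00000)))) (.node (.node (.node (.leaf 0x0) (.leaf 0x0)) (.node (.leaf 0x0) (.leaf 0x0))) (.node (.node (.leaf 0x0) (.leaf 0x0)) (.node (.leaf 0x0) (.leaf 0x0))))) (.node (.node (.node (.node (.leaf 0x0) (.leaf 0x0)) (.node (.leaf 0x0) (.leaf 0x0))) (.node (.node (.leaf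 0x0) (.leaf 0x0)) (.node (.leaf 0x0) (.leaf 0x0)))) (.node (.node (.node (.leaf 0x0) (.leaf 0x0)) (.node (.leaf 0x0) (.leaf 0x0))) (.node (.node (.leaf 0x0) (.leaf 0x0)) (.node (.leaf 0x0) (.leaf 0x0))))))))

/-- part of eight conjugates of each outer involution -/
def conjT2 : Trie :=
  (.node (.node (.node (.node (.node (.node (.node (.leaf 0x0) (.leaf 0x0)) (.node (.leaf 0x0) (.leaf 0x0))) (.node (.node (.leaf 0x0) (.leaf 0x0)) (.node (.leaf 0x0) (.leaf 0x10d0004d000cf0001700146000040003c000200003000002006f700001006f9002070070200000)))) (.node (.node (.node (.leaf 0x0) (.leaf 0x0)) (.node (.leaf 0x0) (.leaf 0x0))) (.node (.node (.leaf 0x2520013f0023b001510051e0014f00528000040016c00020000030000200166002070018200000) (.leaf 0x124000170072000004002030015a005c1000200072c000020067d000010058f002070058200000)) (.node (.leaf 0x0) (.leaf 0x0))))) (.node (.node (.node (.node (.leaf 0x0) (.leaf 0x0)) (.node (.leaf 0x555003db0050e000960056e000090051400224005de005ef001390021800584002070024200000)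 (.leaf 0x0))) (.node (.node (.leaf 0x0) (.leaf 0x6b80000a00001000040070d000600058e0000300152000010070a005ef00224002070054200000)) (.node (.leaf 0x0) (.leaf 0x7370000a0056e000040024d000600020b00003006da0000100752005ef0062a002070074200000)))) (.node (.node (.node (.leaf 0x0) (.leaf 0x0)) (.node (.leaf 0x0) (.leaf 0x0))) (.node (.node (.leaf 0x0) (.leaf 0x0)) (.node (.leaf 0x0) (.leaf 0x0)))))) (.node (.node (.node (.node (.node (.leaf 0x0) (.leaf 0x0)) (.node (.leaf 0x203000170019a000040010a0013e006aa000ce006bf000020012400001001e1002070022200000) (.leaf 0x0))) (.node (.node (.leaf 0x0) (.leaf 0xdc00003006910000200143000010014a00652006ed005ef005bb0021800671002070052200000)) (.node (.leaf 0x0) (.leaf 0x71a0000300671000020075500001001a0006520055b005ef0053d0021800691002070072200000)))) (.node (.node (.node (.leaf 0x0) (.leaf 0x0)) (.node (.leaf 0x0) (.leaf 0x0))) (.node (.node (.leaf 0x0) (.leaf 0x0)) (.node (.leaf 0x0) (.leaf 0x0)))))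 (.node (.node (.node (.node (.leaf 0x0) (.leaf 0x0)) (.node (.leaf 0x0) (.leaf 0x0))) (.node (.node (.leaf 0x0) (.leaf 0x0)) (.node (.leaf 0x0) (.leaf 0x0)))) (.node (.node (.node (.leaf 0x0) (.leaf 0x0)) (.node (.leaf 0x0) (.leaf 0x0))) (.node (.node (.leaf 0x1900002000607000020022600001005d30065200734005ef0068c00218001cf00207001e200000) (.leaf 0x0)) (.node (.leaf 0x0) (.leaf 0x0))))))) (.node (.node (.node (.node (.node (.node (.leaf 0x0) (.leaf 0x0)) (.node (.leaf 0x0) (.leaf 0x0))) (.node (.node (.leaf 0x0) (.leaf 0x55b00003001db00002001f7000010053d006520071a005ef001a00021800128002070051200000)) (.node (.leaf 0x0) (.leaf 0x0)))) (.node (.node (.node (.leaf 0x0) (.leaf 0x0)) (.node (.leaf 0x0) (.leaf 0x0))) (.node (.node (.leaf 0x0) (.leaf 0x10034b0015a00096005b4000090013e001520057d005ef0016300218006c8002070059200000)) (.node (.leaf 0x0) (.leaf 0x0))))) (.node (.node (.node (.node (.leaf 0x0) (.leaf 0x0)) (.node (.leaf 0x182000ff0016c0014f001660001700003000040051e0013e00528000010023b002070025200000)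 (.leaf 0x129000170064a000040070b0013e0058c00528005ef000ce0053c0000200207000010065200000))) (.node (.node (.leaf 0x2240000a006c8000040058e000600070d00003005420000100123005ef006b8002070015200000) (.leaf 0x69100003005bb0000200158000010063d0065200128005ef000d3002180071a002070055200000)) (.node (.leaf 0x0) (.leaf 0x20b0000a005de00004006870013e0062a00060007370000100742005ef0024d002070075200000)))) (.node (.node (.node (.leaf 0x0) (.leaf 0x0)) (.node (.leaf 0x0) (.leaf 0x0))) (.node (.node (.leaf 0x0) (.leaf 0x0)) (.node (.leaf 0x0) (.leaf 0x0)))))) (.node (.node (.node (.node (.node (.leaf 0x0) (.leaf 0x0)) (.node (.leaf 0x70b00017001cc00004006300015a006c000020007160000200129000010073c006520023200000) (.leaf 0x0))) (.node (.node (.leaf 0x0) (.leaf 0x0)) (.node (.leaf 0x0) (.leaf 0x6fd00003005a300002005da00001001970065200168005ef0062b0021800137002070073200000)))) (.node (.node (.node (.leaf 0x0) (.leaf 0x0)) (.node (.leaf 0x0) (.leaf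 0x0))) (.node (.node (.leaf 0x0) (.leaf 0x0)) (.node (.leaf 0x0) (.leaf 0x0))))) (.node (.node (.node (.node (.leaf 0x0) (.leaf 0x0)) (.node (.leaf 0x0) (.leaf 0x0))) (.node (.node (.leaf 0xef0000300197000020058700001005a3006520022c005ef0015c0021800684002070017200000) (.leaf 0x0)) (.node (.leaf 0x0) (.leaf 0x0)))) (.node (.node (.node (.leaf 0x0) (.leaf 0x0)) (.node (.leaf 0x0) (.leaf 0x0))) (.node (.node (.leaf 0x0) (.leaf 0x0)) (.node (.leaf 0x0) (.leaf 0x0))))))))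

/-- part of eight conjugates of each outer involution -/
def conjT10 : Trie :=
  (.node (.node (.node (.node (.node (.node (.node (.leaf 0x0) (.leaf 0x0)) (.node (.leaf 0x0) (.leaf 0x0))) (.node (.node (.leaf 0x19a000170020300004002220013e00720000200068300002001e10000100124002070010a00000) (.leaf 0x0)) (.node (.leaf 0x0) (.leaf 0x58e0000a0016300004001230013e0022400060006b80000100542005ef0070d002070070a00000)))) (.node (.node (.node (.leaf 0x0) (.leaf 0x0)) (.node (.leaf 0x0) (.leaf 0x0))) (.node (.node (.leaf 0x0) (.leaf 0x0)) (.node (.leaf 0x0) (.leaf 0x0))))) (.node (.node (.node (.node (.leaf 0x0) (.leaf 0x0)) (.node (.leaf 0x0) (.leaf 0x5ef000170065200004007160013e006930052800129000ce0063000002006c0000010064a00000))) (.node (.node (.leaf 0x1b8000030010b000020052c00001005220065200561005ef006990021800034002070014a00000) (.leaf 0x0)) (.node (.leaf 0x0) (.leaf 0x0)))) (.node (.node (.node (.leaf 0x0) (.leaf 0x0)) (.node (.leaf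 0x0) (.leaf 0x0))) (.node (.node (.leaf 0x0) (.leaf 0x0)) (.node (.leaf 0x0) (.leaf 0x0)))))) (.node (.node (.node (.node (.node (.leaf 0x0) (.leaf 0x0)) (.node (.leaf 0x671000030053d000020012500001001db006520024e005ef005af00218000dc002070022a00000) (.leaf 0x6da0000a0058400004007370013e007520006000687000010024d005ef00742002070062a00000))) (.node (.node (.leaf 0x3c000170070200004000d10013e000f7000ce000cf00002000390000100146002180012a00000) (.leaf 0x61e000ff0067000151001de0014f0021800004001aa001520056a000020017a002180052a00000)) (.node (.leaf 0x0) (.leaf 0x0)))) (.node (.node (.node (.leaf 0x0) (.leaf 0x0)) (.node (.leaf 0x0) (.leaf 0x58200017005c100004006830015a00222000f8001e1000020072000001006bf00218006aa00000))) (.node (.node (.leaf 0x1de000ff00218001510061e0014f00670000040052a001520017a000020056a00218001aa00000) (.leaf 0x0)) (.node (.leaf 0x0) (.leaf 0x0))))) (.node (.node (.node (.node (.leaf 0x0) (.leaf 0x0)) (.node (.leaf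 0x0) (.leaf 0x0))) (.node (.node (.leaf 0x0) (.leaf 0x218000ff001de00151006700014f0061e000040017a001520052a00002001aa002180056a00000)) (.node (.leaf 0x0) (.leaf 0x0)))) (.node (.node (.node (.leaf 0x0) (.leaf 0x0)) (.node (.leaf 0x0) (.leaf 0x0))) (.node (.node (.leaf 0x0) (.leaf 0x0)) (.node (.leaf 0x0) (.leaf 0x0))))))) (.node (.node (.node (.node (.node (.node (.leaf 0x0) (.leaf 0x0)) (.node (.leaf 0x0) (.leaf 0x0))) (.node (.node (.leaf 0x0) (.leaf 0x0)) (.node (.leaf 0x0) (.leaf 0x722000030022a000020068400001005870065200512005ef006960021800552002070071a00000)))) (.node (.node (.node (.leaf 0x0) (.leaf 0x0)) (.node (.leaf 0x0) (.leaf 0x0))) (.node (.node (.leaf 0x6bf0001700222000040072c0013e0067d000ce0020300002005c1000010066b002070019a00000) (.leaf 0x54e000ff0063500151005500014f005340000400547000200055e0000200559002180059a00000)) (.node (.leaf 0x0) (.leaf 0x0))))) (.node (.node (.node (.node (.leaf 0x0) (.leaf 0x0)) (.node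 (.leaf 0x0) (.leaf 0x0))) (.node (.node (.leaf 0x592003db005b4000960000100009006c80022400163005ef0057d002180013e002070015a00000) (.leaf 0x0)) (.node (.leaf 0x0) (.leaf 0x0)))) (.node (.node (.node (.leaf 0x0) (.leaf 0x0)) (.node (.leaf 0x0) (.leaf 0x62a0000a00514000040020b000600024d00003007420000100687005ef0073700207006da00000))) (.node (.node (.leaf 0x0) (.leaf 0x5af000030071a0000200732000010024e00652001db005ef0067100218005bb00207005da00000)) (.node (.leaf 0x0) (.leaf 0x0)))))) (.node (.node (.node (.node (.node (.leaf 0x0) (.leaf 0x0)) (.node (.leaf 0x0) (.leaf 0x0))) (.node (.node (.leaf 0x0) (.leaf 0x0)) (.node (.leaf 0x0) (.leaf 0x0)))) (.node (.node (.node (.leaf 0x0) (.leaf 0x0)) (.node (.leaf 0x0) (.leaf 0x0))) (.node (.node (.leaf 0x0) (.leaf 0x0)) (.node (.leaf 0x0) (.leaf 0x0))))) (.node (.node (.node (.node (.leaf 0x0) (.leaf 0x0)) (.node (.leaf 0x0) (.leaf 0x0))) (.node (.node (.leaf 0x670000ff0061e00151002180014f001de000040056a00152001aa000020052a002180017a00000)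 (.leaf 0x0)) (.node (.leaf 0x0) (.leaf 0x0)))) (.node (.node (.node (.leaf 0x0) (.leaf 0x0)) (.node (.leaf 0x0) (.leaf 0x0))) (.node (.node (.leaf 0x0) (.leaf 0x0)) (.node (.leaf 0x0) (.leaf 0x0))))))))

/-- part of eight conjugates of each outer involution -/
def conjT6 : Trie :=
  (.node (.node (.node (.node (.node (.node (.node (.leaf 0x0) (.leaf 0x0)) (.node (.leaf 0x197000030015c000020056100001006fd006520062b005ef001680021800625002070020600000) (.leaf 0x0))) (.node (.node (.leaf 0x0) (.leaf 0x0)) (.node (.leaf 0x0) (.leaf 0x0)))) (.node (.node (.node (.leaf 0x0) (.leaf 0x0)) (.node (.leaf 0x0) (.leaf 0x0))) (.node (.node (.leaf 0x0) (.leaf 0x0)) (.node (.leaf 0x0) (.leaf 0x0))))) (.node (.node (.node (.node (.leaf 0x0) (.leaf 0x0)) (.node (.leaf 0x0) (.leaf 0x6d40000900715000ce0023300003005cf00652005a7005ef0073100218001a3002070064600000))) (.node (.node (.leaf 0x3000017006f900004000390013e000cf000ce000f700002000d1000010012a002180014600000)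 (.leaf 0x0)) (.node (.leaf 0x0) (.leaf 0x56b002a50051b0014f006d100043005670001700516000040064c0000100744002070074600000)))) (.node (.node (.node (.leaf 0x0) (.leaf 0x0)) (.node (.leaf 0x0) (.leaf 0x0))) (.node (.node (.leaf 0x0) (.leaf 0x0)) (.node (.leaf 0x0) (.leaf 0x0)))))) (.node (.node (.node (.node (.node (.leaf 0x0) (.leaf 0x0)) (.node (.leaf 0x73400020005d300002001e200001006070065200190005ef0072e00218001a6002070022600000) (.leaf 0x0))) (.node (.node (.leaf 0x0) (.leaf 0x0)) (.node (.leaf 0x0) (.leaf 0x0)))) (.node (.node (.node (.leaf 0x0) (.leaf 0x0)) (.node (.leaf 0x0) (.leaf 0x0))) (.node (.node (.leaf 0x1cf000030022800002005d300001006670065200644005ef005b1002180022600207001a600000) (.leaf 0x0)) (.node (.leaf 0x0) (.leaf 0x0))))) (.node (.node (.node (.node (.leaf 0x0) (.leaf 0x0)) (.node (.leaf 0x0) (.leaf 0x0))) (.node (.node (.leaf 0x23b0013f0025200151005280014f0051e0000400003000200016c0000200182002070016600000)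 (.leaf 0x0)) (.node (.leaf 0x0) (.leaf 0x0)))) (.node (.node (.node (.leaf 0x0) (.leaf 0x0)) (.node (.leaf 0x0) (.leaf 0x0))) (.node (.node (.leaf 0x0) (.leaf 0x0)) (.node (.leaf 0x0) (.leaf 0x0))))))) (.node (.node (.node (.node (.node (.node (.leaf 0x0) (.leaf 0x0)) (.node (.leaf 0x0) (.leaf 0x0))) (.node (.node (.leaf 0x0) (.leaf 0x64c0028f006d100151007460014f007440000400567000960056b000020051b002070051600000)) (.node (.leaf 0x0) (.leaf 0x58c000170053c000040064a0013e00232000200073c000020069300001006c0005ef0071600000)))) (.node (.node (.node (.leaf 0x0) (.leaf 0x0)) (.node (.leaf 0x0) (.leaf 0x53d00003005af00002005a4000010055b00652001a0005ef0071a00218000d3002070069600000))) (.node (.node (.leaf 0x0) (.leaf 0x0)) (.node (.leaf 0x0) (.leaf 0x0))))) (.node (.node (.node (.node (.leaf 0x0) (.leaf 0x0)) (.node (.leaf 0x0) (.leaf 0x0))) (.node (.node (.leaf 0x0) (.leaf 0x0)) (.node (.leaf 0x0) (.leaf 0x0)))) (.node (.node (.node (.leaf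 0x0) (.leaf 0x0)) (.node (.leaf 0x0) (.leaf 0x0))) (.node (.node (.leaf 0x0) (.leaf 0x0)) (.node (.leaf 0x0) (.leaf 0x0)))))) (.node (.node (.node (.node (.node (.leaf 0x0) (.leaf 0x0)) (.node (.leaf 0x0) (.leaf 0x0))) (.node (.node (.leaf 0x0) (.leaf 0x0)) (.node (.leaf 0x0) (.leaf 0x0)))) (.node (.node (.node (.leaf 0x0) (.leaf 0x0)) (.node (.leaf 0x0) (.leaf 0x0))) (.node (.node (.leaf 0x0) (.leaf 0x0)) (.node (.leaf 0x0) (.leaf 0x0))))) (.node (.node (.node (.node (.leaf 0x0) (.leaf 0x0)) (.node (.leaf 0x0) (.leaf 0x0))) (.node (.node (.leaf 0x0) (.leaf 0x0)) (.node (.leaf 0x0) (.leaf 0x0)))) (.node (.node (.node (.leaf 0x0) (.leaf 0x0)) (.node (.leaf 0x0) (.leaf 0x0))) (.node (.node (.leaf 0x0) (.leaf 0x0)) (.node (.leaf 0x0) (.leaf 0x0))))))))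

/-- part of eight conjugates of each outer involution -/
def conjT14 : Trie :=
  (.node (.node (.node (.node (.node (.node (.node (.leaf 0x0) (.leaf 0x0)) (.node (.leaf 0x0) (.leaf 0x0))) (.node (.node (.leaf 0x0) (.leaf 0x2420034b0056e000960055500009005de0015200514005ef005840021800139002070050e00000)) (.node (.leaf 0x0) (.leaf 0x0)))) (.node (.node (.node (.leaf 0x0) (.leaf 0x0)) (.node (.leaf 0x0) (.leaf 0x0))) (.node (.node (.leaf 0x0) (.leaf 0x70a0000a0057d00004001520006000542000030070d00001006b8005ef00123002070058e00000)) (.node (.leaf 0x0) (.leaf 0x0))))) (.node (.node (.node (.node (.leaf 0x0) (.leaf 0x0)) (.node (.leaf 0x2100000300512000020013700001005da006520022a005ef000340021800699002070024e00000) (.leaf 0x0))) (.node (.node (.leaf 0x0) (.leaf 0x59a0013f0055e0014f00559000170054700004005500013e005340000100635005ef0054e00000)) (.node (.leaf 0x0) (.leaf 0x0)))) (.node (.node (.node (.leaf 0x0) (.leaf 0x0)) (.node (.leaf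 0x0) (.leaf 0x0))) (.node (.node (.leaf 0x0) (.leaf 0x0)) (.node (.leaf 0x0) (.leaf 0x0)))))) (.node (.node (.node (.node (.node (.leaf 0x0) (.leaf 0x0)) (.node (.leaf 0x0) (.leaf 0x0))) (.node (.node (.leaf 0x0) (.leaf 0x0)) (.node (.leaf 0x0) (.leaf 0x6070002000190000020068c000010073400652005d3005ef0022600218005b1002070072e00000)))) (.node (.node (.node (.leaf 0x0) (.leaf 0x0)) (.node (.leaf 0x0) (.leaf 0x0))) (.node (.node (.leaf 0x0) (.leaf 0x0)) (.node (.leaf 0x0) (.leaf 0x0))))) (.node (.node (.node (.node (.leaf 0x0) (.leaf 0x0)) (.node (.leaf 0x0) (.leaf 0x0))) (.node (.node (.leaf 0x0) (.leaf 0x50e003db00555000960024200009001390022400584005ef0051400218005de002070056e00000)) (.node (.leaf 0x0) (.leaf 0x0)))) (.node (.node (.node (.leaf 0x0) (.leaf 0x0)) (.node (.leaf 0x0) (.leaf 0x0))) (.node (.node (.leaf 0x0) (.leaf 0xd300003000dc00002001bb0000100128006520063d005ef00691002180053d00207005ee00000)) (.node (.leaf 0x0) (.leaf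 0x0))))))) (.node (.node (.node (.node (.node (.node (.leaf 0x1bb000030001900002000d300001005a40065200755005ef0015800218001e5002070001e00000) (.leaf 0x0)) (.node (.leaf 0x66900009005cf000ce00745000030071500652001a3005ef0061c00218005a7002070021e00000) (.leaf 0x52a000ff0056a0014f00218000430017a00017001aa000040067000003001de000010061e00000))) (.node (.node (.leaf 0x0) (.leaf 0x30013f001660014f0016c000170018200004002520013e0023b0000100528005ef0051e00000)) (.node (.leaf 0x0) (.leaf 0x0)))) (.node (.node (.node (.leaf 0x0) (.leaf 0x0)) (.node (.leaf 0x0) (.leaf 0x0))) (.node (.node (.leaf 0x0) (.leaf 0x0)) (.node (.leaf 0x0) (.leaf 0x0))))) (.node (.node (.node (.node (.leaf 0x0) (.leaf 0x0)) (.node (.leaf 0x0) (.leaf 0x0))) (.node (.node (.leaf 0x0) (.leaf 0x5340013f0055000151006350014f0054e000040059a00020005590000200547002070055e00000)) (.node (.leaf 0x0) (.leaf 0x0)))) (.node (.node (.node (.leaf 0x0) (.leaf 0x0)) (.node (.leaf 0x0)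 (.leaf 0x0))) (.node (.node (.leaf 0x1aa000ff0017a0014f00670000430056a000170052a0000400218000030061e00001001de00000) (.leaf 0x5140034b001390009600584000090050e0015200242005ef00555002180056e00207005de00000)) (.node (.leaf 0x0) (.leaf 0x0)))))) (.node (.node (.node (.node (.node (.leaf 0x0) (.leaf 0x0)) (.node (.leaf 0x0) (.leaf 0x0))) (.node (.node (.leaf 0x57d0034b006c8000960016300009005920015200001005ef005b4002180015a002070013e00000) (.leaf 0x0)) (.node (.leaf 0x0) (.leaf 0x0)))) (.node (.node (.node (.leaf 0x0) (.leaf 0x0)) (.node (.leaf 0x0) (.leaf 0x0))) (.node (.node (.leaf 0x0) (.leaf 0x0)) (.node (.leaf 0x0) (.leaf 0x0))))) (.node (.node (.node (.node (.leaf 0x0) (.leaf 0x0)) (.node (.leaf 0x0) (.leaf 0x0))) (.node (.node (.leaf 0x0) (.leaf 0x5a3000030062b00002006ac00001000ef006520015c005ef0022c0021800515002070057e00000)) (.node (.leaf 0x0) (.leaf 0x0)))) (.node (.node (.node (.leaf 0x0) (.leaf 0x0)) (.node (.leaf 0x0)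 (.leaf 0x0))) (.node (.node (.leaf 0x0) (.leaf 0x0)) (.node (.leaf 0x0) (.leaf 0x0))))))))

/-- part of eight conjugates of each outer involution -/
def conjT1 : Trie :=
  (.node (.node (.node (.node (.node (.node (.node (.leaf 0x5b4003db00592000960015a000090057d002240013e005ef006c80021800163002070000100000) (.leaf 0x0)) (.node (.leaf 0x0) (.leaf 0x0))) (.node (.node (.leaf 0x0) (.leaf 0x0)) (.node (.leaf 0x0) (.leaf 0x0)))) (.node (.node (.node (.leaf 0x0) (.leaf 0x0)) (.node (.leaf 0x0) (.leaf 0x0))) (.node (.node (.leaf 0x0) (.leaf 0x0)) (.node (.leaf 0x0) (.leaf 0x0))))) (.node (.node (.node (.node (.leaf 0x0) (.leaf 0x0)) (.node (.leaf 0x0) (.leaf 0x0))) (.node (.node (.leaf 0x0) (.leaf 0x0)) (.node (.leaf 0x0) (.leaf 0x0)))) (.node (.node (.node (.leaf 0x0) (.leaf 0x0)) (.node (.leaf 0x0) (.leaf 0x0))) (.node (.node (.leaf 0x0) (.leaf 0x1e100017006aa000040066b0013e0058f0002000582000020019a000010072c00207005c100000)) (.node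 (.leaf 0x0) (.leaf 0x0)))))) (.node (.node (.node (.node (.node (.leaf 0x0) (.leaf 0x0)) (.node (.leaf 0x0) (.leaf 0x0))) (.node (.node (.leaf 0x0) (.leaf 0x0)) (.node (.leaf 0x0) (.leaf 0x0)))) (.node (.node (.node (.leaf 0x0) (.leaf 0x0)) (.node (.leaf 0x0) (.leaf 0x0))) (.node (.node (.leaf 0x0) (.leaf 0x0)) (.node (.leaf 0x0) (.leaf 0x0))))) (.node (.node (.node (.node (.leaf 0x0) (.leaf 0x0)) (.node (.leaf 0x0) (.leaf 0x0))) (.node (.node (.leaf 0x0) (.leaf 0x5bb00003000d3000020020600001006ed006520014a005ef000dc00218005af002070056100000)) (.node (.leaf 0x0) (.leaf 0x0)))) (.node (.node (.node (.leaf 0x0) (.leaf 0x0)) (.node (.leaf 0x0) (.leaf 0x0))) (.node (.node (.leaf 0x67d000170066b00004001240013e006bf000ce006aa000020010a000010022200207001e100000) (.leaf 0x0)) (.node (.leaf 0x0) (.leaf 0x0))))))) (.node (.node (.node (.node (.node (.node (.leaf 0x0) (.leaf 0x0)) (.node (.leaf 0x0) (.leaf 0x0))) (.node (.node (.leaf 0x0)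 (.leaf 0x0)) (.node (.leaf 0x0) (.leaf 0x0)))) (.node (.node (.node (.leaf 0x0) (.leaf 0x0)) (.node (.leaf 0x0) (.leaf 0x5520000300561000020051500001006ac006520010b005ef005ee0021800722002070069100000))) (.node (.node (.leaf 0x0) (.leaf 0x0)) (.node (.leaf 0x0) (.leaf 0x0))))) (.node (.node (.node (.node (.leaf 0x0) (.leaf 0x0)) (.node (.leaf 0x0) (.leaf 0x0))) (.node (.node (.leaf 0x0) (.leaf 0x0)) (.node (.leaf 0x0) (.leaf 0x0)))) (.node (.node (.node (.leaf 0x702000170003c000040012a0013e001b5000ce0013b0000200146000010003900207000d100000) (.leaf 0x0)) (.node (.leaf 0x0) (.leaf 0x51b002a50056b0014f00746000430051600017005670000400744000010064c00207006d100000))) (.node (.node (.leaf 0x0) (.leaf 0x0)) (.node (.leaf 0x0) (.leaf 0x0)))))) (.node (.node (.node (.node (.node (.leaf 0x0) (.leaf 0x0)) (.node (.leaf 0x0) (.leaf 0x0))) (.node (.node (.leaf 0x0) (.leaf 0x0)) (.node (.leaf 0x0) (.leaf 0x23300009005f9000ce006d400003001a9006520073b005ef0064600218005dc002070073100000))))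 (.node (.node (.node (.leaf 0x0) (.leaf 0x0)) (.node (.leaf 0x0) (.leaf 0x0))) (.node (.node (.leaf 0x0) (.leaf 0x6f10000300667000020019000001002280065200674005ef001a6002180072e00207005b100000)) (.node (.leaf 0x0) (.leaf 0x0))))) (.node (.node (.node (.node (.leaf 0x0) (.leaf 0x0)) (.node (.leaf 0x0) (.leaf 0x22a0000300696000020062b00001000340065200210005ef005da0021800522002070067100000))) (.node (.node (.leaf 0x0) (.leaf 0x0)) (.node (.leaf 0x0) (.leaf 0x0)))) (.node (.node (.node (.leaf 0x0) (.leaf 0x0)) (.node (.leaf 0x0) (.leaf 0x5b10000300674000020073400001006440065200667005ef001cf002180068c00207006f100000))) (.node (.node (.leaf 0x0) (.leaf 0x0)) (.node (.leaf 0x0) (.leaf 0x0))))))))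

/-- part of eight conjugates of each outer involution -/
def conjT9 : Trie :=
  (.node (.node (.node (.node (.node (.node (.node (.leaf 0x0) (.leaf 0x0)) (.node (.leaf 0x0) (.leaf 0x0))) (.node (.node (.leaf 0x19000030015800002001db00001005ec0065200240005ef0063b0021800125002070010900000) (.leaf 0x0)) (.node (.leaf 0x0) (.leaf 0x0)))) (.node (.node (.node (.leaf 0x0) (.leaf 0x0)) (.node (.leaf 0x0) (.leaf 0x0))) (.node (.node (.leaf 0x0) (.leaf 0x0)) (.node (.leaf 0x0) (.leaf 0x0))))) (.node (.node (.node (.node (.leaf 0x0) (.leaf 0x0)) (.node (.leaf 0x0) (.leaf 0x0))) (.node (.node (.leaf 0x0) (.leaf 0x0)) (.node (.leaf 0x0) (.leaf 0x0)))) (.node (.node (.node (.leaf 0x0) (.leaf 0x0)) (.node (.leaf 0x0) (.leaf 0x0))) (.node (.node (.leaf 0x0) (.leaf 0x0)) (.node (.leaf 0x0) (.leaf 0x0)))))) (.node (.node (.node (.node (.node (.leaf 0x0) (.leaf 0x0)) (.node (.leaf 0x0) (.leaf 0x0))) (.node (.node (.leaf 0x19c0001700207000040073c0015a0064a000f80069300002002320000100630002070012900000)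 (.leaf 0x0)) (.node (.leaf 0x0) (.leaf 0x0)))) (.node (.node (.node (.leaf 0x0) (.leaf 0x0)) (.node (.leaf 0x0) (.leaf 0x0))) (.node (.node (.leaf 0x61c000f8005a700003005dc00001007310065200233005ef005cf002180074500207001a900000) (.leaf 0x0)) (.node (.leaf 0x0) (.leaf 0x0))))) (.node (.node (.node (.node (.leaf 0x0) (.leaf 0x0)) (.node (.leaf 0x0) (.leaf 0x21e00009005a7000ce0061c00003001a30065200715005ef0074500218005cf002070066900000))) (.node (.node (.leaf 0x0) (.leaf 0x0)) (.node (.leaf 0x0) (.leaf 0x0)))) (.node (.node (.node (.leaf 0x0) (.leaf 0x0)) (.node (.leaf 0x0) (.leaf 0x0))) (.node (.node (.leaf 0x0) (.leaf 0x0)) (.node (.leaf 0x0) (.leaf 0x0))))))) (.node (.node (.node (.node (.node (.node (.leaf 0x10900003005150000200034000010052c0065200625005ef00137002180062b002070001900000) (.leaf 0x0)) (.node (.leaf 0x0) (.leaf 0x0))) (.node (.node (.leaf 0x0) (.leaf 0x0)) (.node (.leaf 0x0) (.leaf 0x0)))) (.node (.node (.node (.leaf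 0x0) (.leaf 0x0)) (.node (.leaf 0x0) (.leaf 0x6ed000030063d000020024000001005bb00652000dc005ef0014a002180024e002070069900000))) (.node (.node (.leaf 0x0) (.leaf 0x0)) (.node (.leaf 0x0) (.leaf 0x0))))) (.node (.node (.node (.node (.leaf 0x0) (.leaf 0x0)) (.node (.leaf 0x0) (.leaf 0x0))) (.node (.node (.leaf 0x0) (.leaf 0x635000ff0054e00151005340014f00550000040055e0002000547000020059a002180055900000)) (.node (.leaf 0x0) (.leaf 0x0)))) (.node (.node (.node (.leaf 0x0) (.leaf 0x0)) (.node (.leaf 0x0) (.leaf 0x0))) (.node (.node (.leaf 0x0) (.leaf 0x0)) (.node (.leaf 0x0) (.leaf 0x0)))))) (.node (.node (.node (.node (.node (.leaf 0x6f9000170003000004001460013e0013b000ce001b5000020012a00001000d1002070003900000) (.leaf 0x0)) (.node (.leaf 0x0) (.leaf 0x0))) (.node (.node (.leaf 0x5de003db005840009600514000090056e0022400555005ef00242002180050e002070013900000) (.leaf 0x0)) (.node (.leaf 0x0) (.leaf 0x0)))) (.node (.node (.node (.leaf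 0x0) (.leaf 0x0)) (.node (.leaf 0x0) (.leaf 0x0))) (.node (.node (.leaf 0x0) (.leaf 0x0)) (.node (.leaf 0x0) (.leaf 0x0))))) (.node (.node (.node (.node (.leaf 0x0) (.leaf 0x0)) (.node (.leaf 0x0) (.leaf 0x0))) (.node (.node (.leaf 0x0) (.leaf 0x0)) (.node (.leaf 0x0) (.leaf 0x0)))) (.node (.node (.node (.leaf 0x0) (.leaf 0x0)) (.node (.leaf 0x0) (.leaf 0x12f0004d000f7000170012a0000400030000200003c00002005bf000010070200207006f900000))) (.node (.node (.leaf 0x0) (.leaf 0x731000f8001a3000030073b000010061c0065200745005ef00715002180023300207005f900000)) (.node (.leaf 0x0) (.leaf 0x0))))))))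

/-- part of eight conjugates of each outer involution -/
def conjT5 : Trie :=
  (.node (.node (.node (.node (.node (.node (.node (.leaf 0x0) (.leaf 0x0)) (.node (.leaf 0x0) (.leaf 0x0))) (.node (.node (.leaf 0x0) (.leaf 0x0)) (.node (.leaf 0x0) (.leaf 0x0)))) (.node (.node (.node (.leaf 0x0) (.leaf 0x0)) (.node (.leaf 0x0) (.leaf 0x0))) (.node (.node (.leaf 0x0) (.leaf 0x0)) (.node (.leaf 0x0) (.leaf 0x0))))) (.node (.node (.node (.node (.leaf 0x0) (.leaf 0x0)) (.node (.leaf 0x0) (.leaf 0x0))) (.node (.node (.leaf 0x0) (.leaf 0x0)) (.node (.leaf 0x0) (.leaf 0x61c000090073b000ce0021e00003005dc00652005f9005ef0066900218001a9002070074500000)))) (.node (.node (.node (.leaf 0x0) (.leaf 0x0)) (.node (.leaf 0x0) (.leaf 0x0))) (.node (.node (.leaf 0x0) (.leaf 0x0)) (.node (.leaf 0x0) (.leaf 0x0)))))) (.node (.node (.node (.node (.node (.leaf 0x0) (.leaf 0x0)) (.node (.leaf 0x0) (.leaf 0x240000030075500002006ed000010063b0065200019005ef005ec0021800206002070062500000)))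 (.node (.node (.leaf 0x62b000030022c000020022a00001001680065200197005ef006fd0021800109002070012500000) (.leaf 0x0)) (.node (.leaf 0x0) (.leaf 0x0)))) (.node (.node (.node (.leaf 0x0) (.leaf 0x0)) (.node (.leaf 0x0) (.leaf 0x0))) (.node (.node (.leaf 0x0) (.leaf 0x0)) (.node (.leaf 0x0) (.leaf 0x0))))) (.node (.node (.node (.node (.leaf 0x0) (.leaf 0x0)) (.node (.leaf 0x0) (.leaf 0x0))) (.node (.node (.leaf 0x0) (.leaf 0x0)) (.node (.leaf 0x0) (.leaf 0x0)))) (.node (.node (.node (.leaf 0x0) (.leaf 0x0)) (.node (.leaf 0x0) (.leaf 0x0))) (.node (.node (.leaf 0x22c00003006fd000020010b000010015c00652000ef005ef005a3002180001e00207001e500000) (.leaf 0x0)) (.node (.leaf 0x0) (.leaf 0x0))))))) (.node (.node (.node (.node (.node (.node (.leaf 0x0) (.leaf 0x0)) (.node (.leaf 0x0) (.leaf 0x0))) (.node (.node (.leaf 0x0) (.leaf 0x158000030063b0000200691000010075500652005a4005ef001bb002180057e002070051500000)) (.node (.leaf 0x0) (.leaf 0x646000f8005dc00003005a7000010021e0065200669005ef005f900218006d4002070071500000))))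 (.node (.node (.node (.leaf 0x0) (.leaf 0x0)) (.node (.leaf 0x0) (.leaf 0x0))) (.node (.node (.leaf 0x0) (.leaf 0x0)) (.node (.leaf 0x0) (.leaf 0x0))))) (.node (.node (.node (.node (.leaf 0x0) (.leaf 0x0)) (.node (.leaf 0x0) (.leaf 0x0))) (.node (.node (.leaf 0x0) (.leaf 0x56e0034b00242000960050e00009005840015200139005ef005de0021800514002070055500000)) (.node (.leaf 0x0) (.leaf 0x684000030052c00002007220000100515006520001e005ef001af00218000ef002070075500000)))) (.node (.node (.node (.leaf 0x0) (.leaf 0x0)) (.node (.leaf 0x0) (.leaf 0x0))) (.node (.node (.leaf 0x0) (.leaf 0x0)) (.node (.leaf 0x0) (.leaf 0x0)))))) (.node (.node (.node (.node (.node (.leaf 0x0) (.leaf 0x0)) (.node (.leaf 0x0) (.leaf 0x5590013f005470014f0059a000170055e00004005340013e00550000010054e005ef0063500000))) (.node (.node (.leaf 0x0) (.leaf 0x0)) (.node (.leaf 0x0) (.leaf 0x0)))) (.node (.node (.node (.leaf 0x0) (.leaf 0x0)) (.node (.leaf 0x0) (.leaf 0x0)))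 (.node (.node (.leaf 0x6f7000170012f00004000cf0013e000d1000ce0003900002000f7000010013b00207001b500000) (.leaf 0x0)) (.node (.leaf 0x0) (.leaf 0x0))))) (.node (.node (.node (.node (.leaf 0x0) (.leaf 0x0)) (.node (.leaf 0x0) (.leaf 0x0))) (.node (.node (.leaf 0x0) (.leaf 0x0)) (.node (.leaf 0x0) (.leaf 0x0)))) (.node (.node (.node (.leaf 0x0) (.leaf 0x0)) (.node (.leaf 0x0) (.leaf 0x0))) (.node (.node (.leaf 0x0) (.leaf 0x0)) (.node (.leaf 0x0) (.leaf 0x0))))))))

/-- part of eight conjugates of each outer involution -/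
def conjT13 : Trie :=
  (.node (.node (.node (.node (.node (.node (.node (.leaf 0x0) (.leaf 0x0)) (.node (.leaf 0x0) (.leaf 0x0))) (.node (.node (.leaf 0x6f90004d0003900017001b500004006f700020005bf0000200030000010012f005ef0010d00000) (.leaf 0x0)) (.node (.leaf 0x0) (.leaf 0x1230000a0015a00004005420006000152000030058e0000100224005ef0070a002070070d00000)))) (.node (.node (.node (.leaf 0x0) (.leaf 0x0)) (.node (.leaf 0x0) (.leaf 0x0))) (.node (.node (.leaf 0x0) (.leaf 0x0)) (.node (.leaf 0x0) (.leaf 0x0))))) (.node (.node (.node (.node (.leaf 0x0) (.leaf 0x0)) (.node (.leaf 0x6870000a00242000040074200060006da000030020b000010062a005ef00752002070024d00000) (.leaf 0x0))) (.node (.node (.leaf 0x0) (.leaf 0x0)) (.node (.leaf 0x0) (.leaf 0x0)))) (.node (.node (.node (.leaf 0x0) (.leaf 0x0)) (.node (.leaf 0x0) (.leaf 0x0))) (.node (.node (.leaf 0x0) (.leaf 0x0)) (.node (.leaf 0x0) (.leaf 0x0)))))) (.node (.node (.node (.node (.node (.leaf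 0x0) (.leaf 0x0)) (.node (.leaf 0x0) (.leaf 0x0))) (.node (.node (.leaf 0x0) (.leaf 0x0)) (.node (.leaf 0x0) (.leaf 0x0)))) (.node (.node (.node (.leaf 0x0) (.leaf 0x0)) (.node (.leaf 0x0) (.leaf 0x0))) (.node (.node (.leaf 0x0) (.leaf 0x0)) (.node (.leaf 0x0) (.leaf 0x0))))) (.node (.node (.node (.node (.leaf 0x0) (.leaf 0x0)) (.node (.leaf 0x0) (.leaf 0x0))) (.node (.node (.leaf 0x0) (.leaf 0x0)) (.node (.leaf 0x0) (.leaf 0x0)))) (.node (.node (.node (.leaf 0x0) (.leaf 0x0)) (.node (.leaf 0x0) (.leaf 0x69900003006ac000020062500001005610065200522005ef001b8002180021000207006ed00000))) (.node (.node (.leaf 0x0) (.leaf 0x0)) (.node (.leaf 0x0) (.leaf 0x0))))))) (.node (.node (.node (.node (.node (.node (.leaf 0x0) (.leaf 0x0)) (.node (.leaf 0x0) (.leaf 0x0))) (.node (.node (.leaf 0x0) (.leaf 0x0)) (.node (.leaf 0x0) (.leaf 0x0)))) (.node (.node (.node (.leaf 0x0) (.leaf 0x0)) (.node (.leaf 0x0) (.leaf 0x0))) (.node (.node (.leaf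 0x0) (.leaf 0x0)) (.node (.leaf 0x0) (.leaf 0x0))))) (.node (.node (.node (.node (.leaf 0x0) (.leaf 0x0)) (.node (.leaf 0x0) (.leaf 0x0))) (.node (.node (.leaf 0x0) (.leaf 0x0)) (.node (.leaf 0x0) (.leaf 0x0)))) (.node (.node (.node (.leaf 0x0) (.leaf 0x0)) (.node (.leaf 0x0) (.leaf 0x0))) (.node (.node (.leaf 0x0) (.leaf 0x0)) (.node (.leaf 0x0) (.leaf 0x0)))))) (.node (.node (.node (.node (.node (.leaf 0x0) (.leaf 0x0)) (.node (.leaf 0x0) (.leaf 0x6ac00003001b800002005a3000010055200652005ee005ef0010b0021800587002070063d00000))) (.node (.node (.leaf 0x0) (.leaf 0x69600003005da00002001af00001005120065200587005ef0072200218005ee002070053d00000)) (.node (.leaf 0x0) (.leaf 0x0)))) (.node (.node (.node (.leaf 0x0) (.leaf 0x0)) (.node (.leaf 0x0) (.leaf 0x0))) (.node (.node (.leaf 0x0) (.leaf 0x0)) (.node (.leaf 0x0) (.leaf 0x0))))) (.node (.node (.node (.node (.leaf 0x0) (.leaf 0x0)) (.node (.leaf 0x0) (.leaf 0x7200001700124000040058f0015a0019a000f80066b00002005820000100203002180067d00000)))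 (.node (.node (.leaf 0x0) (.leaf 0x163003db0013e00096006c800009000010022400592005ef0015a00218005b4002070057d00000)) (.node (.leaf 0x0) (.leaf 0x0)))) (.node (.node (.node (.leaf 0x0) (.leaf 0x0)) (.node (.leaf 0x0) (.leaf 0x732000030057e00002005af00001002060065200143005ef00125002180063b00207006fd00000))) (.node (.node (.leaf 0x0) (.leaf 0x0)) (.node (.leaf 0x0) (.leaf 0x0))))))))

/-- part of eight conjugates of each outer involution -/
def conjT3 : Trie :=
  (.node (.node (.node (.node (.node (.node (.node (.leaf 0x51e000ff0052800151002520014f0023b00004001820002000166000020016c002180000300000) (.leaf 0x0)) (.node (.leaf 0x683000170010a00004005820015a0066b000f80019a000020058f000010067d002180020300000) (.leaf 0x0))) (.node (.node (.leaf 0x0) (.leaf 0x0)) (.node (.leaf 0x0) (.leaf 0x0)))) (.node (.node (.node (.leaf 0x0) (.leaf 0x0)) (.node (.leaf 0x0) (.leaf 0x72c000170058f00004006aa0015a0010a000200012400002006bf0000100720002070068300000)))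 (.node (.node (.leaf 0x0) (.leaf 0x0)) (.node (.leaf 0x0) (.leaf 0x0))))) (.node (.node (.node (.node (.leaf 0x0) (.leaf 0x0)) (.node (.leaf 0x0) (.leaf 0x0))) (.node (.node (.leaf 0x16800003000ef0000200522000010062b00652006fd005ef00197002180052c002070014300000) (.leaf 0x0)) (.node (.leaf 0x0) (.leaf 0x0)))) (.node (.node (.node (.leaf 0x0) (.leaf 0x0)) (.node (.leaf 0x0) (.leaf 0x0))) (.node (.node (.leaf 0x0) (.leaf 0x0)) (.node (.leaf 0x0) (.leaf 0x0)))))) (.node (.node (.node (.node (.node (.leaf 0x0) (.leaf 0x0)) (.node (.leaf 0x0) (.leaf 0x0))) (.node (.node (.leaf 0x70d0000a00592000040070a0013e006b800060002240000100152005ef0058e002070012300000) (.leaf 0x0)) (.node (.leaf 0x0) (.leaf 0x0)))) (.node (.node (.node (.leaf 0x0) (.leaf 0x0)) (.node (.leaf 0x0) (.leaf 0x0))) (.node (.node (.leaf 0x6d4000f8005f900003005cf0000100669006520021e005ef005dc002180064600207001a300000) (.leaf 0x57e0000300125000020063d000010017200652001f7005ef001e5002180015800207005a300000))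 (.node (.leaf 0x0) (.leaf 0x0))))) (.node (.node (.node (.node (.leaf 0x0) (.leaf 0x0)) (.node (.leaf 0x0) (.leaf 0x0))) (.node (.node (.leaf 0x6c80034b0057d000960013e00009005b4001520015a005ef005920021800001002070016300000) (.leaf 0x0)) (.node (.leaf 0x0) (.leaf 0x0)))) (.node (.node (.node (.leaf 0x0) (.leaf 0x0)) (.node (.leaf 0x0) (.leaf 0x0))) (.node (.node (.leaf 0x0) (.leaf 0x0)) (.node (.leaf 0x0) (.leaf 0x0))))))) (.node (.node (.node (.node (.node (.node (.leaf 0x0) (.leaf 0x0)) (.node (.leaf 0x0) (.leaf 0x0))) (.node (.node (.leaf 0x0) (.leaf 0x0)) (.node (.leaf 0x0) (.leaf 0x0)))) (.node (.node (.node (.leaf 0x0) (.leaf 0x0)) (.node (.leaf 0x0) (.leaf 0x53c000170058c00004006c00013e0064a0052800630000ce001290000200716000010069300000))) (.node (.node (.leaf 0x0) (.leaf 0x0)) (.node (.leaf 0x0) (.leaf 0x0))))) (.node (.node (.node (.node (.leaf 0x0) (.leaf 0x0)) (.node (.leaf 0x0) (.leaf 0x0))) (.node (.node (.leaf 0x0)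 (.leaf 0x0)) (.node (.leaf 0x0) (.leaf 0x0)))) (.node (.node (.node (.leaf 0x5ee0000300522000020001e000010010b00652006ac005ef00552002180069600207000d300000) (.leaf 0x0)) (.node (.leaf 0x0) (.leaf 0x0))) (.node (.node (.leaf 0x0) (.leaf 0x607000030068c00002001a600001001e2006520072e005ef00190002180067400207005d300000)) (.node (.leaf 0x0) (.leaf 0x0)))))) (.node (.node (.node (.node (.node (.leaf 0x0) (.leaf 0x0)) (.node (.leaf 0x73100009005dc000ce00646000030073b00652001a9005ef006d400218005f9002070023300000) (.leaf 0x0))) (.node (.node (.leaf 0x0) (.leaf 0x0)) (.node (.leaf 0x0) (.leaf 0x0)))) (.node (.node (.node (.leaf 0x0) (.leaf 0x0)) (.node (.leaf 0x0) (.leaf 0x0))) (.node (.node (.leaf 0x0) (.leaf 0x0)) (.node (.leaf 0x0) (.leaf 0x0))))) (.node (.node (.node (.node (.leaf 0x0) (.leaf 0x0)) (.node (.leaf 0x0) (.leaf 0x0))) (.node (.node (.leaf 0x0) (.leaf 0x0)) (.node (.leaf 0x0) (.leaf 0x0)))) (.node (.node (.node (.leaf 0x0)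 (.leaf 0x0)) (.node (.leaf 0x0) (.leaf 0x0))) (.node (.node (.leaf 0x0) (.leaf 0x0)) (.node (.leaf 0x0) (.leaf 0x0))))))))

/-- part of eight conjugates of each outer involution -/
def conjT11 : Trie :=
  (.node (.node (.node (.node (.node (.node (.node (.leaf 0x0) (.leaf 0x0)) (.node (.leaf 0x7520000a0013900004006da0006000742000030024d0000100737005ef00687002070020b00000) (.leaf 0x0))) (.node (.node (.leaf 0x12800003006ed00002001e500001000d30065200691005ef0063d002180055b002070010b00000) (.leaf 0x0)) (.node (.leaf 0x0) (.leaf 0x693000170063000004006520013e001cc000200019c000020058c0000100207005ef0070b00000)))) (.node (.node (.node (.leaf 0x0) (.leaf 0x0)) (.node (.leaf 0x0) (.leaf 0x0))) (.node (.node (.leaf 0x0) (.leaf 0x0)) (.node (.leaf 0x0) (.leaf 0x0))))) (.node (.node (.node (.node (.leaf 0x0) (.leaf 0x0)) (.node (.leaf 0x0) (.leaf 0x0))) (.node (.node (.leaf 0x0) (.leaf 0x0)) (.node (.leaf 0x0) (.leaf 0x0)))) (.node (.node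 (.node (.leaf 0x0) (.leaf 0x0)) (.node (.leaf 0x0) (.leaf 0x0))) (.node (.node (.leaf 0x0) (.leaf 0x0)) (.node (.leaf 0x0) (.leaf 0x0)))))) (.node (.node (.node (.node (.node (.leaf 0x0) (.leaf 0x0)) (.node (.leaf 0x0) (.leaf 0x12500003001e5000020067100001001430065200206005ef007320021800019002070062b00000))) (.node (.node (.leaf 0x0) (.leaf 0x0)) (.node (.leaf 0x0) (.leaf 0x0)))) (.node (.node (.node (.leaf 0x0) (.leaf 0x0)) (.node (.leaf 0x0) (.leaf 0x0))) (.node (.node (.leaf 0x0) (.leaf 0x0)) (.node (.leaf 0x0) (.leaf 0x0))))) (.node (.node (.node (.node (.leaf 0x0) (.leaf 0x0)) (.node (.leaf 0x0) (.leaf 0x6aa00017001e100004005c10013e00203000ce0067d000020072c000010019a002070066b00000))) (.node (.node (.leaf 0x0) (.leaf 0x7460028f00744001510064c0014f006d1000040051b00096005160000200567002070056b00000)) (.node (.leaf 0x0) (.leaf 0x0)))) (.node (.node (.node (.leaf 0x0) (.leaf 0x0)) (.node (.leaf 0x0) (.leaf 0x0))) (.node (.node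 (.leaf 0x0) (.leaf 0x0)) (.node (.leaf 0x0) (.leaf 0x0))))))) (.node (.node (.node (.node (.node (.node (.leaf 0x0) (.leaf 0x0)) (.node (.leaf 0x0) (.leaf 0x0))) (.node (.node (.leaf 0x0) (.leaf 0x6d10028f0064c00151007440014f00746000040056b00096005670000200516002070051b00000)) (.node (.leaf 0x0) (.leaf 0x0)))) (.node (.node (.node (.leaf 0x0) (.leaf 0x0)) (.node (.leaf 0x0) (.leaf 0x0))) (.node (.node (.leaf 0x0) (.leaf 0x0)) (.node (.leaf 0x0) (.leaf 0x0))))) (.node (.node (.node (.node (.leaf 0x0) (.leaf 0x0)) (.node (.leaf 0x0) (.leaf 0x0))) (.node (.node (.leaf 0x0) (.leaf 0x5120000300034000020015c00001006960065200722005ef00587002180010b002070055b00000)) (.node (.leaf 0x0) (.leaf 0x0)))) (.node (.node (.node (.leaf 0x0) (.leaf 0x0)) (.node (.leaf 0x0) (.leaf 0x0))) (.node (.node (.leaf 0x3400003005870000200109000010022a00652005da005ef0021000218001b800207001db00000) (.leaf 0x0)) (.node (.leaf 0x0) (.leaf 0x0)))))) (.node (.node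 (.node (.node (.node (.leaf 0x0) (.leaf 0x0)) (.node (.leaf 0x166000ff000030014f00182000170016c00004005280013e0051e0000100252002070023b00000) (.leaf 0x137000030001e00002002100000100625006520052c005ef0010900218006fd002070063b00000))) (.node (.node (.leaf 0x5bf000170010d00004000f70013e00039000ce000d100002000cf00001001b5002070013b00000) (.leaf 0x0)) (.node (.leaf 0x0) (.leaf 0x745000f8005cf00003005f900001002330065200731005ef005a7002180061c002070073b00000)))) (.node (.node (.node (.leaf 0x0) (.leaf 0x0)) (.node (.leaf 0x0) (.leaf 0x0))) (.node (.node (.leaf 0x1e000030010900002005ee00001001af0065200684005ef00515002180022c00207001bb00000) (.leaf 0x56100003005ee0000200197000010069900652001b8005ef0052200218005da00207005bb00000)) (.node (.leaf 0x0) (.leaf 0x0))))) (.node (.node (.node (.node (.leaf 0x0) (.leaf 0x0)) (.node (.leaf 0x0) (.leaf 0x0))) (.node (.node (.leaf 0x0) (.leaf 0x0)) (.node (.leaf 0x0) (.leaf 0x0)))) (.node (.node (.node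 (.leaf 0x0) (.leaf 0x0)) (.node (.leaf 0x0) (.leaf 0x0))) (.node (.node (.leaf 0x0) (.leaf 0x0)) (.node (.leaf 0x0) (.leaf 0x0))))))))

/-- part of eight conjugates of each outer involution -/
def conjT7 : Trie :=
  (.node (.node (.node (.node (.node (.node (.node (.leaf 0x0) (.leaf 0x0)) (.node (.leaf 0x64a0001700129000040058c0013e0019c00020001cc0000200652000010070b005ef0020700000) (.leaf 0x5d3000030072e00002001cf0000100226006520068c005ef007340021800667002070060700000))) (.node (.node (.leaf 0x0) (.leaf 0x0)) (.node (.leaf 0x0) (.leaf 0x0)))) (.node (.node (.node (.leaf 0x0) (.leaf 0x0)) (.node (.leaf 0x0) (.leaf 0x24d0000a0055500004007520013e00737000600062a00001006da005ef0020b002070068700000))) (.node (.node (.leaf 0x0) (.leaf 0x1a0000030024e0000200172000010071a006520053d005ef0055b002180063d002070058700000)) (.node (.leaf 0x0) (.leaf 0x0))))) (.node (.node (.node (.node (.leaf 0x0) (.leaf 0x0)) (.node (.leaf 0x0) (.leaf 0x0)))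 (.node (.node (.leaf 0x0) (.leaf 0x5500013f00534001510054e0014f006350000400559000200059a000020055e002070054700000)) (.node (.leaf 0x0) (.leaf 0x0)))) (.node (.node (.node (.leaf 0x0) (.leaf 0x0)) (.node (.leaf 0x0) (.leaf 0x0))) (.node (.node (.leaf 0x0) (.leaf 0x0)) (.node (.leaf 0x0) (.leaf 0x0)))))) (.node (.node (.node (.node (.node (.leaf 0x0) (.leaf 0x0)) (.node (.leaf 0x0) (.leaf 0x0))) (.node (.node (.leaf 0x0) (.leaf 0x0)) (.node (.leaf 0x0) (.leaf 0x0)))) (.node (.node (.node (.leaf 0x0) (.leaf 0x0)) (.node (.leaf 0x0) (.leaf 0x0))) (.node (.node (.leaf 0x0) (.leaf 0x669000f8001a9000030071500001006d40065200646005ef0073b002180021e00207005a700000)) (.node (.leaf 0x0) (.leaf 0x0))))) (.node (.node (.node (.node (.leaf 0x0) (.leaf 0x0)) (.node (.leaf 0x0) (.leaf 0x5b100020001cf000020067400001001a600652006f1005ef002280021800607002070066700000))) (.node (.node (.leaf 0x0) (.leaf 0x7440028f0074600151006d10014f0064c0000400516000960051b000020056b002070056700000))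 (.node (.leaf 0x0) (.leaf 0x0)))) (.node (.node (.node (.leaf 0x0) (.leaf 0x0)) (.node (.leaf 0x0) (.leaf 0x0))) (.node (.node (.leaf 0x0) (.leaf 0x0)) (.node (.leaf 0x0) (.leaf 0x0))))))) (.node (.node (.node (.node (.node (.node (.leaf 0x0) (.leaf 0x0)) (.node (.leaf 0x0) (.leaf 0x0))) (.node (.node (.leaf 0x0) (.leaf 0x0)) (.node (.leaf 0x0) (.leaf 0x0)))) (.node (.node (.node (.leaf 0x0) (.leaf 0x0)) (.node (.leaf 0x0) (.leaf 0x0))) (.node (.node (.leaf 0x20600003001f700002005bb00001007320065200125005ef001430021800240002070019700000) (.leaf 0x0)) (.node (.leaf 0x0) (.leaf 0x0))))) (.node (.node (.node (.node (.leaf 0x0) (.leaf 0x0)) (.node (.leaf 0x0) (.leaf 0x0))) (.node (.node (.leaf 0x0) (.leaf 0x0)) (.node (.leaf 0x0) (.leaf 0x0)))) (.node (.node (.node (.leaf 0x0) (.leaf 0x0)) (.node (.leaf 0x0) (.leaf 0x0))) (.node (.node (.leaf 0x0) (.leaf 0x0)) (.node (.leaf 0x0) (.leaf 0x0)))))) (.node (.node (.node (.node (.node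 (.leaf 0x0) (.leaf 0x0)) (.node (.leaf 0x0) (.leaf 0x0))) (.node (.node (.leaf 0x63b00003001bb000020024e000010024000652005ec005ef000190021800732002070013700000) (.leaf 0x0)) (.node (.leaf 0x0) (.leaf 0x7420000a0050e000040062a0013e006870006000752000010020b005ef006da002070073700000)))) (.node (.node (.node (.leaf 0x0) (.leaf 0x0)) (.node (.leaf 0x0) (.leaf 0x0))) (.node (.node (.leaf 0x0) (.leaf 0x0)) (.node (.leaf 0x0) (.leaf 0x0))))) (.node (.node (.node (.node (.leaf 0x0) (.leaf 0x0)) (.node (.leaf 0x0) (.leaf 0x0))) (.node (.node (.leaf 0x0) (.leaf 0x0)) (.node (.leaf 0x0) (.leaf 0x0)))) (.node (.node (.node (.leaf 0x10d00017005bf000040013b0013e0012a000ce0014600002001b500001000cf00218000f700000) (.leaf 0x0)) (.node (.leaf 0x0) (.leaf 0x300004d0012a00017000f7000040012f000200010d000020070200001005bf00207006f700000))) (.node (.node (.leaf 0x15c00003001680000200512000010022c00652005a3005ef000ef00218001af00207001f700000) (.leaf 0x0))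 (.node (.leaf 0x0) (.leaf 0x0))))))))

/-- part of eight conjugates of each outer involution -/
def conjT15 : Trie :=
  (.node (.node (.node (.node (.node (.node (.node (.leaf 0x0) (.leaf 0x0)) (.node (.leaf 0x0) (.leaf 0x0))) (.node (.node (.leaf 0x0) (.leaf 0x0)) (.node (.leaf 0x0) (.leaf 0x0)))) (.node (.node (.node (.leaf 0x0) (.leaf 0x0)) (.node (.leaf 0x0) (.leaf 0x0))) (.node (.node (.leaf 0x0) (.leaf 0x10a0001700683000040067d0015a0072c00020005c100002002030000100582002070058f00000)) (.node (.leaf 0x0) (.leaf 0x0))))) (.node (.node (.node (.node (.leaf 0x0) (.leaf 0x0)) (.node (.leaf 0x0) (.leaf 0x0))) (.node (.node (.leaf 0x0) (.leaf 0x0)) (.node (.leaf 0x0) (.leaf 0x0)))) (.node (.node (.node (.leaf 0x12f00017006f700004001b50013e00146000ce0012a000020013b00001000f700218000cf00000) (.leaf 0x0)) (.node (.leaf 0x0) (.leaf 0x0))) (.node (.node (.leaf 0x1a60000300644000020060700001006740065200228005ef006f100218001e200207001cf00000)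 (.leaf 0x21e000f80073b00003001a3000010064600652006d4005ef001a9002180066900207005cf00000)) (.node (.leaf 0x0) (.leaf 0x0)))))) (.node (.node (.node (.node (.node (.leaf 0x0) (.leaf 0x0)) (.node (.leaf 0x0) (.leaf 0x0))) (.node (.node (.leaf 0x7020004d000d1000170013b00004005bf00020006f7000020003c000010010d005ef0012f00000) (.leaf 0x0)) (.node (.leaf 0x0) (.leaf 0x0)))) (.node (.node (.node (.leaf 0x0) (.leaf 0x0)) (.node (.leaf 0x0) (.leaf 0x0))) (.node (.node (.leaf 0x5a40000300240000020053d00001001bb0065200158005ef0075500218001f700207001af00000) (.leaf 0x5da000030072200002006fd00001002100065200034005ef0022a002180056100207005af00000)) (.node (.leaf 0x0) (.leaf 0x0))))) (.node (.node (.node (.node (.leaf 0x0) (.leaf 0x0)) (.node (.leaf 0x0) (.leaf 0x0))) (.node (.node (.leaf 0x0) (.leaf 0x0)) (.node (.leaf 0x0) (.leaf 0x0)))) (.node (.node (.node (.leaf 0x172000030020600002001a0000010057e00652001e5005ef001f7002180075500207000ef00000)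 (.leaf 0x0)) (.node (.leaf 0x0) (.leaf 0x0))) (.node (.node (.leaf 0x0) (.leaf 0x73c00017006c0000040019c0015a00652000f80058c00002001cc000010053c00207005ef00000)) (.node (.leaf 0x0) (.leaf 0x0))))))) (.node (.node (.node (.node (.node (.node (.leaf 0x0) (.leaf 0x0)) (.node (.leaf 0x0) (.leaf 0x0))) (.node (.node (.leaf 0x0) (.leaf 0x0)) (.node (.leaf 0x0) (.leaf 0x0)))) (.node (.node (.node (.leaf 0x0) (.leaf 0x0)) (.node (.leaf 0x0) (.leaf 0x0))) (.node (.node (.leaf 0x0) (.leaf 0x0)) (.node (.leaf 0x0) (.leaf 0x0))))) (.node (.node (.node (.node (.leaf 0x0) (.leaf 0x0)) (.node (.leaf 0x0) (.leaf 0x0))) (.node (.node (.leaf 0x0) (.leaf 0x0)) (.node (.leaf 0x0) (.leaf 0x0)))) (.node (.node (.node (.leaf 0x0) (.leaf 0x0)) (.node (.leaf 0x0) (.leaf 0x0))) (.node (.node (.leaf 0x0) (.leaf 0x0)) (.node (.leaf 0x0) (.leaf 0x0)))))) (.node (.node (.node (.node (.node (.leaf 0x0) (.leaf 0x0)) (.node (.leaf 0x0) (.leaf 0x0))) (.node (.node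 (.leaf 0x0) (.leaf 0x0)) (.node (.leaf 0x0) (.leaf 0x0)))) (.node (.node (.node (.leaf 0x0) (.leaf 0x0)) (.node (.leaf 0x0) (.leaf 0x58f000170072c00004007200015a001e1000f800222000020068300001006aa00218006bf00000))) (.node (.node (.leaf 0x0) (.leaf 0x3c0004d0014600017000cf000040010d000200012f00002006f900001006f700207005bf00000)) (.node (.leaf 0x0) (.leaf 0x0))))) (.node (.node (.node (.node (.leaf 0x0) (.leaf 0x0)) (.node (.leaf 0x0) (.leaf 0x0))) (.node (.node (.leaf 0x0) (.leaf 0x0)) (.node (.leaf 0x0) (.leaf 0x0)))) (.node (.node (.node (.leaf 0x0) (.leaf 0x0)) (.node (.leaf 0x0) (.leaf 0x0))) (.node (.node (.leaf 0x0) (.leaf 0x0)) (.node (.leaf 0x0) (.leaf 0x0))))))))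

/-- eight conjugates of each outer involution -/
def conjT : Trie :=
  (.node (.node (.node (.node conjT0 conjT8) (.node conjT4 conjT12)) (.node (.node conjT2 conjT10) (.node conjT6 conjT14))) (.node (.node (.node conjT1 conjT9) (.node conjT5 conjT13)) (.node (.node conjT3 conjT11) (.node conjT7 conjT15))))

/-- the generators -/
def gens : List ℕ := [1, 2, 3, 4]

/-- the five classes -/
def reps : List ℕ := [1905, 860, 204, 536, 1307]

/-- part of non-commuting partners -/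
def ncA0 : Trie :=
  (.node (.node (.node (.node (.node (.node (.node (.leaf 0x0) (.leaf 0x0)) (.node (.leaf 0x0) (.leaf 0x0))) (.node (.node (.leaf 0x0) (.leaf 0x0)) (.node (.leaf 0x0) (.leaf 0x0)))) (.node (.node (.node (.leaf 0x0) (.leaf 0x0)) (.node (.leaf 0x0) (.leaf 0x0))) (.node (.node (.leaf 0x0) (.leaf 0x0)) (.node (.leaf 0x0) (.leaf 0x0))))) (.node (.node (.node (.node (.leaf 0x0) (.leaf 0x208)) (.node (.leaf 0x0) (.leaf 0x0))) (.node (.node (.leaf 0x0) (.leaf 0x0)) (.node (.leaf 0x0) (.leaf 0x0)))) (.node (.node (.node (.leaf 0x0) (.leaf 0x0)) (.node (.leaf 0x0) (.leaf 0x5f0))) (.node (.node (.leaf 0x0) (.leaf 0x0)) (.node (.leaf 0x0) (.leaf 0x0)))))) (.node (.node (.node (.node (.node (.leaf 0x208) (.leaf 0x208)) (.node (.leaf 0x0) (.leaf 0x0))) (.node (.node (.leaf 0x0) (.leaf 0x0)) (.node (.leaf 0x0) (.leaf 0x0)))) (.node (.node (.node (.leaf 0x0) (.leaf 0x0)) (.node (.leaf 0x0) (.leaf 0x0))) (.node (.node (.leaf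 0x0) (.leaf 0x0)) (.node (.leaf 0x0) (.leaf 0x0))))) (.node (.node (.node (.node (.leaf 0x208) (.leaf 0x0)) (.node (.leaf 0x0) (.leaf 0x0))) (.node (.node (.leaf 0x0) (.leaf 0x0)) (.node (.leaf 0x0) (.leaf 0x0)))) (.node (.node (.node (.leaf 0x0) (.leaf 0x0)) (.node (.leaf 0x0) (.leaf 0x0))) (.node (.node (.leaf 0x0) (.leaf 0x0)) (.node (.leaf 0x208) (.leaf 0x0))))))) (.node (.node (.node (.node (.node (.node (.leaf 0x0) (.leaf 0x0)) (.node (.leaf 0x0) (.leaf 0x0))) (.node (.node (.leaf 0x0) (.leaf 0x0)) (.node (.leaf 0x0) (.leaf 0x208)))) (.node (.node (.node (.leaf 0x0) (.leaf 0x0)) (.node (.leaf 0x0) (.leaf 0x0))) (.node (.node (.leaf 0x0) (.leaf 0x208)) (.node (.leaf 0x0) (.leaf 0x0))))) (.node (.node (.node (.node (.leaf 0x0) (.leaf 0x0)) (.node (.leaf 0x0) (.leaf 0x0))) (.node (.node (.leaf 0x0) (.leaf 0x208)) (.node (.leaf 0x653) (.leaf 0x0)))) (.node (.node (.node (.leaf 0x0) (.leaf 0x0)) (.node (.leaf 0x0) (.leaf 0x0)))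 (.node (.node (.leaf 0x0) (.leaf 0x208)) (.node (.leaf 0x0) (.leaf 0x0)))))) (.node (.node (.node (.node (.node (.leaf 0x5f0) (.leaf 0x0)) (.node (.leaf 0x0) (.leaf 0x208))) (.node (.node (.leaf 0x0) (.leaf 0x0)) (.node (.leaf 0x0) (.leaf 0x0)))) (.node (.node (.node (.leaf 0x0) (.leaf 0x208)) (.node (.leaf 0x0) (.leaf 0x0))) (.node (.node (.leaf 0x0) (.leaf 0x0)) (.node (.leaf 0x0) (.leaf 0x208))))) (.node (.node (.node (.node (.leaf 0x0) (.leaf 0x0)) (.node (.leaf 0x0) (.leaf 0x0))) (.node (.node (.leaf 0x0) (.leaf 0x0)) (.node (.leaf 0x0) (.leaf 0x0)))) (.node (.node (.node (.leaf 0x0) (.leaf 0x0)) (.node (.leaf 0x0) (.leaf 0x0))) (.node (.node (.leaf 0x0) (.leaf 0x0)) (.node (.leaf 0x0) (.leaf 0x653))))))))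

/-- part of non-commuting partners -/
def ncA8 : Trie :=
  (.node (.node (.node (.node (.node (.node (.node (.leaf 0x0) (.leaf 0x0)) (.node (.leaf 0x0) (.leaf 0x0))) (.node (.node (.leaf 0x0) (.leaf 0x208)) (.node (.leaf 0x208) (.leaf 0x0)))) (.node (.node (.node (.leaf 0x0) (.leaf 0x0)) (.node (.leaf 0x0) (.leaf 0x208))) (.node (.node (.leaf 0x0) (.leaf 0x0)) (.node (.leaf 0x0) (.leaf 0x0))))) (.node (.node (.node (.node (.leaf 0x0) (.leaf 0x0)) (.node (.leaf 0x208) (.leaf 0x0))) (.node (.node (.leaf 0x0) (.leaf 0x208)) (.node (.leaf 0x0) (.leaf 0x0)))) (.node (.node (.node (.leaf 0x0) (.leaf 0x0)) (.node (.leaf 0x208) (.leaf 0x0))) (.node (.node (.leaf 0x0) (.leaf 0x0)) (.node (.leaf 0x0) (.leaf 0x0)))))) (.node (.node (.node (.node (.node (.leaf 0x0) (.leaf 0x0)) (.node (.leaf 0x0) (.leaf 0x0))) (.node (.node (.leaf 0x0) (.leaf 0x5f0)) (.node (.leaf 0x0) (.leaf 0x0)))) (.node (.node (.node (.leaf 0x0) (.leaf 0x0)) (.node (.leaf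 0x0) (.leaf 0x0))) (.node (.node (.leaf 0x0) (.leaf 0x0)) (.node (.leaf 0x0) (.leaf 0x0))))) (.node (.node (.node (.node (.leaf 0x0) (.leaf 0x0)) (.node (.leaf 0x0) (.leaf 0x0))) (.node (.node (.leaf 0x0) (.leaf 0x0)) (.node (.leaf 0x0) (.leaf 0x0)))) (.node (.node (.node (.leaf 0x0) (.leaf 0x0)) (.node (.leaf 0x0) (.leaf 0x0))) (.node (.node (.leaf 0x0) (.leaf 0x0)) (.node (.leaf 0x0) (.leaf 0x0))))))) (.node (.node (.node (.node (.node (.node (.leaf 0x0) (.leaf 0x0)) (.node (.leaf 0x0) (.leaf 0x0))) (.node (.node (.leaf 0x0) (.leaf 0x0)) (.node (.leaf 0x0) (.leaf 0x0)))) (.node (.node (.node (.leaf 0x0) (.leaf 0x0)) (.node (.leaf 0x0) (.leaf 0x0))) (.node (.node (.leaf 0x0) (.leaf 0x0)) (.node (.leaf 0x0) (.leaf 0x0))))) (.node (.node (.node (.node (.leaf 0x0) (.leaf 0x0)) (.node (.leaf 0x208) (.leaf 0x0))) (.node (.node (.leaf 0x0) (.leaf 0x0)) (.node (.leaf 0x0) (.leaf 0x0)))) (.node (.node (.node (.leaf 0x0) (.leaf 0x0))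 (.node (.leaf 0x0) (.leaf 0x0))) (.node (.node (.leaf 0x0) (.leaf 0x0)) (.node (.leaf 0x0) (.leaf 0x0)))))) (.node (.node (.node (.node (.node (.leaf 0x0) (.leaf 0x0)) (.node (.leaf 0x0) (.leaf 0x0))) (.node (.node (.leaf 0x0) (.leaf 0x0)) (.node (.leaf 0x208) (.leaf 0x0)))) (.node (.node (.node (.leaf 0x0) (.leaf 0x0)) (.node (.leaf 0x0) (.leaf 0x208))) (.node (.node (.leaf 0x0) (.leaf 0x0)) (.node (.leaf 0x0) (.leaf 0x0))))) (.node (.node (.node (.node (.leaf 0x5f0) (.leaf 0x0)) (.node (.leaf 0x0) (.leaf 0x0))) (.node (.node (.leaf 0x0) (.leaf 0x0)) (.node (.leaf 0x0) (.leaf 0x0)))) (.node (.node (.node (.leaf 0x208) (.leaf 0x0)) (.node (.leaf 0x0) (.leaf 0x0))) (.node (.node (.leaf 0x0) (.leaf 0x0)) (.node (.leaf 0x208) (.leaf 0x0))))))))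

/-- part of non-commuting partners -/
def ncA4 : Trie :=
  (.node (.node (.node (.node (.node (.node (.node (.leaf 0x0) (.leaf 0x0)) (.node (.leaf 0x208) (.leaf 0x0))) (.node (.node (.leaf 0x0) (.leaf 0x0)) (.node (.leaf 0x0) (.leaf 0x0)))) (.node (.node (.node (.leaf 0x0) (.leaf 0x0)) (.node (.leaf 0x0) (.leaf 0x0))) (.node (.node (.leaf 0x0) (.leaf 0x0)) (.node (.leaf 0x653) (.leaf 0x0))))) (.node (.node (.node (.node (.leaf 0x0) (.leaf 0x0)) (.node (.leaf 0x653) (.leaf 0x0))) (.node (.node (.leaf 0x0) (.leaf 0x0)) (.node (.leaf 0x0) (.leaf 0x208)))) (.node (.node (.node (.leaf 0x0) (.leaf 0x0)) (.node (.leaf 0x0) (.leaf 0x0))) (.node (.node (.leaf 0x0) (.leaf 0x0)) (.node (.leaf 0x0) (.leaf 0x0)))))) (.node (.node (.node (.node (.node (.leaf 0x0) (.leaf 0x208)) (.node (.leaf 0x208) (.leaf 0x5f0))) (.node (.node (.leaf 0x0) (.leaf 0x0)) (.node (.leaf 0x0) (.leaf 0x0)))) (.node (.node (.node (.leaf 0x0) (.leaf 0x0)) (.node (.leaf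 0x0) (.leaf 0x0))) (.node (.node (.leaf 0x208) (.leaf 0x0)) (.node (.leaf 0x0) (.leaf 0x0))))) (.node (.node (.node (.node (.leaf 0x0) (.leaf 0x208)) (.node (.leaf 0x0) (.leaf 0x0))) (.node (.node (.leaf 0x0) (.leaf 0x0)) (.node (.leaf 0x0) (.leaf 0x0)))) (.node (.node (.node (.leaf 0x0) (.leaf 0x0)) (.node (.leaf 0x0) (.leaf 0x0))) (.node (.node (.leaf 0x0) (.leaf 0x0)) (.node (.leaf 0x5f0) (.leaf 0x208))))))) (.node (.node (.node (.node (.node (.node (.leaf 0x0) (.leaf 0x208)) (.node (.leaf 0x0) (.leaf 0x0))) (.node (.node (.leaf 0x208) (.leaf 0x0)) (.node (.leaf 0x0) (.leaf 0x0)))) (.node (.node (.node (.leaf 0x0) (.leaf 0x0)) (.node (.leaf 0x0) (.leaf 0x0))) (.node (.node (.leaf 0x653) (.leaf 0x0)) (.node (.leaf 0x0) (.leaf 0x0))))) (.node (.node (.node (.node (.leaf 0x0) (.leaf 0x0)) (.node (.leaf 0x0) (.leaf 0x0))) (.node (.node (.leaf 0x0) (.leaf 0x0)) (.node (.leaf 0x0) (.leaf 0x0)))) (.node (.node (.node (.leaf 0x0) (.leaf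 0x0)) (.node (.leaf 0x0) (.leaf 0x0))) (.node (.node (.leaf 0x0) (.leaf 0x0)) (.node (.leaf 0x0) (.leaf 0x208)))))) (.node (.node (.node (.node (.node (.leaf 0x0) (.leaf 0x0)) (.node (.leaf 0x0) (.leaf 0x0))) (.node (.node (.leaf 0x0) (.leaf 0x208)) (.node (.leaf 0x0) (.leaf 0x0)))) (.node (.node (.node (.leaf 0x0) (.leaf 0x0)) (.node (.leaf 0x0) (.leaf 0x208))) (.node (.node (.leaf 0x0) (.leaf 0x0)) (.node (.leaf 0x0) (.leaf 0x0))))) (.node (.node (.node (.node (.leaf 0x0) (.leaf 0x0)) (.node (.leaf 0x208) (.leaf 0x0))) (.node (.node (.leaf 0x0) (.leaf 0x0)) (.node (.leaf 0x208) (.leaf 0x0)))) (.node (.node (.node (.leaf 0x0) (.leaf 0x0)) (.node (.leaf 0x0) (.leaf 0x0))) (.node (.node (.leaf 0x0) (.leaf 0x0)) (.node (.leaf 0x0) (.leaf 0x0))))))))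

/-- part of non-commuting partners -/
def ncA12 : Trie :=
  (.node (.node (.node (.node (.node (.node (.node (.leaf 0x0) (.leaf 0x0)) (.node (.leaf 0x0) (.leaf 0x0))) (.node (.node (.leaf 0x0) (.leaf 0x0)) (.node (.leaf 0x0) (.leaf 0x0)))) (.node (.node (.node (.leaf 0x0) (.leaf 0x0)) (.node (.leaf 0x0) (.leaf 0x0))) (.node (.node (.leaf 0x208) (.leaf 0x3)) (.node (.leaf 0x0) (.leaf 0x0))))) (.node (.node (.node (.node (.leaf 0x0) (.leaf 0x0)) (.node (.leaf 0x0) (.leaf 0x208))) (.node (.node (.leaf 0x0) (.leaf 0x0)) (.node (.leaf 0x0) (.leaf 0x0)))) (.node (.node (.node (.leaf 0x0) (.leaf 0x0)) (.node (.leaf 0x0) (.leaf 0x0))) (.node (.node (.leaf 0x653) (.leaf 0x0)) (.node (.leaf 0x0) (.leaf 0x0)))))) (.node (.node (.node (.node (.node (.leaf 0x0) (.leaf 0x0)) (.node (.leaf 0x0) (.leaf 0x0))) (.node (.node (.leaf 0x0) (.leaf 0x0)) (.node (.leaf 0x0) (.leaf 0x0)))) (.node (.node (.node (.leaf 0x0) (.leaf 0x0)) (.node (.leaf 0x0)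 (.leaf 0x0))) (.node (.node (.leaf 0x0) (.leaf 0x0)) (.node (.leaf 0x0) (.leaf 0x0))))) (.node (.node (.node (.node (.leaf 0x0) (.leaf 0x0)) (.node (.leaf 0x0) (.leaf 0x0))) (.node (.node (.leaf 0x0) (.leaf 0x0)) (.node (.leaf 0x0) (.leaf 0x0)))) (.node (.node (.node (.leaf 0x0) (.leaf 0x0)) (.node (.leaf 0x0) (.leaf 0x0))) (.node (.node (.leaf 0x0) (.leaf 0x0)) (.node (.leaf 0x0) (.leaf 0x0))))))) (.node (.node (.node (.node (.node (.node (.leaf 0x0) (.leaf 0x0)) (.node (.leaf 0x0) (.leaf 0x0))) (.node (.node (.leaf 0x0) (.leaf 0x0)) (.node (.leaf 0x0) (.leaf 0x208)))) (.node (.node (.node (.leaf 0x0) (.leaf 0x0)) (.node (.leaf 0x0) (.leaf 0x0))) (.node (.node (.leaf 0x653) (.leaf 0x0)) (.node (.leaf 0x0) (.leaf 0x0))))) (.node (.node (.node (.node (.leaf 0x0) (.leaf 0x0)) (.node (.leaf 0x0) (.leaf 0x0))) (.node (.node (.leaf 0x0) (.leaf 0x0)) (.node (.leaf 0x0) (.leaf 0x0)))) (.node (.node (.node (.leaf 0x0) (.leaf 0x0)) (.node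 (.leaf 0x0) (.leaf 0x0))) (.node (.node (.leaf 0x0) (.leaf 0x0)) (.node (.leaf 0x0) (.leaf 0x0)))))) (.node (.node (.node (.node (.node (.leaf 0x5f0) (.leaf 0x208)) (.node (.leaf 0x0) (.leaf 0x208))) (.node (.node (.leaf 0x0) (.leaf 0x208)) (.node (.leaf 0x0) (.leaf 0x653)))) (.node (.node (.node (.leaf 0x0) (.leaf 0x0)) (.node (.leaf 0x0) (.leaf 0x0))) (.node (.node (.leaf 0x0) (.leaf 0x0)) (.node (.leaf 0x0) (.leaf 0x0))))) (.node (.node (.node (.node (.leaf 0x0) (.leaf 0x208)) (.node (.leaf 0x0) (.leaf 0x0))) (.node (.node (.leaf 0x0) (.leaf 0x0)) (.node (.leaf 0x0) (.leaf 0x3)))) (.node (.node (.node (.leaf 0x0) (.leaf 0x0)) (.node (.leaf 0x0) (.leaf 0x0))) (.node (.node (.leaf 0x208) (.leaf 0x0)) (.node (.leaf 0x0) (.leaf 0x0))))))))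

/-- part of non-commuting partners -/
def ncA2 : Trie :=
  (.node (.node (.node (.node (.node (.node (.node (.leaf 0x208) (.leaf 0x0)) (.node (.leaf 0x0) (.leaf 0x0))) (.node (.node (.leaf 0x0) (.leaf 0x208)) (.node (.leaf 0x653) (.leaf 0x208)))) (.node (.node (.node (.leaf 0x0) (.leaf 0x0)) (.node (.leaf 0x0) (.leaf 0x0))) (.node (.node (.leaf 0x0) (.leaf 0x0)) (.node (.leaf 0x0) (.leaf 0x0))))) (.node (.node (.node (.node (.leaf 0x0) (.leaf 0x0)) (.node (.leaf 0x0) (.leaf 0x0))) (.node (.node (.leaf 0x0) (.leaf 0x208)) (.node (.leaf 0x0) (.leaf 0x208)))) (.node (.node (.node (.leaf 0x0) (.leaf 0x0)) (.node (.leaf 0x0) (.leaf 0x0))) (.node (.node (.leaf 0x0) (.leaf 0x0)) (.node (.leaf 0x0) (.leaf 0x0)))))) (.node (.node (.node (.node (.node (.leaf 0x0) (.leaf 0x0)) (.node (.leaf 0x0) (.leaf 0x0))) (.node (.node (.leaf 0x0) (.leaf 0x0)) (.node (.leaf 0x0) (.leaf 0x0)))) (.node (.node (.node (.leaf 0x0) (.leaf 0x0)) (.node (.leaf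 0x0) (.leaf 0x0))) (.node (.node (.leaf 0x0) (.leaf 0x0)) (.node (.leaf 0x0) (.leaf 0x0))))) (.node (.node (.node (.node (.leaf 0x0) (.leaf 0x0)) (.node (.leaf 0x0) (.leaf 0x0))) (.node (.node (.leaf 0x0) (.leaf 0x0)) (.node (.leaf 0x0) (.leaf 0x0)))) (.node (.node (.node (.leaf 0x0) (.leaf 0x208)) (.node (.leaf 0x0) (.leaf 0x0))) (.node (.node (.leaf 0x0) (.leaf 0x0)) (.node (.leaf 0x0) (.leaf 0x0))))))) (.node (.node (.node (.node (.node (.node (.leaf 0x208) (.leaf 0x0)) (.node (.leaf 0x0) (.leaf 0x0))) (.node (.node (.leaf 0x0) (.leaf 0x0)) (.node (.leaf 0x0) (.leaf 0x0)))) (.node (.node (.node (.leaf 0x0) (.leaf 0x0)) (.node (.leaf 0x208) (.leaf 0x0))) (.node (.node (.leaf 0x208) (.leaf 0x0)) (.node (.leaf 0x0) (.leaf 0x0))))) (.node (.node (.node (.node (.leaf 0x0) (.leaf 0x0)) (.node (.leaf 0x208) (.leaf 0x3))) (.node (.node (.leaf 0x208) (.leaf 0x0)) (.node (.leaf 0x0) (.leaf 0x208)))) (.node (.node (.node (.leaf 0x0) (.leaf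 0x0)) (.node (.leaf 0x0) (.leaf 0x0))) (.node (.node (.leaf 0x0) (.leaf 0x0)) (.node (.leaf 0x0) (.leaf 0x0)))))) (.node (.node (.node (.node (.node (.leaf 0x0) (.leaf 0x5f0)) (.node (.leaf 0x653) (.leaf 0x0))) (.node (.node (.leaf 0x0) (.leaf 0x0)) (.node (.leaf 0x0) (.leaf 0x0)))) (.node (.node (.node (.leaf 0x0) (.leaf 0x0)) (.node (.leaf 0x0) (.leaf 0x0))) (.node (.node (.leaf 0x0) (.leaf 0x208)) (.node (.leaf 0x0) (.leaf 0x0))))) (.node (.node (.node (.node (.leaf 0x0) (.leaf 0x0)) (.node (.leaf 0x0) (.leaf 0x0))) (.node (.node (.leaf 0x0) (.leaf 0x0)) (.node (.leaf 0x0) (.leaf 0x0)))) (.node (.node (.node (.leaf 0x0) (.leaf 0x208)) (.node (.leaf 0x0) (.leaf 0x0))) (.node (.node (.leaf 0x0) (.leaf 0x0)) (.node (.leaf 0x5f0) (.leaf 0x0))))))))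

/-- part of non-commuting partners -/
def ncA10 : Trie :=
  (.node (.node (.node (.node (.node (.node (.node (.leaf 0x0) (.leaf 0x5f0)) (.node (.leaf 0x0) (.leaf 0x0))) (.node (.node (.leaf 0x0) (.leaf 0x0)) (.node (.leaf 0x0) (.leaf 0x208)))) (.node (.node (.node (.leaf 0x0) (.leaf 0x0)) (.node (.leaf 0x0) (.leaf 0x0))) (.node (.node (.leaf 0x653) (.leaf 0x0)) (.node (.leaf 0x0) (.leaf 0x0))))) (.node (.node (.node (.node (.leaf 0x0) (.leaf 0x0)) (.node (.leaf 0x0) (.leaf 0x3))) (.node (.node (.leaf 0x0) (.leaf 0x0)) (.node (.leaf 0x0) (.leaf 0x0)))) (.node (.node (.node (.leaf 0x0) (.leaf 0x208)) (.node (.leaf 0x0) (.leaf 0x0))) (.node (.node (.leaf 0x0) (.leaf 0x0)) (.node (.leaf 0x0) (.leaf 0x0)))))) (.node (.node (.node (.node (.node (.leaf 0x0) (.leaf 0x0)) (.node (.leaf 0x0) (.leaf 0x208))) (.node (.node (.leaf 0x0) (.leaf 0x0)) (.node (.leaf 0x0) (.leaf 0x0)))) (.node (.node (.node (.leaf 0x0) (.leaf 0x0)) (.node (.leaf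 0x0) (.leaf 0x0))) (.node (.node (.leaf 0x0) (.leaf 0x0)) (.node (.leaf 0x0) (.leaf 0x0))))) (.node (.node (.node (.node (.leaf 0x0) (.leaf 0x0)) (.node (.leaf 0x0) (.leaf 0x0))) (.node (.node (.leaf 0x0) (.leaf 0x0)) (.node (.leaf 0x0) (.leaf 0x208)))) (.node (.node (.node (.leaf 0x0) (.leaf 0x0)) (.node (.leaf 0x208) (.leaf 0x0))) (.node (.node (.leaf 0x0) (.leaf 0x0)) (.node (.leaf 0x0) (.leaf 0x0))))))) (.node (.node (.node (.node (.node (.node (.leaf 0x0) (.leaf 0x0)) (.node (.leaf 0x0) (.leaf 0x0))) (.node (.node (.leaf 0x0) (.leaf 0x0)) (.node (.leaf 0x0) (.leaf 0x0)))) (.node (.node (.node (.leaf 0x0) (.leaf 0x0)) (.node (.leaf 0x0) (.leaf 0x0))) (.node (.node (.leaf 0x0) (.leaf 0x0)) (.node (.leaf 0x0) (.leaf 0x0))))) (.node (.node (.node (.node (.leaf 0x0) (.leaf 0x0)) (.node (.leaf 0x0) (.leaf 0x0))) (.node (.node (.leaf 0x0) (.leaf 0x0)) (.node (.leaf 0x0) (.leaf 0x0)))) (.node (.node (.node (.leaf 0x208) (.leaf 0x0))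 (.node (.leaf 0x0) (.leaf 0x208))) (.node (.node (.leaf 0x0) (.leaf 0x0)) (.node (.leaf 0x0) (.leaf 0x208)))))) (.node (.node (.node (.node (.node (.leaf 0x0) (.leaf 0x0)) (.node (.leaf 0x0) (.leaf 0x0))) (.node (.node (.leaf 0x208) (.leaf 0x0)) (.node (.leaf 0x0) (.leaf 0x0)))) (.node (.node (.node (.leaf 0x0) (.leaf 0x208)) (.node (.leaf 0x0) (.leaf 0x0))) (.node (.node (.leaf 0x0) (.leaf 0x0)) (.node (.leaf 0x0) (.leaf 0x0))))) (.node (.node (.node (.node (.leaf 0x0) (.leaf 0x208)) (.node (.leaf 0x0) (.leaf 0x0))) (.node (.node (.leaf 0x0) (.leaf 0x0)) (.node (.leaf 0x0) (.leaf 0x0)))) (.node (.node (.node (.leaf 0x0) (.leaf 0x0)) (.node (.leaf 0x0) (.leaf 0x0))) (.node (.node (.leaf 0x0) (.leaf 0x0)) (.node (.leaf 0x0) (.leaf 0x208))))))))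

/-- part of non-commuting partners -/
def ncA6 : Trie :=
  (.node (.node (.node (.node (.node (.node (.node (.leaf 0x0) (.leaf 0x0)) (.node (.leaf 0x0) (.leaf 0x0))) (.node (.node (.leaf 0x0) (.leaf 0x0)) (.node (.leaf 0x0) (.leaf 0x0)))) (.node (.node (.node (.leaf 0x0) (.leaf 0x0)) (.node (.leaf 0x0) (.leaf 0x0))) (.node (.node (.leaf 0x0) (.leaf 0x0)) (.node (.leaf 0x0) (.leaf 0x0))))) (.node (.node (.node (.node (.leaf 0x0) (.leaf 0x0)) (.node (.leaf 0x0) (.leaf 0x0))) (.node (.node (.leaf 0x0) (.leaf 0x0)) (.node (.leaf 0x0) (.leaf 0x208)))) (.node (.node (.node (.leaf 0x0) (.leaf 0x0)) (.node (.leaf 0x0) (.leaf 0x0))) (.node (.node (.leaf 0x0) (.leaf 0x0)) (.node (.leaf 0x0) (.leaf 0x0)))))) (.node (.node (.node (.node (.node (.leaf 0x0) (.leaf 0x5f0)) (.node (.leaf 0x0) (.leaf 0x0))) (.node (.node (.leaf 0x0) (.leaf 0x0)) (.node (.leaf 0x0) (.leaf 0x0)))) (.node (.node (.node (.leaf 0x0) (.leaf 0x208)) (.node (.leaf 0x0)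 (.leaf 0x0))) (.node (.node (.leaf 0x0) (.leaf 0x0)) (.node (.leaf 0x208) (.leaf 0x0))))) (.node (.node (.node (.node (.leaf 0x0) (.leaf 0x0)) (.node (.leaf 0x0) (.leaf 0x0))) (.node (.node (.leaf 0x0) (.leaf 0x0)) (.node (.leaf 0x0) (.leaf 0x0)))) (.node (.node (.node (.leaf 0x0) (.leaf 0x0)) (.node (.leaf 0x0) (.leaf 0x0))) (.node (.node (.leaf 0x0) (.leaf 0x0)) (.node (.leaf 0x0) (.leaf 0x0))))))) (.node (.node (.node (.node (.node (.node (.leaf 0x0) (.leaf 0x0)) (.node (.leaf 0x0) (.leaf 0x0))) (.node (.node (.leaf 0x0) (.leaf 0x0)) (.node (.leaf 0x0) (.leaf 0x5f0)))) (.node (.node (.node (.leaf 0x208) (.leaf 0x0)) (.node (.leaf 0x0) (.leaf 0x0))) (.node (.node (.leaf 0x0) (.leaf 0x0)) (.node (.leaf 0x0) (.leaf 0x0))))) (.node (.node (.node (.node (.leaf 0x0) (.leaf 0x0)) (.node (.leaf 0x0) (.leaf 0x0))) (.node (.node (.leaf 0x0) (.leaf 0x0)) (.node (.leaf 0x0) (.leaf 0x0)))) (.node (.node (.node (.leaf 0x0) (.leaf 0x0)) (.node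 (.leaf 0x208) (.leaf 0x0))) (.node (.node (.leaf 0x208) (.leaf 0x208)) (.node (.leaf 0x0) (.leaf 0x208)))))) (.node (.node (.node (.node (.node (.leaf 0x0) (.leaf 0x0)) (.node (.leaf 0x0) (.leaf 0x0))) (.node (.node (.leaf 0x0) (.leaf 0x0)) (.node (.leaf 0x0) (.leaf 0x0)))) (.node (.node (.node (.leaf 0x0) (.leaf 0x0)) (.node (.leaf 0x0) (.leaf 0x0))) (.node (.node (.leaf 0x0) (.leaf 0x0)) (.node (.leaf 0x0) (.leaf 0x0))))) (.node (.node (.node (.node (.leaf 0x0) (.leaf 0x0)) (.node (.leaf 0x0) (.leaf 0x0))) (.node (.node (.leaf 0x0) (.leaf 0x0)) (.node (.leaf 0x0) (.leaf 0x0)))) (.node (.node (.node (.leaf 0x0) (.leaf 0x0)) (.node (.leaf 0x0) (.leaf 0x0))) (.node (.node (.leaf 0x0) (.leaf 0x0)) (.node (.leaf 0x0) (.leaf 0x208))))))))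

/-- part of non-commuting partners -/
def ncA14 : Trie :=
  (.node (.node (.node (.node (.node (.node (.node (.leaf 0x0) (.leaf 0x0)) (.node (.leaf 0x0) (.leaf 0x0))) (.node (.node (.leaf 0x0) (.leaf 0x0)) (.node (.leaf 0x0) (.leaf 0x0)))) (.node (.node (.node (.leaf 0x0) (.leaf 0x0)) (.node (.leaf 0x0) (.leaf 0x0))) (.node (.node (.leaf 0x0) (.leaf 0x208)) (.node (.leaf 0x0) (.leaf 0x0))))) (.node (.node (.node (.node (.leaf 0x0) (.leaf 0x0)) (.node (.leaf 0x0) (.leaf 0x0))) (.node (.node (.leaf 0x0) (.leaf 0x5f0)) (.node (.leaf 0x0) (.leaf 0x0)))) (.node (.node (.node (.leaf 0x208) (.leaf 0x0)) (.node (.leaf 0x0) (.leaf 0x0))) (.node (.node (.leaf 0x0) (.leaf 0x0)) (.node (.leaf 0x208) (.leaf 0x0)))))) (.node (.node (.node (.node (.node (.leaf 0x0) (.leaf 0x0)) (.node (.leaf 0x0) (.leaf 0x0))) (.node (.node (.leaf 0x0) (.leaf 0x0)) (.node (.leaf 0x0) (.leaf 0x0)))) (.node (.node (.node (.leaf 0x0) (.leaf 0x0)) (.node (.leaf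 0x0) (.leaf 0x208))) (.node (.node (.leaf 0x0) (.leaf 0x0)) (.node (.leaf 0x0) (.leaf 0x0))))) (.node (.node (.node (.node (.leaf 0x0) (.leaf 0x0)) (.node (.leaf 0x0) (.leaf 0x208))) (.node (.node (.leaf 0x0) (.leaf 0x0)) (.node (.leaf 0x5f0) (.leaf 0x0)))) (.node (.node (.node (.leaf 0x0) (.leaf 0x0)) (.node (.leaf 0x0) (.leaf 0x0))) (.node (.node (.leaf 0x0) (.leaf 0x0)) (.node (.leaf 0x0) (.leaf 0x208))))))) (.node (.node (.node (.node (.node (.node (.leaf 0x0) (.leaf 0x0)) (.node (.leaf 0x0) (.leaf 0x0))) (.node (.node (.leaf 0x0) (.leaf 0x5f0)) (.node (.leaf 0x0) (.leaf 0x0)))) (.node (.node (.node (.leaf 0x0) (.leaf 0x0)) (.node (.leaf 0x0) (.leaf 0x0))) (.node (.node (.leaf 0x0) (.leaf 0x0)) (.node (.leaf 0x0) (.leaf 0x0))))) (.node (.node (.node (.node (.leaf 0x0) (.leaf 0x0)) (.node (.leaf 0x0) (.leaf 0x0))) (.node (.node (.leaf 0x0) (.leaf 0x0)) (.node (.leaf 0x0) (.leaf 0x0)))) (.node (.node (.node (.leaf 0x0) (.leaf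 0x653)) (.node (.leaf 0x0) (.leaf 0x0))) (.node (.node (.leaf 0x0) (.leaf 0x0)) (.node (.leaf 0x0) (.leaf 0x0)))))) (.node (.node (.node (.node (.node (.leaf 0x653) (.leaf 0x208)) (.node (.leaf 0x0) (.leaf 0x208))) (.node (.node (.leaf 0x0) (.leaf 0x0)) (.node (.leaf 0x0) (.leaf 0x0)))) (.node (.node (.node (.leaf 0x0) (.leaf 0x0)) (.node (.leaf 0x0) (.leaf 0x208))) (.node (.node (.leaf 0x0) (.leaf 0x0)) (.node (.leaf 0x0) (.leaf 0x208))))) (.node (.node (.node (.node (.leaf 0x0) (.leaf 0x0)) (.node (.leaf 0x0) (.leaf 0x0))) (.node (.node (.leaf 0x0) (.leaf 0x0)) (.node (.leaf 0x0) (.leaf 0x0)))) (.node (.node (.node (.leaf 0x0) (.leaf 0x0)) (.node (.leaf 0x0) (.leaf 0x0))) (.node (.node (.leaf 0x0) (.leaf 0x0)) (.node (.leaf 0x0) (.leaf 0x0))))))))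

/-- part of non-commuting partners -/
def ncA1 : Trie :=
  (.node (.node (.node (.node (.node (.node (.node (.leaf 0x0) (.leaf 0x0)) (.node (.leaf 0x0) (.leaf 0x0))) (.node (.node (.leaf 0x0) (.leaf 0x5f0)) (.node (.leaf 0x0) (.leaf 0x0)))) (.node (.node (.node (.leaf 0x0) (.leaf 0x0)) (.node (.leaf 0x0) (.leaf 0x0))) (.node (.node (.leaf 0x0) (.leaf 0x0)) (.node (.leaf 0x0) (.leaf 0x0))))) (.node (.node (.node (.node (.leaf 0x5f0) (.leaf 0x0)) (.node (.leaf 0x0) (.leaf 0x0))) (.node (.node (.leaf 0x0) (.leaf 0x0)) (.node (.leaf 0x0) (.leaf 0x0)))) (.node (.node (.node (.leaf 0x0) (.leaf 0x0)) (.node (.leaf 0x0) (.leaf 0x0))) (.node (.node (.leaf 0x0) (.leaf 0x0)) (.node (.leaf 0x0) (.leaf 0x0)))))) (.node (.node (.node (.node (.node (.leaf 0x0) (.leaf 0x0)) (.node (.leaf 0x208) (.leaf 0x0))) (.node (.node (.leaf 0x5f0) (.leaf 0x0)) (.node (.leaf 0x0) (.leaf 0x0)))) (.node (.node (.node (.leaf 0x208) (.leaf 0x0)) (.node (.leaf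 0x0) (.leaf 0x0))) (.node (.node (.leaf 0x0) (.leaf 0x0)) (.node (.leaf 0x208) (.leaf 0x0))))) (.node (.node (.node (.node (.leaf 0x0) (.leaf 0x0)) (.node (.leaf 0x0) (.leaf 0x0))) (.node (.node (.leaf 0x0) (.leaf 0x0)) (.node (.leaf 0x0) (.leaf 0x0)))) (.node (.node (.node (.leaf 0x0) (.leaf 0x208)) (.node (.leaf 0x0) (.leaf 0x0))) (.node (.node (.leaf 0x0) (.leaf 0x0)) (.node (.leaf 0x0) (.leaf 0x0))))))) (.node (.node (.node (.node (.node (.node (.leaf 0x0) (.leaf 0x0)) (.node (.leaf 0x0) (.leaf 0x208))) (.node (.node (.leaf 0x0) (.leaf 0x0)) (.node (.leaf 0x0) (.leaf 0x0)))) (.node (.node (.node (.leaf 0x5f0) (.leaf 0x0)) (.node (.leaf 0x0) (.leaf 0x0))) (.node (.node (.leaf 0x0) (.leaf 0x0)) (.node (.leaf 0x0) (.leaf 0x0))))) (.node (.node (.node (.node (.leaf 0x0) (.leaf 0x0)) (.node (.leaf 0x0) (.leaf 0x0))) (.node (.node (.leaf 0x0) (.leaf 0x0)) (.node (.leaf 0x0) (.leaf 0x0)))) (.node (.node (.node (.leaf 0x0) (.leaf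 0x0)) (.node (.leaf 0x0) (.leaf 0x208))) (.node (.node (.leaf 0x0) (.leaf 0x0)) (.node (.leaf 0x208) (.leaf 0x0)))))) (.node (.node (.node (.node (.node (.leaf 0x0) (.leaf 0x0)) (.node (.leaf 0x0) (.leaf 0x0))) (.node (.node (.leaf 0x0) (.leaf 0x0)) (.node (.leaf 0x0) (.leaf 0x0)))) (.node (.node (.node (.leaf 0x0) (.leaf 0x0)) (.node (.leaf 0x0) (.leaf 0x0))) (.node (.node (.leaf 0x208) (.leaf 0x0)) (.node (.leaf 0x0) (.leaf 0x0))))) (.node (.node (.node (.node (.leaf 0x0) (.leaf 0x0)) (.node (.leaf 0x208) (.leaf 0x0))) (.node (.node (.leaf 0x208) (.leaf 0x0)) (.node (.leaf 0x0) (.leaf 0x0)))) (.node (.node (.node (.leaf 0x208) (.leaf 0x0)) (.node (.leaf 0x0) (.leaf 0x0))) (.node (.node (.leaf 0x0) (.leaf 0x0)) (.node (.leaf 0x0) (.leaf 0x0))))))))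

/-- part of non-commuting partners -/
def ncA9 : Trie :=
  (.node (.node (.node (.node (.node (.node (.node (.leaf 0x208) (.leaf 0x0)) (.node (.leaf 0x0) (.leaf 0x208))) (.node (.node (.leaf 0x0) (.leaf 0x0)) (.node (.leaf 0x0) (.leaf 0x0)))) (.node (.node (.node (.leaf 0x208) (.leaf 0x0)) (.node (.leaf 0x0) (.leaf 0x0))) (.node (.node (.leaf 0x0) (.leaf 0x0)) (.node (.leaf 0x0) (.leaf 0x0))))) (.node (.node (.node (.node (.leaf 0x0) (.leaf 0x0)) (.node (.leaf 0x0) (.leaf 0x0))) (.node (.node (.leaf 0x0) (.leaf 0x0)) (.node (.leaf 0x0) (.leaf 0x0)))) (.node (.node (.node (.leaf 0x0) (.leaf 0x208)) (.node (.leaf 0x0) (.leaf 0x0))) (.node (.node (.leaf 0x0) (.leaf 0x0)) (.node (.leaf 0x0) (.leaf 0x0)))))) (.node (.node (.node (.node (.node (.leaf 0x0) (.leaf 0x0)) (.node (.leaf 0x0) (.leaf 0x0))) (.node (.node (.leaf 0x208) (.leaf 0x0)) (.node (.leaf 0x0) (.leaf 0x0)))) (.node (.node (.node (.leaf 0x0) (.leaf 0x0)) (.node (.leaf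 0x0) (.leaf 0x0))) (.node (.node (.leaf 0x0) (.leaf 0x0)) (.node (.leaf 0x0) (.leaf 0x0))))) (.node (.node (.node (.node (.leaf 0x0) (.leaf 0x0)) (.node (.leaf 0x0) (.leaf 0x0))) (.node (.node (.leaf 0x0) (.leaf 0x208)) (.node (.leaf 0x0) (.leaf 0x0)))) (.node (.node (.node (.leaf 0x0) (.leaf 0x0)) (.node (.leaf 0x0) (.leaf 0x0))) (.node (.node (.leaf 0x208) (.leaf 0x0)) (.node (.leaf 0x0) (.leaf 0x0))))))) (.node (.node (.node (.node (.node (.node (.leaf 0x0) (.leaf 0x0)) (.node (.leaf 0x0) (.leaf 0x0))) (.node (.node (.leaf 0x0) (.leaf 0x0)) (.node (.leaf 0x0) (.leaf 0x0)))) (.node (.node (.node (.leaf 0x208) (.leaf 0x0)) (.node (.leaf 0x208) (.leaf 0x0))) (.node (.node (.leaf 0x0) (.leaf 0x0)) (.node (.leaf 0x0) (.leaf 0x0))))) (.node (.node (.node (.node (.leaf 0x208) (.leaf 0x208)) (.node (.leaf 0x0) (.leaf 0x0))) (.node (.node (.leaf 0x208) (.leaf 0x0)) (.node (.leaf 0x0) (.leaf 0x0)))) (.node (.node (.node (.leaf 0x0) (.leaf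 0x0)) (.node (.leaf 0x0) (.leaf 0x0))) (.node (.node (.leaf 0x0) (.leaf 0x0)) (.node (.leaf 0x0) (.leaf 0x0)))))) (.node (.node (.node (.node (.node (.leaf 0x0) (.leaf 0x0)) (.node (.leaf 0x208) (.leaf 0x0))) (.node (.node (.leaf 0x0) (.leaf 0x0)) (.node (.leaf 0x0) (.leaf 0x0)))) (.node (.node (.node (.leaf 0x0) (.leaf 0x0)) (.node (.leaf 0x0) (.leaf 0x0))) (.node (.node (.leaf 0x0) (.leaf 0x0)) (.node (.leaf 0x0) (.leaf 0x0))))) (.node (.node (.node (.node (.leaf 0x0) (.leaf 0x0)) (.node (.leaf 0x0) (.leaf 0x208))) (.node (.node (.leaf 0x0) (.leaf 0x0)) (.node (.leaf 0x0) (.leaf 0x0)))) (.node (.node (.node (.leaf 0x0) (.leaf 0x0)) (.node (.leaf 0x0) (.leaf 0x208))) (.node (.node (.leaf 0x0) (.leaf 0x0)) (.node (.leaf 0x0) (.leaf 0x0))))))))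

/-- part of non-commuting partners -/
def ncA5 : Trie :=
  (.node (.node (.node (.node (.node (.node (.node (.leaf 0x0) (.leaf 0x0)) (.node (.leaf 0x0) (.leaf 0x0))) (.node (.node (.leaf 0x0) (.leaf 0x0)) (.node (.leaf 0x208) (.leaf 0x0)))) (.node (.node (.node (.leaf 0x0) (.leaf 0x0)) (.node (.leaf 0x0) (.leaf 0x0))) (.node (.node (.leaf 0x208) (.leaf 0x0)) (.node (.leaf 0x0) (.leaf 0x0))))) (.node (.node (.node (.node (.leaf 0x0) (.leaf 0x0)) (.node (.leaf 0x0) (.leaf 0x0))) (.node (.node (.leaf 0x0) (.leaf 0x0)) (.node (.leaf 0x0) (.leaf 0x0)))) (.node (.node (.node (.leaf 0x208) (.leaf 0x0)) (.node (.leaf 0x0) (.leaf 0x0))) (.node (.node (.leaf 0x0) (.leaf 0x0)) (.node (.leaf 0x0) (.leaf 0x0)))))) (.node (.node (.node (.node (.node (.leaf 0x0) (.leaf 0x0)) (.node (.leaf 0x0) (.leaf 0x0))) (.node (.node (.leaf 0x0) (.leaf 0x0)) (.node (.leaf 0x0) (.leaf 0x0)))) (.node (.node (.node (.leaf 0x0) (.leaf 0x0)) (.node (.leaf 0x0)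 (.leaf 0x0))) (.node (.node (.leaf 0x0) (.leaf 0x0)) (.node (.leaf 0x0) (.leaf 0x0))))) (.node (.node (.node (.node (.leaf 0x0) (.leaf 0x0)) (.node (.leaf 0x208) (.leaf 0x0))) (.node (.node (.leaf 0x0) (.leaf 0x0)) (.node (.leaf 0x0) (.leaf 0x0)))) (.node (.node (.node (.leaf 0x0) (.leaf 0x0)) (.node (.leaf 0x0) (.leaf 0x0))) (.node (.node (.leaf 0x0) (.leaf 0x208)) (.node (.leaf 0x208) (.leaf 0x0))))))) (.node (.node (.node (.node (.node (.node (.leaf 0x0) (.leaf 0x0)) (.node (.leaf 0x0) (.leaf 0x0))) (.node (.node (.leaf 0x0) (.leaf 0x0)) (.node (.leaf 0x208) (.leaf 0x0)))) (.node (.node (.node (.leaf 0x0) (.leaf 0x0)) (.node (.leaf 0x0) (.leaf 0x0))) (.node (.node (.leaf 0x0) (.leaf 0x0)) (.node (.leaf 0x0) (.leaf 0x0))))) (.node (.node (.node (.node (.leaf 0x0) (.leaf 0x0)) (.node (.leaf 0x0) (.leaf 0x0))) (.node (.node (.leaf 0x0) (.leaf 0x0)) (.node (.leaf 0x0) (.leaf 0x0)))) (.node (.node (.node (.leaf 0x0) (.leaf 0x0))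 (.node (.leaf 0x0) (.leaf 0x0))) (.node (.node (.leaf 0x0) (.leaf 0x0)) (.node (.leaf 0x0) (.leaf 0x0)))))) (.node (.node (.node (.node (.node (.leaf 0x0) (.leaf 0x3)) (.node (.leaf 0x0) (.leaf 0x5f0))) (.node (.node (.leaf 0x0) (.leaf 0x0)) (.node (.leaf 0x0) (.leaf 0x0)))) (.node (.node (.node (.leaf 0x208) (.leaf 0x0)) (.node (.leaf 0x0) (.leaf 0x0))) (.node (.node (.leaf 0x0) (.leaf 0x0)) (.node (.leaf 0x208) (.leaf 0x0))))) (.node (.node (.node (.node (.leaf 0x0) (.leaf 0x0)) (.node (.leaf 0x0) (.leaf 0x0))) (.node (.node (.leaf 0x0) (.leaf 0x0)) (.node (.leaf 0x0) (.leaf 0x0)))) (.node (.node (.node (.leaf 0x0) (.leaf 0x208)) (.node (.leaf 0x0) (.leaf 0x0))) (.node (.node (.leaf 0x0) (.leaf 0x0)) (.node (.leaf 0x0) (.leaf 0x0))))))))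

/-- part of non-commuting partners -/
def ncA13 : Trie :=
  (.node (.node (.node (.node (.node (.node (.node (.leaf 0x0) (.leaf 0x0)) (.node (.leaf 0x0) (.leaf 0x0))) (.node (.node (.leaf 0x5f0) (.leaf 0x0)) (.node (.leaf 0x0) (.leaf 0x208)))) (.node (.node (.node (.leaf 0x0) (.leaf 0x0)) (.node (.leaf 0x0) (.leaf 0x0))) (.node (.node (.leaf 0x0) (.leaf 0x0)) (.node (.leaf 0x0) (.leaf 0x208))))) (.node (.node (.node (.node (.leaf 0x0) (.leaf 0x0)) (.node (.leaf 0x208) (.leaf 0x0))) (.node (.node (.leaf 0x0) (.leaf 0x0)) (.node (.leaf 0x208) (.leaf 0x0)))) (.node (.node (.node (.leaf 0x0) (.leaf 0x0)) (.node (.leaf 0x0) (.leaf 0x0))) (.node (.node (.leaf 0x0) (.leaf 0x0)) (.node (.leaf 0x0) (.leaf 0x0)))))) (.node (.node (.node (.node (.node (.leaf 0x0) (.leaf 0x0)) (.node (.leaf 0x0) (.leaf 0x0))) (.node (.node (.leaf 0x0) (.leaf 0x5f0)) (.node (.leaf 0x208) (.leaf 0x0)))) (.node (.node (.node (.leaf 0x0) (.leaf 0x0)) (.node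 (.leaf 0x208) (.leaf 0x0))) (.node (.node (.leaf 0x0) (.leaf 0x0)) (.node (.leaf 0x0) (.leaf 0x0))))) (.node (.node (.node (.node (.leaf 0x0) (.leaf 0x0)) (.node (.leaf 0x0) (.leaf 0x0))) (.node (.node (.leaf 0x208) (.leaf 0x0)) (.node (.leaf 0x0) (.leaf 0x0)))) (.node (.node (.node (.leaf 0x0) (.leaf 0x0)) (.node (.leaf 0x0) (.leaf 0x0))) (.node (.node (.leaf 0x0) (.leaf 0x0)) (.node (.leaf 0x653) (.leaf 0x0))))))) (.node (.node (.node (.node (.node (.node (.leaf 0x0) (.leaf 0x0)) (.node (.leaf 0x208) (.leaf 0x0))) (.node (.node (.leaf 0x0) (.leaf 0x0)) (.node (.leaf 0x0) (.leaf 0x5f0)))) (.node (.node (.node (.leaf 0x0) (.leaf 0x0)) (.node (.leaf 0x0) (.leaf 0x0))) (.node (.node (.leaf 0x0) (.leaf 0x0)) (.node (.leaf 0x0) (.leaf 0x0))))) (.node (.node (.node (.node (.leaf 0x0) (.leaf 0x0)) (.node (.leaf 0x0) (.leaf 0x0))) (.node (.node (.leaf 0x0) (.leaf 0x0)) (.node (.leaf 0x0) (.leaf 0x0)))) (.node (.node (.node (.leaf 0x0)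 (.leaf 0x0)) (.node (.leaf 0x0) (.leaf 0x0))) (.node (.node (.leaf 0x0) (.leaf 0x0)) (.node (.leaf 0x208) (.leaf 0x0)))))) (.node (.node (.node (.node (.node (.leaf 0x0) (.leaf 0x0)) (.node (.leaf 0x0) (.leaf 0x0))) (.node (.node (.leaf 0x208) (.leaf 0x0)) (.node (.leaf 0x0) (.leaf 0x0)))) (.node (.node (.node (.leaf 0x0) (.leaf 0x0)) (.node (.leaf 0x208) (.leaf 0x0))) (.node (.node (.leaf 0x0) (.leaf 0x0)) (.node (.leaf 0x0) (.leaf 0x0))))) (.node (.node (.node (.node (.leaf 0x208) (.leaf 0x0)) (.node (.leaf 0x5f0) (.leaf 0x0))) (.node (.node (.leaf 0x208) (.leaf 0x0)) (.node (.leaf 0x0) (.leaf 0x208)))) (.node (.node (.node (.leaf 0x0) (.leaf 0x0)) (.node (.leaf 0x208) (.leaf 0x0))) (.node (.node (.leaf 0x0) (.leaf 0x0)) (.node (.leaf 0x0) (.leaf 0x0))))))))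

/-- part of non-commuting partners -/
def ncA3 : Trie :=
  (.node (.node (.node (.node (.node (.node (.node (.leaf 0x0) (.leaf 0x0)) (.node (.leaf 0x0) (.leaf 0x0))) (.node (.node (.leaf 0x0) (.leaf 0x0)) (.node (.leaf 0x0) (.leaf 0x0)))) (.node (.node (.node (.leaf 0x0) (.leaf 0x0)) (.node (.leaf 0x0) (.leaf 0x0))) (.node (.node (.leaf 0x208) (.leaf 0x0)) (.node (.leaf 0x0) (.leaf 0x0))))) (.node (.node (.node (.node (.leaf 0x0) (.leaf 0x0)) (.node (.leaf 0x0) (.leaf 0x0))) (.node (.node (.leaf 0x0) (.leaf 0x0)) (.node (.leaf 0x0) (.leaf 0x0)))) (.node (.node (.node (.leaf 0x0) (.leaf 0x208)) (.node (.leaf 0x208) (.leaf 0x0))) (.node (.node (.leaf 0x0) (.leaf 0x0)) (.node (.leaf 0x0) (.leaf 0x0)))))) (.node (.node (.node (.node (.node (.leaf 0x0) (.leaf 0x208)) (.node (.leaf 0x0) (.leaf 0x0))) (.node (.node (.leaf 0x208) (.leaf 0x0)) (.node (.leaf 0x0) (.leaf 0x208)))) (.node (.node (.node (.leaf 0x0) (.leaf 0x0)) (.node (.leaf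 0x0) (.leaf 0x208))) (.node (.node (.leaf 0x0) (.leaf 0x0)) (.node (.leaf 0x0) (.leaf 0x0))))) (.node (.node (.node (.node (.leaf 0x0) (.leaf 0x0)) (.node (.leaf 0x0) (.leaf 0x0))) (.node (.node (.leaf 0x0) (.leaf 0x0)) (.node (.leaf 0x0) (.leaf 0x208)))) (.node (.node (.node (.leaf 0x0) (.leaf 0x0)) (.node (.leaf 0x0) (.leaf 0x0))) (.node (.node (.leaf 0x0) (.leaf 0x0)) (.node (.leaf 0x0) (.leaf 0x0))))))) (.node (.node (.node (.node (.node (.node (.leaf 0x0) (.leaf 0x0)) (.node (.leaf 0x0) (.leaf 0x0))) (.node (.node (.leaf 0x0) (.leaf 0x0)) (.node (.leaf 0x0) (.leaf 0x0)))) (.node (.node (.node (.leaf 0x0) (.leaf 0x0)) (.node (.leaf 0x0) (.leaf 0x3))) (.node (.node (.leaf 0x0) (.leaf 0x0)) (.node (.leaf 0x0) (.leaf 0x0))))) (.node (.node (.node (.node (.leaf 0x0) (.leaf 0x0)) (.node (.leaf 0x0) (.leaf 0x0))) (.node (.node (.leaf 0x0) (.leaf 0x0)) (.node (.leaf 0x0) (.leaf 0x0)))) (.node (.node (.node (.leaf 0x0) (.leaf 0x0))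 (.node (.leaf 0x0) (.leaf 0x0))) (.node (.node (.leaf 0x0) (.leaf 0x0)) (.node (.leaf 0x0) (.leaf 0x0)))))) (.node (.node (.node (.node (.node (.leaf 0x0) (.leaf 0x0)) (.node (.leaf 0x0) (.leaf 0x0))) (.node (.node (.leaf 0x0) (.leaf 0x208)) (.node (.leaf 0x0) (.leaf 0x208)))) (.node (.node (.node (.leaf 0x0) (.leaf 0x0)) (.node (.leaf 0x653) (.leaf 0x0))) (.node (.node (.leaf 0x653) (.leaf 0x0)) (.node (.leaf 0x0) (.leaf 0x0))))) (.node (.node (.node (.node (.leaf 0x0) (.leaf 0x0)) (.node (.leaf 0x0) (.leaf 0x0))) (.node (.node (.leaf 0x0) (.leaf 0x0)) (.node (.leaf 0x0) (.leaf 0x0)))) (.node (.node (.node (.leaf 0x0) (.leaf 0x0)) (.node (.leaf 0x0) (.leaf 0x0))) (.node (.node (.leaf 0x0) (.leaf 0x0)) (.node (.leaf 0x0) (.leaf 0x0))))))))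

/-- part of non-commuting partners -/
def ncA11 : Trie :=
  (.node (.node (.node (.node (.node (.node (.node (.leaf 0x0) (.leaf 0x208)) (.node (.leaf 0x208) (.leaf 0x0))) (.node (.node (.leaf 0x0) (.leaf 0x0)) (.node (.leaf 0x0) (.leaf 0x5f0)))) (.node (.node (.node (.leaf 0x0) (.leaf 0x0)) (.node (.leaf 0x0) (.leaf 0x0))) (.node (.node (.leaf 0x0) (.leaf 0x0)) (.node (.leaf 0x0) (.leaf 0x0))))) (.node (.node (.node (.node (.leaf 0x0) (.leaf 0x0)) (.node (.leaf 0x0) (.leaf 0x0))) (.node (.node (.leaf 0x0) (.leaf 0x0)) (.node (.leaf 0x3) (.leaf 0x0)))) (.node (.node (.node (.leaf 0x0) (.leaf 0x0)) (.node (.leaf 0x0) (.leaf 0x0))) (.node (.node (.leaf 0x0) (.leaf 0x0)) (.node (.leaf 0x0) (.leaf 0x0)))))) (.node (.node (.node (.node (.node (.leaf 0x208) (.leaf 0x0)) (.node (.leaf 0x0) (.leaf 0x0))) (.node (.node (.leaf 0x0) (.leaf 0x0)) (.node (.leaf 0x0) (.leaf 0x0)))) (.node (.node (.node (.leaf 0x208) (.leaf 0x0)) (.node (.leaf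 0x0) (.leaf 0x0))) (.node (.node (.leaf 0x208) (.leaf 0x0)) (.node (.leaf 0x208) (.leaf 0x0))))) (.node (.node (.node (.node (.leaf 0x0) (.leaf 0x0)) (.node (.leaf 0x0) (.leaf 0x0))) (.node (.node (.leaf 0x0) (.leaf 0x0)) (.node (.leaf 0x0) (.leaf 0x0)))) (.node (.node (.node (.leaf 0x0) (.leaf 0x0)) (.node (.leaf 0x0) (.leaf 0x0))) (.node (.node (.leaf 0x0) (.leaf 0x0)) (.node (.leaf 0x0) (.leaf 0x0))))))) (.node (.node (.node (.node (.node (.node (.leaf 0x0) (.leaf 0x0)) (.node (.leaf 0x0) (.leaf 0x0))) (.node (.node (.leaf 0x0) (.leaf 0x0)) (.node (.leaf 0x208) (.leaf 0x0)))) (.node (.node (.node (.leaf 0x0) (.leaf 0x0)) (.node (.leaf 0x0) (.leaf 0x208))) (.node (.node (.leaf 0x0) (.leaf 0x0)) (.node (.leaf 0x0) (.leaf 0x0))))) (.node (.node (.node (.node (.leaf 0x0) (.leaf 0x0)) (.node (.leaf 0x0) (.leaf 0x0))) (.node (.node (.leaf 0x0) (.leaf 0x0)) (.node (.leaf 0x0) (.leaf 0x0)))) (.node (.node (.node (.leaf 0x0) (.leaf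 0x0)) (.node (.leaf 0x0) (.leaf 0x0))) (.node (.node (.leaf 0x0) (.leaf 0x208)) (.node (.leaf 0x208) (.leaf 0x0)))))) (.node (.node (.node (.node (.node (.leaf 0x0) (.leaf 0x0)) (.node (.leaf 0x208) (.leaf 0x0))) (.node (.node (.leaf 0x0) (.leaf 0x0)) (.node (.leaf 0x0) (.leaf 0x0)))) (.node (.node (.node (.leaf 0x0) (.leaf 0x208)) (.node (.leaf 0x0) (.leaf 0x0))) (.node (.node (.leaf 0x0) (.leaf 0x0)) (.node (.leaf 0x0) (.leaf 0x0))))) (.node (.node (.node (.node (.leaf 0x0) (.leaf 0x0)) (.node (.leaf 0x0) (.leaf 0x0))) (.node (.node (.leaf 0x0) (.leaf 0x0)) (.node (.leaf 0x0) (.leaf 0x0)))) (.node (.node (.node (.leaf 0x0) (.leaf 0x0)) (.node (.leaf 0x0) (.leaf 0x0))) (.node (.node (.leaf 0x0) (.leaf 0x0)) (.node (.leaf 0x0) (.leaf 0x0))))))))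

/-- part of non-commuting partners -/
def ncA7 : Trie :=
  (.node (.node (.node (.node (.node (.node (.node (.leaf 0x0) (.leaf 0x208)) (.node (.leaf 0x5f0) (.leaf 0x0))) (.node (.node (.leaf 0x0) (.leaf 0x0)) (.node (.leaf 0x0) (.leaf 0x0)))) (.node (.node (.node (.leaf 0x0) (.leaf 0x208)) (.node (.leaf 0x0) (.leaf 0x208))) (.node (.node (.leaf 0x0) (.leaf 0x0)) (.node (.leaf 0x0) (.leaf 0x208))))) (.node (.node (.node (.node (.leaf 0x0) (.leaf 0x208)) (.node (.leaf 0x0) (.leaf 0x0))) (.node (.node (.leaf 0x0) (.leaf 0x0)) (.node (.leaf 0x208) (.leaf 0x0)))) (.node (.node (.node (.leaf 0x208) (.leaf 0x0)) (.node (.leaf 0x0) (.leaf 0x0))) (.node (.node (.leaf 0x0) (.leaf 0x0)) (.node (.leaf 0x0) (.leaf 0x0)))))) (.node (.node (.node (.node (.node (.leaf 0x0) (.leaf 0x0)) (.node (.leaf 0x0) (.leaf 0x0))) (.node (.node (.leaf 0x0) (.leaf 0x0)) (.node (.leaf 0x0) (.leaf 0x0)))) (.node (.node (.node (.leaf 0x0) (.leaf 0x0)) (.node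 (.leaf 0x0) (.leaf 0x208))) (.node (.node (.leaf 0x0) (.leaf 0x0)) (.node (.leaf 0x0) (.leaf 0x0))))) (.node (.node (.node (.node (.leaf 0x0) (.leaf 0x0)) (.node (.leaf 0x0) (.leaf 0x0))) (.node (.node (.leaf 0x0) (.leaf 0x0)) (.node (.leaf 0x0) (.leaf 0x0)))) (.node (.node (.node (.leaf 0x0) (.leaf 0x0)) (.node (.leaf 0x0) (.leaf 0x0))) (.node (.node (.leaf 0x0) (.leaf 0x0)) (.node (.leaf 0x0) (.leaf 0x0))))))) (.node (.node (.node (.node (.node (.node (.leaf 0x0) (.leaf 0x0)) (.node (.leaf 0x0) (.leaf 0x0))) (.node (.node (.leaf 0x0) (.leaf 0x0)) (.node (.leaf 0x0) (.leaf 0x0)))) (.node (.node (.node (.leaf 0x0) (.leaf 0x0)) (.node (.leaf 0x0) (.leaf 0x0))) (.node (.node (.leaf 0x0) (.leaf 0x0)) (.node (.leaf 0x0) (.leaf 0x0))))) (.node (.node (.node (.node (.leaf 0x0) (.leaf 0x0)) (.node (.leaf 0x0) (.leaf 0x0))) (.node (.node (.leaf 0x0) (.leaf 0x208)) (.node (.leaf 0x0) (.leaf 0x0)))) (.node (.node (.node (.leaf 0x208) (.leaf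 0x0)) (.node (.leaf 0x5f0) (.leaf 0x0))) (.node (.node (.leaf 0x208) (.leaf 0x0)) (.node (.leaf 0x0) (.leaf 0x0)))))) (.node (.node (.node (.node (.node (.leaf 0x0) (.leaf 0x0)) (.node (.leaf 0x0) (.leaf 0x0))) (.node (.node (.leaf 0x0) (.leaf 0x0)) (.node (.leaf 0x0) (.leaf 0x208)))) (.node (.node (.node (.leaf 0x0) (.leaf 0x0)) (.node (.leaf 0x0) (.leaf 0x0))) (.node (.node (.leaf 0x0) (.leaf 0x0)) (.node (.leaf 0x0) (.leaf 0x3))))) (.node (.node (.node (.node (.leaf 0x0) (.leaf 0x0)) (.node (.leaf 0x0) (.leaf 0x0))) (.node (.node (.leaf 0x0) (.leaf 0x208)) (.node (.leaf 0x0) (.leaf 0x0)))) (.node (.node (.node (.leaf 0x0) (.leaf 0x0)) (.node (.leaf 0x0) (.leaf 0x208))) (.node (.node (.leaf 0x0) (.leaf 0x0)) (.node (.leaf 0x208) (.leaf 0x0))))))))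

/-- part of non-commuting partners -/
def ncA15 : Trie :=
  (.node (.node (.node (.node (.node (.node (.node (.leaf 0x0) (.leaf 0x0)) (.node (.leaf 0x0) (.leaf 0x0))) (.node (.node (.leaf 0x0) (.leaf 0x0)) (.node (.leaf 0x5f0) (.leaf 0x0)))) (.node (.node (.node (.leaf 0x208) (.leaf 0x0)) (.node (.leaf 0x0) (.leaf 0x0))) (.node (.node (.leaf 0x0) (.leaf 0x0)) (.node (.leaf 0x0) (.leaf 0x0))))) (.node (.node (.node (.node (.leaf 0x0) (.leaf 0x0)) (.node (.leaf 0x0) (.leaf 0x0))) (.node (.node (.leaf 0x0) (.leaf 0x0)) (.node (.leaf 0x0) (.leaf 0x0)))) (.node (.node (.node (.leaf 0x0) (.leaf 0x0)) (.node (.leaf 0x0) (.leaf 0x0))) (.node (.node (.leaf 0x0) (.leaf 0x0)) (.node (.leaf 0x0) (.leaf 0x0)))))) (.node (.node (.node (.node (.node (.leaf 0x0) (.leaf 0x208)) (.node (.leaf 0x0) (.leaf 0x0))) (.node (.node (.leaf 0x5f0) (.leaf 0x0)) (.node (.leaf 0x0) (.leaf 0x208)))) (.node (.node (.node (.leaf 0x0) (.leaf 0x0)) (.node (.leaf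 0x0) (.leaf 0x0))) (.node (.node (.leaf 0x0) (.leaf 0x0)) (.node (.leaf 0x0) (.leaf 0x0))))) (.node (.node (.node (.node (.leaf 0x0) (.leaf 0x0)) (.node (.leaf 0x0) (.leaf 0x0))) (.node (.node (.leaf 0x0) (.leaf 0x0)) (.node (.leaf 0x0) (.leaf 0x0)))) (.node (.node (.node (.leaf 0x0) (.leaf 0x5f0)) (.node (.leaf 0x0) (.leaf 0x0))) (.node (.node (.leaf 0x0) (.leaf 0x208)) (.node (.leaf 0x0) (.leaf 0x0))))))) (.node (.node (.node (.node (.node (.node (.leaf 0x0) (.leaf 0x0)) (.node (.leaf 0x0) (.leaf 0x0))) (.node (.node (.leaf 0x0) (.leaf 0x0)) (.node (.leaf 0x0) (.leaf 0x208)))) (.node (.node (.node (.leaf 0x208) (.leaf 0x208)) (.node (.leaf 0x0) (.leaf 0x0))) (.node (.node (.leaf 0x0) (.leaf 0x208)) (.node (.leaf 0x0) (.leaf 0x0))))) (.node (.node (.node (.node (.leaf 0x0) (.leaf 0x0)) (.node (.leaf 0x0) (.leaf 0x0))) (.node (.node (.leaf 0x0) (.leaf 0x0)) (.node (.leaf 0x0) (.leaf 0x0)))) (.node (.node (.node (.leaf 0x0) (.leaf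 0x0)) (.node (.leaf 0x208) (.leaf 0x0))) (.node (.node (.leaf 0x0) (.leaf 0x0)) (.node (.leaf 0x0) (.leaf 0x0)))))) (.node (.node (.node (.node (.node (.leaf 0x0) (.leaf 0x0)) (.node (.leaf 0x0) (.leaf 0x0))) (.node (.node (.leaf 0x0) (.leaf 0x0)) (.node (.leaf 0x5f0) (.leaf 0x0)))) (.node (.node (.node (.leaf 0x208) (.leaf 0x0)) (.node (.leaf 0x5f0) (.leaf 0x0))) (.node (.node (.leaf 0x0) (.leaf 0x208)) (.node (.leaf 0x0) (.leaf 0x0))))) (.node (.node (.node (.node (.leaf 0x0) (.leaf 0x0)) (.node (.leaf 0x0) (.leaf 0x0))) (.node (.node (.leaf 0x0) (.leaf 0x0)) (.node (.leaf 0x0) (.leaf 0x208)))) (.node (.node (.node (.leaf 0x0) (.leaf 0x208)) (.node (.leaf 0x0) (.leaf 0x208))) (.node (.node (.leaf 0x0) (.leaf 0x0)) (.node (.leaf 0x0) (.leaf 0x0))))))))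

/-- non-commuting partners -/
def ncA : Trie :=
  (.node (.node (.node (.node ncA0 ncA8) (.node ncA4 ncA12)) (.node (.node ncA2 ncA10) (.node ncA6 ncA14))) (.node (.node (.node ncA1 ncA9) (.node ncA5 ncA13)) (.node (.node ncA3 ncA11) (.node ncA7 ncA15))))

/-- the class, u, u t, w, w t, u w, u w t, a root of w -/
def cent0 : List ℕ := [3, 536, 1648, 204, 860, 478, 1566, 62]

/-- a member of the class as product of two roots of a -/
def dec0 : List ℕ := [548, 287, 897]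

/-- part of non-commuting partners -/
def ncB0 : Trie :=
  (.node (.node (.node (.node (.node (.node (.node (.leaf 0x0) (.leaf 0x0)) (.node (.leaf 0x0) (.leaf 0x0))) (.node (.node (.leaf 0x0) (.leaf 0x0)) (.node (.leaf 0x0) (.leaf 0x0)))) (.node (.node (.node (.leaf 0x0) (.leaf 0x0)) (.node (.leaf 0xa) (.leaf 0x0))) (.node (.node (.leaf 0x0) (.leaf 0x0)) (.node (.leaf 0x0) (.leaf 0x0))))) (.node (.node (.node (.node (.leaf 0x0) (.leaf 0x0)) (.node (.leaf 0x0) (.leaf 0x0))) (.node (.node (.leaf 0x0) (.leaf 0x0)) (.node (.leaf 0x0) (.leaf 0x0)))) (.node (.node (.node (.leaf 0x0) (.leaf 0x0)) (.node (.leaf 0x0) (.leaf 0x0))) (.node (.node (.leaf 0x0) (.leaf 0x2)) (.node (.leaf 0x0) (.leaf 0x0)))))) (.node (.node (.node (.node (.node (.leaf 0x0) (.leaf 0x2)) (.node (.leaf 0x0) (.leaf 0x0))) (.node (.node (.leaf 0x0) (.leaf 0x0)) (.node (.leaf 0x0) (.leaf 0x2)))) (.node (.node (.node (.leaf 0x0) (.leaf 0x0)) (.node (.leaf 0x0) (.leaf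 0x0))) (.node (.node (.leaf 0x0) (.leaf 0x0)) (.node (.leaf 0x0) (.leaf 0x0))))) (.node (.node (.node (.node (.leaf 0x2) (.leaf 0x0)) (.node (.leaf 0x2) (.leaf 0x0))) (.node (.node (.leaf 0x0) (.leaf 0x0)) (.node (.leaf 0x0) (.leaf 0x0)))) (.node (.node (.node (.leaf 0x0) (.leaf 0x0)) (.node (.leaf 0x2) (.leaf 0x0))) (.node (.node (.leaf 0x0) (.leaf 0x0)) (.node (.leaf 0x0) (.leaf 0x0))))))) (.node (.node (.node (.node (.node (.node (.leaf 0x0) (.leaf 0x0)) (.node (.leaf 0x0) (.leaf 0x0))) (.node (.node (.leaf 0x0) (.leaf 0x0)) (.node (.leaf 0x0) (.leaf 0x0)))) (.node (.node (.node (.leaf 0x0) (.leaf 0x0)) (.node (.leaf 0x0) (.leaf 0x2))) (.node (.node (.leaf 0x0) (.leaf 0x0)) (.node (.leaf 0x0) (.leaf 0x0))))) (.node (.node (.node (.node (.leaf 0x0) (.leaf 0x0)) (.node (.leaf 0x0) (.leaf 0x2))) (.node (.node (.leaf 0x0) (.leaf 0x0)) (.node (.leaf 0x2) (.leaf 0x0)))) (.node (.node (.node (.leaf 0x0) (.leaf 0x0)) (.node (.leaf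 0x0) (.leaf 0x0))) (.node (.node (.leaf 0x0) (.leaf 0x0)) (.node (.leaf 0x0) (.leaf 0x0)))))) (.node (.node (.node (.node (.node (.leaf 0x0) (.leaf 0x0)) (.node (.leaf 0x0) (.leaf 0x0))) (.node (.node (.leaf 0x0) (.leaf 0x0)) (.node (.leaf 0x0) (.leaf 0x2)))) (.node (.node (.node (.leaf 0x0) (.leaf 0x2)) (.node (.leaf 0x0) (.leaf 0x0))) (.node (.node (.leaf 0x0) (.leaf 0x0)) (.node (.leaf 0x0) (.leaf 0x2))))) (.node (.node (.node (.node (.leaf 0x0) (.leaf 0x0)) (.node (.leaf 0x0) (.leaf 0x0))) (.node (.node (.leaf 0x0) (.leaf 0x0)) (.node (.leaf 0x0) (.leaf 0x0)))) (.node (.node (.node (.leaf 0x0) (.leaf 0x2)) (.node (.leaf 0x0) (.leaf 0x0))) (.node (.node (.leaf 0x0) (.leaf 0x0)) (.node (.leaf 0x0) (.leaf 0x2))))))))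

/-- part of non-commuting partners -/
def ncB8 : Trie :=
  (.node (.node (.node (.node (.node (.node (.node (.leaf 0x0) (.leaf 0x2)) (.node (.leaf 0x0) (.leaf 0x2))) (.node (.node (.leaf 0x0) (.leaf 0x0)) (.node (.leaf 0x0) (.leaf 0x0)))) (.node (.node (.node (.leaf 0x0) (.leaf 0x2)) (.node (.leaf 0x0) (.leaf 0x0))) (.node (.node (.leaf 0x0) (.leaf 0x0)) (.node (.leaf 0x0) (.leaf 0x0))))) (.node (.node (.node (.node (.leaf 0x0) (.leaf 0x0)) (.node (.leaf 0x0) (.leaf 0x0))) (.node (.node (.leaf 0x0) (.leaf 0x0)) (.node (.leaf 0x0) (.leaf 0x0)))) (.node (.node (.node (.leaf 0x0) (.leaf 0x0)) (.node (.leaf 0x0) (.leaf 0xa))) (.node (.node (.leaf 0x0) (.leaf 0x0)) (.node (.leaf 0x0) (.leaf 0x0)))))) (.node (.node (.node (.node (.node (.leaf 0x0) (.leaf 0x0)) (.node (.leaf 0x0) (.leaf 0x2))) (.node (.node (.leaf 0x0) (.leaf 0x0)) (.node (.leaf 0x0) (.leaf 0x2)))) (.node (.node (.node (.leaf 0x0) (.leaf 0x0)) (.node (.leaf 0x0) (.leaf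 0x0))) (.node (.node (.leaf 0x0) (.leaf 0x2)) (.node (.leaf 0x0) (.leaf 0x0))))) (.node (.node (.node (.node (.leaf 0x0) (.leaf 0x2)) (.node (.leaf 0x0) (.leaf 0x0))) (.node (.node (.leaf 0x0) (.leaf 0x0)) (.node (.leaf 0x0) (.leaf 0x2)))) (.node (.node (.node (.leaf 0x0) (.leaf 0x0)) (.node (.leaf 0x0) (.leaf 0x0))) (.node (.node (.leaf 0x2) (.leaf 0x0)) (.node (.leaf 0x0) (.leaf 0x0))))))) (.node (.node (.node (.node (.node (.node (.leaf 0x0) (.leaf 0x0)) (.node (.leaf 0x0) (.leaf 0x0))) (.node (.node (.leaf 0x0) (.leaf 0x0)) (.node (.leaf 0x0) (.leaf 0x0)))) (.node (.node (.node (.leaf 0x0) (.leaf 0x0)) (.node (.leaf 0x0) (.leaf 0x0))) (.node (.node (.leaf 0x0) (.leaf 0x0)) (.node (.leaf 0x0) (.leaf 0x0))))) (.node (.node (.node (.node (.leaf 0x0) (.leaf 0x0)) (.node (.leaf 0xa) (.leaf 0x0))) (.node (.node (.leaf 0x0) (.leaf 0x0)) (.node (.leaf 0x0) (.leaf 0x0)))) (.node (.node (.node (.leaf 0x2) (.leaf 0x0)) (.node (.leaf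 0x0) (.leaf 0x0))) (.node (.node (.leaf 0x0) (.leaf 0x0)) (.node (.leaf 0x0) (.leaf 0x0)))))) (.node (.node (.node (.node (.node (.leaf 0x0) (.leaf 0x0)) (.node (.leaf 0x0) (.leaf 0x0))) (.node (.node (.leaf 0x0) (.leaf 0x0)) (.node (.leaf 0x0) (.leaf 0x0)))) (.node (.node (.node (.leaf 0x0) (.leaf 0x0)) (.node (.leaf 0x0) (.leaf 0x0))) (.node (.node (.leaf 0x0) (.leaf 0x0)) (.node (.leaf 0x0) (.leaf 0x0))))) (.node (.node (.node (.node (.leaf 0x2) (.leaf 0x0)) (.node (.leaf 0x0) (.leaf 0x0))) (.node (.node (.leaf 0x2) (.leaf 0x0)) (.node (.leaf 0x0) (.leaf 0x0)))) (.node (.node (.node (.leaf 0x0) (.leaf 0x0)) (.node (.leaf 0x0) (.leaf 0x0))) (.node (.node (.leaf 0x0) (.leaf 0x0)) (.node (.leaf 0x0) (.leaf 0x2))))))))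

/-- part of non-commuting partners -/
def ncB4 : Trie :=
  (.node (.node (.node (.node (.node (.node (.node (.leaf 0x0) (.leaf 0x0)) (.node (.leaf 0x0) (.leaf 0x0))) (.node (.node (.leaf 0x0) (.leaf 0x0)) (.node (.leaf 0x0) (.leaf 0x0)))) (.node (.node (.node (.leaf 0x0) (.leaf 0x0)) (.node (.leaf 0x0) (.leaf 0x0))) (.node (.node (.leaf 0x0) (.leaf 0xa)) (.node (.leaf 0x2) (.leaf 0x0))))) (.node (.node (.node (.node (.leaf 0x0) (.leaf 0x0)) (.node (.leaf 0x0) (.leaf 0x0))) (.node (.node (.leaf 0x0) (.leaf 0x0)) (.node (.leaf 0x0) (.leaf 0x0)))) (.node (.node (.node (.leaf 0x0) (.leaf 0x0)) (.node (.leaf 0xa) (.leaf 0x0))) (.node (.node (.leaf 0x0) (.leaf 0x0)) (.node (.leaf 0x0) (.leaf 0x0)))))) (.node (.node (.node (.node (.node (.leaf 0x0) (.leaf 0x0)) (.node (.leaf 0x0) (.leaf 0x0))) (.node (.node (.leaf 0x2) (.leaf 0x2)) (.node (.leaf 0x0) (.leaf 0x2)))) (.node (.node (.node (.leaf 0x0) (.leaf 0x0)) (.node (.leaf 0x0) (.leaf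 0x0))) (.node (.node (.leaf 0x0) (.leaf 0x0)) (.node (.leaf 0x0) (.leaf 0x0))))) (.node (.node (.node (.node (.leaf 0x2) (.leaf 0x0)) (.node (.leaf 0x0) (.leaf 0x0))) (.node (.node (.leaf 0x0) (.leaf 0x0)) (.node (.leaf 0x0) (.leaf 0x0)))) (.node (.node (.node (.leaf 0x0) (.leaf 0x0)) (.node (.leaf 0x0) (.leaf 0x2))) (.node (.node (.leaf 0x0) (.leaf 0x0)) (.node (.leaf 0xa) (.leaf 0x0))))))) (.node (.node (.node (.node (.node (.node (.leaf 0x0) (.leaf 0xa)) (.node (.leaf 0x0) (.leaf 0x0))) (.node (.node (.leaf 0x0) (.leaf 0xa)) (.node (.leaf 0x0) (.leaf 0x0)))) (.node (.node (.node (.leaf 0x0) (.leaf 0x0)) (.node (.leaf 0xa) (.leaf 0x0))) (.node (.node (.leaf 0x0) (.leaf 0x0)) (.node (.leaf 0x0) (.leaf 0x0))))) (.node (.node (.node (.node (.leaf 0x0) (.leaf 0x0)) (.node (.leaf 0x0) (.leaf 0x0))) (.node (.node (.leaf 0x0) (.leaf 0x0)) (.node (.leaf 0x0) (.leaf 0x0)))) (.node (.node (.node (.leaf 0x0) (.leaf 0x0)) (.node (.leaf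 0x0) (.leaf 0x0))) (.node (.node (.leaf 0x0) (.leaf 0x0)) (.node (.leaf 0x0) (.leaf 0x0)))))) (.node (.node (.node (.node (.node (.leaf 0x0) (.leaf 0x0)) (.node (.leaf 0x0) (.leaf 0x0))) (.node (.node (.leaf 0x0) (.leaf 0x0)) (.node (.leaf 0x0) (.leaf 0x0)))) (.node (.node (.node (.leaf 0x0) (.leaf 0x0)) (.node (.leaf 0x2) (.leaf 0x0))) (.node (.node (.leaf 0x0) (.leaf 0xa)) (.node (.leaf 0x0) (.leaf 0x0))))) (.node (.node (.node (.node (.leaf 0x0) (.leaf 0x0)) (.node (.leaf 0x34c) (.leaf 0x0))) (.node (.node (.leaf 0x0) (.leaf 0x0)) (.node (.leaf 0x34c) (.leaf 0x0)))) (.node (.node (.node (.leaf 0x0) (.leaf 0x0)) (.node (.leaf 0x0) (.leaf 0x0))) (.node (.node (.leaf 0x0) (.leaf 0x0)) (.node (.leaf 0x0) (.leaf 0x0))))))))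

/-- part of non-commuting partners -/
def ncB12 : Trie :=
  (.node (.node (.node (.node (.node (.node (.node (.leaf 0x0) (.leaf 0x0)) (.node (.leaf 0x0) (.leaf 0x0))) (.node (.node (.leaf 0x2) (.leaf 0x0)) (.node (.leaf 0x0) (.leaf 0x0)))) (.node (.node (.node (.leaf 0x0) (.leaf 0x0)) (.node (.leaf 0x0) (.leaf 0x0))) (.node (.node (.leaf 0x0) (.leaf 0x0)) (.node (.leaf 0x0) (.leaf 0x0))))) (.node (.node (.node (.node (.leaf 0x2) (.leaf 0x0)) (.node (.leaf 0x0) (.leaf 0x0))) (.node (.node (.leaf 0x0) (.leaf 0x0)) (.node (.leaf 0x0) (.leaf 0x0)))) (.node (.node (.node (.leaf 0x0) (.leaf 0x0)) (.node (.leaf 0x0) (.leaf 0x0))) (.node (.node (.leaf 0x0) (.leaf 0x0)) (.node (.leaf 0x0) (.leaf 0x0)))))) (.node (.node (.node (.node (.node (.leaf 0x0) (.leaf 0x0)) (.node (.leaf 0x0) (.leaf 0x0))) (.node (.node (.leaf 0x2) (.leaf 0x0)) (.node (.leaf 0x0) (.leaf 0x2)))) (.node (.node (.node (.leaf 0x0) (.leaf 0x0)) (.node (.leaf 0x0) (.leaf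 0x0))) (.node (.node (.leaf 0x0) (.leaf 0x0)) (.node (.leaf 0x0) (.leaf 0x0))))) (.node (.node (.node (.node (.leaf 0x0) (.leaf 0x0)) (.node (.leaf 0x0) (.leaf 0x0))) (.node (.node (.leaf 0xa) (.leaf 0x0)) (.node (.leaf 0x0) (.leaf 0x0)))) (.node (.node (.node (.leaf 0x0) (.leaf 0x0)) (.node (.leaf 0x0) (.leaf 0x0))) (.node (.node (.leaf 0x0) (.leaf 0x0)) (.node (.leaf 0x0) (.leaf 0x0))))))) (.node (.node (.node (.node (.node (.node (.leaf 0x2) (.leaf 0x0)) (.node (.leaf 0x0) (.leaf 0x0))) (.node (.node (.leaf 0x0) (.leaf 0x0)) (.node (.leaf 0x0) (.leaf 0x0)))) (.node (.node (.node (.leaf 0x0) (.leaf 0x0)) (.node (.leaf 0xa) (.leaf 0x0))) (.node (.node (.leaf 0x0) (.leaf 0x0)) (.node (.leaf 0x0) (.leaf 0x0))))) (.node (.node (.node (.node (.leaf 0x0) (.leaf 0x0)) (.node (.leaf 0x0) (.leaf 0x0))) (.node (.node (.leaf 0x0) (.leaf 0x0)) (.node (.leaf 0x0) (.leaf 0x0)))) (.node (.node (.node (.leaf 0x0) (.leaf 0x0)) (.node (.leaf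 0x0) (.leaf 0x0))) (.node (.node (.leaf 0x0) (.leaf 0x0)) (.node (.leaf 0x0) (.leaf 0x0)))))) (.node (.node (.node (.node (.node (.leaf 0x0) (.leaf 0x0)) (.node (.leaf 0x0) (.leaf 0x0))) (.node (.node (.leaf 0x0) (.leaf 0x0)) (.node (.leaf 0x2) (.leaf 0x0)))) (.node (.node (.node (.leaf 0x0) (.leaf 0x0)) (.node (.leaf 0x0) (.leaf 0x0))) (.node (.node (.leaf 0x0) (.leaf 0x0)) (.node (.leaf 0x0) (.leaf 0x0))))) (.node (.node (.node (.node (.leaf 0x0) (.leaf 0x0)) (.node (.leaf 0x0) (.leaf 0x0))) (.node (.node (.leaf 0x0) (.leaf 0x0)) (.node (.leaf 0x0) (.leaf 0x2)))) (.node (.node (.node (.leaf 0x2) (.leaf 0x0)) (.node (.leaf 0x0) (.leaf 0x0))) (.node (.node (.leaf 0x0) (.leaf 0x0)) (.node (.leaf 0x0) (.leaf 0x0))))))))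

/-- part of non-commuting partners -/
def ncB2 : Trie :=
  (.node (.node (.node (.node (.node (.node (.node (.leaf 0x0) (.leaf 0x0)) (.node (.leaf 0x0) (.leaf 0x0))) (.node (.node (.leaf 0x0) (.leaf 0x0)) (.node (.leaf 0x2) (.leaf 0x0)))) (.node (.node (.node (.leaf 0x0) (.leaf 0x0)) (.node (.leaf 0x0) (.leaf 0x2))) (.node (.node (.leaf 0xa) (.leaf 0x2)) (.node (.leaf 0x0) (.leaf 0x0))))) (.node (.node (.node (.node (.leaf 0x0) (.leaf 0x0)) (.node (.leaf 0xa) (.leaf 0x0))) (.node (.node (.leaf 0x0) (.leaf 0x0)) (.node (.leaf 0x0) (.leaf 0x0)))) (.node (.node (.node (.leaf 0x0) (.leaf 0x0)) (.node (.leaf 0x0) (.leaf 0x0))) (.node (.node (.leaf 0x0) (.leaf 0x0)) (.node (.leaf 0x0) (.leaf 0x0)))))) (.node (.node (.node (.node (.node (.leaf 0x0) (.leaf 0x0)) (.node (.leaf 0x2) (.leaf 0x0))) (.node (.node (.leaf 0x2) (.leaf 0x0)) (.node (.leaf 0x0) (.leaf 0x0)))) (.node (.node (.node (.leaf 0x0) (.leaf 0x0)) (.node (.leaf 0x0) (.leaf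 0x0))) (.node (.node (.leaf 0x0) (.leaf 0x0)) (.node (.leaf 0x0) (.leaf 0x0))))) (.node (.node (.node (.node (.leaf 0x2) (.leaf 0x0)) (.node (.leaf 0x0) (.leaf 0x0))) (.node (.node (.leaf 0x0) (.leaf 0x0)) (.node (.leaf 0x0) (.leaf 0x0)))) (.node (.node (.node (.leaf 0x0) (.leaf 0x2)) (.node (.leaf 0x0) (.leaf 0x0))) (.node (.node (.leaf 0x0) (.leaf 0x0)) (.node (.leaf 0x2) (.leaf 0x0))))))) (.node (.node (.node (.node (.node (.node (.leaf 0x0) (.leaf 0x0)) (.node (.leaf 0x0) (.leaf 0x0))) (.node (.node (.leaf 0x0) (.leaf 0x0)) (.node (.leaf 0x0) (.leaf 0x0)))) (.node (.node (.node (.leaf 0x0) (.leaf 0x0)) (.node (.leaf 0x2) (.leaf 0x0))) (.node (.node (.leaf 0x0) (.leaf 0xa)) (.node (.leaf 0x0) (.leaf 0x0))))) (.node (.node (.node (.node (.leaf 0x0) (.leaf 0x0)) (.node (.leaf 0x0) (.leaf 0x0))) (.node (.node (.leaf 0x0) (.leaf 0x0)) (.node (.leaf 0x0) (.leaf 0x0)))) (.node (.node (.node (.leaf 0x0) (.leaf 0x0)) (.node (.leaf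 0x0) (.leaf 0x2))) (.node (.node (.leaf 0x0) (.leaf 0x2)) (.node (.leaf 0x0) (.leaf 0x0)))))) (.node (.node (.node (.node (.node (.leaf 0x0) (.leaf 0x2)) (.node (.leaf 0x0) (.leaf 0x0))) (.node (.node (.leaf 0x0) (.leaf 0x0)) (.node (.leaf 0x0) (.leaf 0x0)))) (.node (.node (.node (.leaf 0x0) (.leaf 0x0)) (.node (.leaf 0x0) (.leaf 0x0))) (.node (.node (.leaf 0x0) (.leaf 0x0)) (.node (.leaf 0x0) (.leaf 0x0))))) (.node (.node (.node (.node (.leaf 0x0) (.leaf 0x0)) (.node (.leaf 0x0) (.leaf 0x0))) (.node (.node (.leaf 0x0) (.leaf 0x0)) (.node (.leaf 0x0) (.leaf 0x0)))) (.node (.node (.node (.leaf 0x0) (.leaf 0x0)) (.node (.leaf 0x0) (.leaf 0x0))) (.node (.node (.leaf 0x0) (.leaf 0x0)) (.node (.leaf 0xa) (.leaf 0x0))))))))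

/-- part of non-commuting partners -/
def ncB10 : Trie :=
  (.node (.node (.node (.node (.node (.node (.node (.leaf 0x0) (.leaf 0x2)) (.node (.leaf 0x0) (.leaf 0x0))) (.node (.node (.leaf 0x2) (.leaf 0x2)) (.node (.leaf 0x0) (.leaf 0x0)))) (.node (.node (.node (.leaf 0x2) (.leaf 0x0)) (.node (.leaf 0x0) (.leaf 0x0))) (.node (.node (.leaf 0x0) (.leaf 0x0)) (.node (.leaf 0xa) (.leaf 0x0))))) (.node (.node (.node (.node (.leaf 0x0) (.leaf 0x0)) (.node (.leaf 0x0) (.leaf 0x0))) (.node (.node (.leaf 0x0) (.leaf 0x0)) (.node (.leaf 0x0) (.leaf 0x0)))) (.node (.node (.node (.leaf 0x0) (.leaf 0x2)) (.node (.leaf 0x0) (.leaf 0x0))) (.node (.node (.leaf 0x0) (.leaf 0x0)) (.node (.leaf 0xa) (.leaf 0x0)))))) (.node (.node (.node (.node (.node (.leaf 0x2) (.leaf 0x0)) (.node (.leaf 0x0) (.leaf 0x0))) (.node (.node (.leaf 0x2) (.leaf 0x34c)) (.node (.leaf 0x0) (.leaf 0x0)))) (.node (.node (.node (.leaf 0x0) (.leaf 0x0)) (.node (.leaf 0x0)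 (.leaf 0x2))) (.node (.node (.leaf 0x34c) (.leaf 0x2)) (.node (.leaf 0x0) (.leaf 0x0))))) (.node (.node (.node (.node (.leaf 0x0) (.leaf 0x0)) (.node (.leaf 0x0) (.leaf 0x2))) (.node (.node (.leaf 0x0) (.leaf 0x34c)) (.node (.leaf 0x0) (.leaf 0x0)))) (.node (.node (.node (.leaf 0x0) (.leaf 0x0)) (.node (.leaf 0x0) (.leaf 0x0))) (.node (.node (.leaf 0x0) (.leaf 0x0)) (.node (.leaf 0x0) (.leaf 0x0))))))) (.node (.node (.node (.node (.node (.node (.leaf 0x0) (.leaf 0x0)) (.node (.leaf 0x0) (.leaf 0x0))) (.node (.node (.leaf 0x0) (.leaf 0x0)) (.node (.leaf 0x0) (.leaf 0x0)))) (.node (.node (.node (.leaf 0x0) (.leaf 0x0)) (.node (.leaf 0x0) (.leaf 0x0))) (.node (.node (.leaf 0x2) (.leaf 0xa)) (.node (.leaf 0x2) (.leaf 0x0))))) (.node (.node (.node (.node (.leaf 0x0) (.leaf 0x0)) (.node (.leaf 0x0) (.leaf 0x0))) (.node (.node (.leaf 0xa) (.leaf 0x0)) (.node (.leaf 0x0) (.leaf 0x0)))) (.node (.node (.node (.leaf 0x0) (.leaf 0x0)) (.node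 (.leaf 0x0) (.leaf 0x0))) (.node (.node (.leaf 0x0) (.leaf 0x0)) (.node (.leaf 0x0) (.leaf 0x0)))))) (.node (.node (.node (.node (.node (.leaf 0x0) (.leaf 0x0)) (.node (.leaf 0x0) (.leaf 0x0))) (.node (.node (.leaf 0x0) (.leaf 0x2)) (.node (.leaf 0x0) (.leaf 0x0)))) (.node (.node (.node (.leaf 0x0) (.leaf 0x0)) (.node (.leaf 0x0) (.leaf 0x0))) (.node (.node (.leaf 0x0) (.leaf 0x0)) (.node (.leaf 0x0) (.leaf 0x0))))) (.node (.node (.node (.node (.leaf 0x0) (.leaf 0x0)) (.node (.leaf 0x0) (.leaf 0x0))) (.node (.node (.leaf 0x34c) (.leaf 0x0)) (.node (.leaf 0x0) (.leaf 0x0)))) (.node (.node (.node (.leaf 0x2) (.leaf 0x0)) (.node (.leaf 0x0) (.leaf 0x0))) (.node (.node (.leaf 0x0) (.leaf 0x0)) (.node (.leaf 0xa) (.leaf 0x2))))))))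

/-- part of non-commuting partners -/
def ncB6 : Trie :=
  (.node (.node (.node (.node (.node (.node (.node (.leaf 0xa) (.leaf 0x0)) (.node (.leaf 0x0) (.leaf 0x0))) (.node (.node (.leaf 0x0) (.leaf 0x0)) (.node (.leaf 0x0) (.leaf 0x0)))) (.node (.node (.node (.leaf 0x0) (.leaf 0x0)) (.node (.leaf 0xa) (.leaf 0x0))) (.node (.node (.leaf 0x0) (.leaf 0x0)) (.node (.leaf 0x0) (.leaf 0x0))))) (.node (.node (.node (.node (.leaf 0x0) (.leaf 0x0)) (.node (.leaf 0x0) (.leaf 0x0))) (.node (.node (.leaf 0x2) (.leaf 0x0)) (.node (.leaf 0x0) (.leaf 0x0)))) (.node (.node (.node (.leaf 0x0) (.leaf 0x0)) (.node (.leaf 0x0) (.leaf 0x0))) (.node (.node (.leaf 0x2) (.leaf 0x2)) (.node (.leaf 0x0) (.leaf 0x0)))))) (.node (.node (.node (.node (.node (.leaf 0x0) (.leaf 0x2)) (.node (.leaf 0x0) (.leaf 0x0))) (.node (.node (.leaf 0x0) (.leaf 0x0)) (.node (.leaf 0x0) (.leaf 0x0)))) (.node (.node (.node (.leaf 0x0) (.leaf 0x0)) (.node (.leaf 0x0) (.leaf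 0x0))) (.node (.node (.leaf 0x0) (.leaf 0x0)) (.node (.leaf 0x0) (.leaf 0x0))))) (.node (.node (.node (.node (.leaf 0x0) (.leaf 0x0)) (.node (.leaf 0x0) (.leaf 0x0))) (.node (.node (.leaf 0xa) (.leaf 0x0)) (.node (.leaf 0x0) (.leaf 0x0)))) (.node (.node (.node (.leaf 0x0) (.leaf 0x0)) (.node (.leaf 0x0) (.leaf 0x0))) (.node (.node (.leaf 0x0) (.leaf 0x0)) (.node (.leaf 0x0) (.leaf 0x0))))))) (.node (.node (.node (.node (.node (.node (.leaf 0x0) (.leaf 0x0)) (.node (.leaf 0x0) (.leaf 0x0))) (.node (.node (.leaf 0x0) (.leaf 0x0)) (.node (.leaf 0x0) (.leaf 0x0)))) (.node (.node (.node (.leaf 0x0) (.leaf 0x0)) (.node (.leaf 0x0) (.leaf 0x0))) (.node (.node (.leaf 0x0) (.leaf 0x0)) (.node (.leaf 0x0) (.leaf 0x0))))) (.node (.node (.node (.node (.leaf 0x0) (.leaf 0x0)) (.node (.leaf 0x0) (.leaf 0x0))) (.node (.node (.leaf 0x0) (.leaf 0x0)) (.node (.leaf 0x0) (.leaf 0x0)))) (.node (.node (.node (.leaf 0x0) (.leaf 0x0)) (.node (.leaf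 0x0) (.leaf 0x0))) (.node (.node (.leaf 0x0) (.leaf 0x0)) (.node (.leaf 0x0) (.leaf 0x0)))))) (.node (.node (.node (.node (.node (.leaf 0x0) (.leaf 0x0)) (.node (.leaf 0x2) (.leaf 0x0))) (.node (.node (.leaf 0x0) (.leaf 0x0)) (.node (.leaf 0x0) (.leaf 0x0)))) (.node (.node (.node (.leaf 0x0) (.leaf 0x0)) (.node (.leaf 0x0) (.leaf 0x0))) (.node (.node (.leaf 0x0) (.leaf 0x0)) (.node (.leaf 0x0) (.leaf 0x0))))) (.node (.node (.node (.node (.leaf 0x2) (.leaf 0x0)) (.node (.leaf 0x0) (.leaf 0x0))) (.node (.node (.leaf 0x0) (.leaf 0x0)) (.node (.leaf 0xa) (.leaf 0x0)))) (.node (.node (.node (.leaf 0x0) (.leaf 0x0)) (.node (.leaf 0x0) (.leaf 0x0))) (.node (.node (.leaf 0x0) (.leaf 0x0)) (.node (.leaf 0x0) (.leaf 0x0))))))))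

/-- part of non-commuting partners -/
def ncB14 : Trie :=
  (.node (.node (.node (.node (.node (.node (.node (.leaf 0x0) (.leaf 0x0)) (.node (.leaf 0x0) (.leaf 0x0))) (.node (.node (.leaf 0x0) (.leaf 0xa)) (.node (.leaf 0x0) (.leaf 0x2)))) (.node (.node (.node (.leaf 0x0) (.leaf 0x2)) (.node (.leaf 0x0) (.leaf 0x0))) (.node (.node (.leaf 0x0) (.leaf 0x0)) (.node (.leaf 0x0) (.leaf 0x0))))) (.node (.node (.node (.node (.leaf 0x0) (.leaf 0x0)) (.node (.leaf 0x0) (.leaf 0x2))) (.node (.node (.leaf 0x0) (.leaf 0x0)) (.node (.leaf 0x0) (.leaf 0x0)))) (.node (.node (.node (.leaf 0x0) (.leaf 0x0)) (.node (.leaf 0x0) (.leaf 0x0))) (.node (.node (.leaf 0x0) (.leaf 0x0)) (.node (.leaf 0x34c) (.leaf 0x0)))))) (.node (.node (.node (.node (.node (.leaf 0x0) (.leaf 0x0)) (.node (.leaf 0x0) (.leaf 0x2))) (.node (.node (.leaf 0x0) (.leaf 0x0)) (.node (.leaf 0x0) (.leaf 0x0)))) (.node (.node (.node (.leaf 0x0) (.leaf 0x2)) (.node (.leaf 0x0)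 (.leaf 0x0))) (.node (.node (.leaf 0x0) (.leaf 0x0)) (.node (.leaf 0x0) (.leaf 0x0))))) (.node (.node (.node (.node (.leaf 0x0) (.leaf 0x0)) (.node (.leaf 0x0) (.leaf 0x0))) (.node (.node (.leaf 0x0) (.leaf 0xa)) (.node (.leaf 0xa) (.leaf 0x0)))) (.node (.node (.node (.leaf 0x0) (.leaf 0x0)) (.node (.leaf 0x0) (.leaf 0x0))) (.node (.node (.leaf 0x0) (.leaf 0x0)) (.node (.leaf 0x0) (.leaf 0x0))))))) (.node (.node (.node (.node (.node (.node (.leaf 0x0) (.leaf 0x0)) (.node (.leaf 0x0) (.leaf 0x0))) (.node (.node (.leaf 0x0) (.leaf 0x0)) (.node (.leaf 0x0) (.leaf 0x0)))) (.node (.node (.node (.leaf 0x0) (.leaf 0x0)) (.node (.leaf 0x0) (.leaf 0x0))) (.node (.node (.leaf 0x0) (.leaf 0x0)) (.node (.leaf 0x0) (.leaf 0x0))))) (.node (.node (.node (.node (.leaf 0x0) (.leaf 0x0)) (.node (.leaf 0x0) (.leaf 0x0))) (.node (.node (.leaf 0x0) (.leaf 0xa)) (.node (.leaf 0x0) (.leaf 0x0)))) (.node (.node (.node (.leaf 0x0) (.leaf 0x2)) (.node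 (.leaf 0x0) (.leaf 0x0))) (.node (.node (.leaf 0x0) (.leaf 0xa)) (.node (.leaf 0x0) (.leaf 0x0)))))) (.node (.node (.node (.node (.node (.leaf 0x2) (.leaf 0xa)) (.node (.leaf 0x0) (.leaf 0x0))) (.node (.node (.leaf 0xa) (.leaf 0x0)) (.node (.leaf 0x0) (.leaf 0x0)))) (.node (.node (.node (.leaf 0x0) (.leaf 0x0)) (.node (.leaf 0x0) (.leaf 0x0))) (.node (.node (.leaf 0x0) (.leaf 0x0)) (.node (.leaf 0xa) (.leaf 0x0))))) (.node (.node (.node (.node (.leaf 0x0) (.leaf 0x0)) (.node (.leaf 0x0) (.leaf 0x2))) (.node (.node (.leaf 0x0) (.leaf 0x0)) (.node (.leaf 0x0) (.leaf 0x0)))) (.node (.node (.node (.leaf 0x2) (.leaf 0x0)) (.node (.leaf 0x0) (.leaf 0x0))) (.node (.node (.leaf 0x0) (.leaf 0x0)) (.node (.leaf 0x0) (.leaf 0x0))))))))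

/-- part of non-commuting partners -/
def ncB1 : Trie :=
  (.node (.node (.node (.node (.node (.node (.node (.leaf 0xa) (.leaf 0x0)) (.node (.leaf 0x0) (.leaf 0x0))) (.node (.node (.leaf 0x0) (.leaf 0x2)) (.node (.leaf 0x0) (.leaf 0x0)))) (.node (.node (.node (.leaf 0x0) (.leaf 0x0)) (.node (.leaf 0x0) (.leaf 0x2))) (.node (.node (.leaf 0x0) (.leaf 0x0)) (.node (.leaf 0x0) (.leaf 0x0))))) (.node (.node (.node (.node (.leaf 0x2) (.leaf 0x0)) (.node (.leaf 0x0) (.leaf 0x0))) (.node (.node (.leaf 0x0) (.leaf 0x0)) (.node (.leaf 0x0) (.leaf 0x0)))) (.node (.node (.node (.leaf 0x0) (.leaf 0x0)) (.node (.leaf 0x0) (.leaf 0x0))) (.node (.node (.leaf 0x0) (.leaf 0x2)) (.node (.leaf 0x0) (.leaf 0x0)))))) (.node (.node (.node (.node (.node (.leaf 0x2) (.leaf 0x2)) (.node (.leaf 0x0) (.leaf 0x0))) (.node (.node (.leaf 0x0) (.leaf 0x0)) (.node (.leaf 0x0) (.leaf 0x0)))) (.node (.node (.node (.leaf 0x0) (.leaf 0x0)) (.node (.leaf 0x0) (.leaf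 0x2))) (.node (.node (.leaf 0x0) (.leaf 0x0)) (.node (.leaf 0x0) (.leaf 0x0))))) (.node (.node (.node (.node (.leaf 0x0) (.leaf 0x0)) (.node (.leaf 0x0) (.leaf 0x0))) (.node (.node (.leaf 0x0) (.leaf 0x0)) (.node (.leaf 0x0) (.leaf 0x0)))) (.node (.node (.node (.leaf 0x0) (.leaf 0x2)) (.node (.leaf 0x0) (.leaf 0x0))) (.node (.node (.leaf 0x2) (.leaf 0x0)) (.node (.leaf 0x0) (.leaf 0x0))))))) (.node (.node (.node (.node (.node (.node (.leaf 0x0) (.leaf 0x0)) (.node (.leaf 0x0) (.leaf 0x0))) (.node (.node (.leaf 0x0) (.leaf 0x0)) (.node (.leaf 0x0) (.leaf 0x0)))) (.node (.node (.node (.leaf 0x2) (.leaf 0x0)) (.node (.leaf 0x0) (.leaf 0x0))) (.node (.node (.leaf 0x0) (.leaf 0x0)) (.node (.leaf 0x0) (.leaf 0x0))))) (.node (.node (.node (.node (.leaf 0x0) (.leaf 0x0)) (.node (.leaf 0x0) (.leaf 0x0))) (.node (.node (.leaf 0x0) (.leaf 0x0)) (.node (.leaf 0x0) (.leaf 0x2)))) (.node (.node (.node (.leaf 0x2) (.leaf 0x0)) (.node (.leaf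 0x0) (.leaf 0x0))) (.node (.node (.leaf 0x0) (.leaf 0x0)) (.node (.leaf 0x0) (.leaf 0x2)))))) (.node (.node (.node (.node (.node (.leaf 0x0) (.leaf 0x0)) (.node (.leaf 0x2) (.leaf 0x0))) (.node (.node (.leaf 0x0) (.leaf 0x0)) (.node (.leaf 0x0) (.leaf 0x0)))) (.node (.node (.node (.leaf 0x0) (.leaf 0x0)) (.node (.leaf 0x0) (.leaf 0x0))) (.node (.node (.leaf 0x0) (.leaf 0x0)) (.node (.leaf 0x0) (.leaf 0x0))))) (.node (.node (.node (.node (.leaf 0x0) (.leaf 0x0)) (.node (.leaf 0x0) (.leaf 0x0))) (.node (.node (.leaf 0x0) (.leaf 0x0)) (.node (.leaf 0x0) (.leaf 0x0)))) (.node (.node (.node (.leaf 0x0) (.leaf 0x0)) (.node (.leaf 0x0) (.leaf 0x0))) (.node (.node (.leaf 0x0) (.leaf 0x0)) (.node (.leaf 0x0) (.leaf 0x0))))))))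

/-- part of non-commuting partners -/
def ncB9 : Trie :=
  (.node (.node (.node (.node (.node (.node (.node (.leaf 0x2) (.leaf 0x0)) (.node (.leaf 0x0) (.leaf 0x0))) (.node (.node (.leaf 0x0) (.leaf 0x0)) (.node (.leaf 0x0) (.leaf 0x0)))) (.node (.node (.node (.leaf 0x0) (.leaf 0x0)) (.node (.leaf 0x0) (.leaf 0x0))) (.node (.node (.leaf 0x0) (.leaf 0x0)) (.node (.leaf 0x0) (.leaf 0x0))))) (.node (.node (.node (.node (.leaf 0x0) (.leaf 0x0)) (.node (.leaf 0x0) (.leaf 0x0))) (.node (.node (.leaf 0x0) (.leaf 0x0)) (.node (.leaf 0x0) (.leaf 0x0)))) (.node (.node (.node (.leaf 0x0) (.leaf 0x0)) (.node (.leaf 0x0) (.leaf 0x0))) (.node (.node (.leaf 0x0) (.leaf 0x0)) (.node (.leaf 0x0) (.leaf 0x2)))))) (.node (.node (.node (.node (.node (.leaf 0x0) (.leaf 0x0)) (.node (.leaf 0x0) (.leaf 0x0))) (.node (.node (.leaf 0x0) (.leaf 0x0)) (.node (.leaf 0x0) (.leaf 0x0)))) (.node (.node (.node (.leaf 0x0) (.leaf 0x0)) (.node (.leaf 0x0) (.leaf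 0x0))) (.node (.node (.leaf 0x0) (.leaf 0x0)) (.node (.leaf 0x0) (.leaf 0x0))))) (.node (.node (.node (.node (.leaf 0x0) (.leaf 0x0)) (.node (.leaf 0x0) (.leaf 0x0))) (.node (.node (.leaf 0x0) (.leaf 0x0)) (.node (.leaf 0x0) (.leaf 0x0)))) (.node (.node (.node (.leaf 0x0) (.leaf 0x0)) (.node (.leaf 0x0) (.leaf 0x0))) (.node (.node (.leaf 0x0) (.leaf 0x0)) (.node (.leaf 0x0) (.leaf 0x0))))))) (.node (.node (.node (.node (.node (.node (.leaf 0x0) (.leaf 0x0)) (.node (.leaf 0x0) (.leaf 0x0))) (.node (.node (.leaf 0x0) (.leaf 0x0)) (.node (.leaf 0x0) (.leaf 0x0)))) (.node (.node (.node (.leaf 0x0) (.leaf 0x0)) (.node (.leaf 0x2) (.leaf 0x0))) (.node (.node (.leaf 0x2) (.leaf 0x0)) (.node (.leaf 0x0) (.leaf 0x0))))) (.node (.node (.node (.node (.leaf 0x2) (.leaf 0x0)) (.node (.leaf 0x0) (.leaf 0x0))) (.node (.node (.leaf 0x0) (.leaf 0xa)) (.node (.leaf 0x0) (.leaf 0x0)))) (.node (.node (.node (.leaf 0x0) (.leaf 0x0)) (.node (.leaf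 0x0) (.leaf 0x0))) (.node (.node (.leaf 0x0) (.leaf 0x0)) (.node (.leaf 0x0) (.leaf 0x2)))))) (.node (.node (.node (.node (.node (.leaf 0x2) (.leaf 0x0)) (.node (.leaf 0x0) (.leaf 0x0))) (.node (.node (.leaf 0xa) (.leaf 0x0)) (.node (.leaf 0x0) (.leaf 0x0)))) (.node (.node (.node (.leaf 0x0) (.leaf 0x0)) (.node (.leaf 0x0) (.leaf 0x0))) (.node (.node (.leaf 0x0) (.leaf 0x0)) (.node (.leaf 0xa) (.leaf 0x0))))) (.node (.node (.node (.node (.leaf 0x0) (.leaf 0x0)) (.node (.leaf 0x0) (.leaf 0x0))) (.node (.node (.leaf 0x0) (.leaf 0x0)) (.node (.leaf 0x0) (.leaf 0x0)))) (.node (.node (.node (.leaf 0x0) (.leaf 0x0)) (.node (.leaf 0x0) (.leaf 0x0))) (.node (.node (.leaf 0x0) (.leaf 0x0)) (.node (.leaf 0x0) (.leaf 0x0))))))))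

/-- part of non-commuting partners -/
def ncB5 : Trie :=
  (.node (.node (.node (.node (.node (.node (.node (.leaf 0x0) (.leaf 0x0)) (.node (.leaf 0x0) (.leaf 0x0))) (.node (.node (.leaf 0x0) (.leaf 0x0)) (.node (.leaf 0x0) (.leaf 0x0)))) (.node (.node (.node (.leaf 0x0) (.leaf 0x0)) (.node (.leaf 0x0) (.leaf 0x0))) (.node (.node (.leaf 0x0) (.leaf 0x0)) (.node (.leaf 0x0) (.leaf 0x0))))) (.node (.node (.node (.node (.leaf 0x2) (.leaf 0x0)) (.node (.leaf 0x0) (.leaf 0x0))) (.node (.node (.leaf 0x0) (.leaf 0x0)) (.node (.leaf 0x0) (.leaf 0x0)))) (.node (.node (.node (.leaf 0x0) (.leaf 0x0)) (.node (.leaf 0x0) (.leaf 0x0))) (.node (.node (.leaf 0x2) (.leaf 0x0)) (.node (.leaf 0x0) (.leaf 0x0)))))) (.node (.node (.node (.node (.node (.leaf 0x0) (.leaf 0x0)) (.node (.leaf 0x2) (.leaf 0x0))) (.node (.node (.leaf 0x0) (.leaf 0x0)) (.node (.leaf 0x0) (.leaf 0x0)))) (.node (.node (.node (.leaf 0x0) (.leaf 0x0)) (.node (.leaf 0x0) (.leaf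 0x0))) (.node (.node (.leaf 0x2) (.leaf 0x0)) (.node (.leaf 0x0) (.leaf 0x0))))) (.node (.node (.node (.node (.leaf 0x0) (.leaf 0x0)) (.node (.leaf 0x0) (.leaf 0x0))) (.node (.node (.leaf 0x0) (.leaf 0x0)) (.node (.leaf 0x0) (.leaf 0x0)))) (.node (.node (.node (.leaf 0x2) (.leaf 0x0)) (.node (.leaf 0x0) (.leaf 0x0))) (.node (.node (.leaf 0x0) (.leaf 0x0)) (.node (.leaf 0x0) (.leaf 0x0))))))) (.node (.node (.node (.node (.node (.node (.leaf 0x0) (.leaf 0x0)) (.node (.leaf 0x2) (.leaf 0x0))) (.node (.node (.leaf 0x0) (.leaf 0x0)) (.node (.leaf 0x0) (.leaf 0x0)))) (.node (.node (.node (.leaf 0x0) (.leaf 0x0)) (.node (.leaf 0x0) (.leaf 0x0))) (.node (.node (.leaf 0x0) (.leaf 0x0)) (.node (.leaf 0x0) (.leaf 0x0))))) (.node (.node (.node (.node (.leaf 0x0) (.leaf 0x0)) (.node (.leaf 0x2) (.leaf 0x0))) (.node (.node (.leaf 0x0) (.leaf 0xa)) (.node (.leaf 0x0) (.leaf 0x0)))) (.node (.node (.node (.leaf 0x0) (.leaf 0x0)) (.node (.leaf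 0x0) (.leaf 0x0))) (.node (.node (.leaf 0x0) (.leaf 0x2)) (.node (.leaf 0x0) (.leaf 0x2)))))) (.node (.node (.node (.node (.node (.leaf 0x0) (.leaf 0x2)) (.node (.leaf 0x0) (.leaf 0x0))) (.node (.node (.leaf 0x0) (.leaf 0x0)) (.node (.leaf 0x0) (.leaf 0x0)))) (.node (.node (.node (.leaf 0x2) (.leaf 0x0)) (.node (.leaf 0x0) (.leaf 0x0))) (.node (.node (.leaf 0x2) (.leaf 0x0)) (.node (.leaf 0xa) (.leaf 0x0))))) (.node (.node (.node (.node (.leaf 0x0) (.leaf 0x0)) (.node (.leaf 0x0) (.leaf 0x0))) (.node (.node (.leaf 0x0) (.leaf 0x0)) (.node (.leaf 0x0) (.leaf 0x0)))) (.node (.node (.node (.leaf 0x0) (.leaf 0x0)) (.node (.leaf 0x0) (.leaf 0x0))) (.node (.node (.leaf 0x2) (.leaf 0x0)) (.node (.leaf 0x0) (.leaf 0x0))))))))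

/-- part of non-commuting partners -/
def ncB13 : Trie :=
  (.node (.node (.node (.node (.node (.node (.node (.leaf 0x0) (.leaf 0x0)) (.node (.leaf 0x0) (.leaf 0x2))) (.node (.node (.leaf 0x0) (.leaf 0x2)) (.node (.leaf 0x0) (.leaf 0x0)))) (.node (.node (.node (.leaf 0x2) (.leaf 0x0)) (.node (.leaf 0x0) (.leaf 0x0))) (.node (.node (.leaf 0x0) (.leaf 0x2)) (.node (.leaf 0x0) (.leaf 0x2))))) (.node (.node (.node (.node (.leaf 0x0) (.leaf 0x0)) (.node (.leaf 0x0) (.leaf 0x0))) (.node (.node (.leaf 0x0) (.leaf 0x0)) (.node (.leaf 0x0) (.leaf 0x0)))) (.node (.node (.node (.leaf 0x2) (.leaf 0x0)) (.node (.leaf 0x0) (.leaf 0x0))) (.node (.node (.leaf 0x0) (.leaf 0x0)) (.node (.leaf 0x0) (.leaf 0x2)))))) (.node (.node (.node (.node (.node (.leaf 0x0) (.leaf 0x0)) (.node (.leaf 0x0) (.leaf 0x0))) (.node (.node (.leaf 0x0) (.leaf 0x0)) (.node (.leaf 0x2) (.leaf 0x0)))) (.node (.node (.node (.leaf 0x0) (.leaf 0x0)) (.node (.leaf 0x0) (.leaf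 0x2))) (.node (.node (.leaf 0x0) (.leaf 0x0)) (.node (.leaf 0x0) (.leaf 0x0))))) (.node (.node (.node (.node (.leaf 0x0) (.leaf 0x2)) (.node (.leaf 0x0) (.leaf 0x0))) (.node (.node (.leaf 0x0) (.leaf 0x0)) (.node (.leaf 0x0) (.leaf 0x0)))) (.node (.node (.node (.leaf 0x0) (.leaf 0x0)) (.node (.leaf 0x0) (.leaf 0x0))) (.node (.node (.leaf 0x0) (.leaf 0x0)) (.node (.leaf 0x2) (.leaf 0x0))))))) (.node (.node (.node (.node (.node (.node (.leaf 0x0) (.leaf 0x0)) (.node (.leaf 0x0) (.leaf 0x0))) (.node (.node (.leaf 0x0) (.leaf 0x0)) (.node (.leaf 0x2) (.leaf 0x0)))) (.node (.node (.node (.leaf 0x2) (.leaf 0x0)) (.node (.leaf 0x0) (.leaf 0x0))) (.node (.node (.leaf 0x0) (.leaf 0x0)) (.node (.leaf 0x0) (.leaf 0x0))))) (.node (.node (.node (.node (.leaf 0x0) (.leaf 0x0)) (.node (.leaf 0x0) (.leaf 0x0))) (.node (.node (.leaf 0x0) (.leaf 0x0)) (.node (.leaf 0x0) (.leaf 0x0)))) (.node (.node (.node (.leaf 0x0) (.leaf 0x2)) (.node (.leaf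 0x0) (.leaf 0x0))) (.node (.node (.leaf 0x0) (.leaf 0x0)) (.node (.leaf 0x34c) (.leaf 0x0)))))) (.node (.node (.node (.node (.node (.leaf 0x0) (.leaf 0x0)) (.node (.leaf 0x0) (.leaf 0x0))) (.node (.node (.leaf 0x0) (.leaf 0x0)) (.node (.leaf 0x0) (.leaf 0x0)))) (.node (.node (.node (.leaf 0x2) (.leaf 0x0)) (.node (.leaf 0x0) (.leaf 0x0))) (.node (.node (.leaf 0x2) (.leaf 0x0)) (.node (.leaf 0x0) (.leaf 0x0))))) (.node (.node (.node (.node (.leaf 0x0) (.leaf 0x0)) (.node (.leaf 0xa) (.leaf 0x2))) (.node (.node (.leaf 0x0) (.leaf 0xa)) (.node (.leaf 0x0) (.leaf 0x0)))) (.node (.node (.node (.leaf 0x0) (.leaf 0x0)) (.node (.leaf 0x2) (.leaf 0x0))) (.node (.node (.leaf 0x0) (.leaf 0x0)) (.node (.leaf 0x0) (.leaf 0x0))))))))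

/-- part of non-commuting partners -/
def ncB3 : Trie :=
  (.node (.node (.node (.node (.node (.node (.node (.leaf 0xa) (.leaf 0x0)) (.node (.leaf 0x2) (.leaf 0x0))) (.node (.node (.leaf 0x0) (.leaf 0x0)) (.node (.leaf 0x0) (.leaf 0x0)))) (.node (.node (.node (.leaf 0x0) (.leaf 0x0)) (.node (.leaf 0x0) (.leaf 0x2))) (.node (.node (.leaf 0x0) (.leaf 0x0)) (.node (.leaf 0x0) (.leaf 0x0))))) (.node (.node (.node (.node (.leaf 0x2) (.leaf 0x0)) (.node (.leaf 0x0) (.leaf 0x0))) (.node (.node (.leaf 0x0) (.leaf 0x0)) (.node (.leaf 0x0) (.leaf 0x0)))) (.node (.node (.node (.leaf 0x0) (.leaf 0x0)) (.node (.leaf 0x0) (.leaf 0x0))) (.node (.node (.leaf 0x0) (.leaf 0x2)) (.node (.leaf 0x0) (.leaf 0x0)))))) (.node (.node (.node (.node (.node (.leaf 0x2) (.leaf 0x2)) (.node (.leaf 0x0) (.leaf 0x0))) (.node (.node (.leaf 0x0) (.leaf 0x0)) (.node (.leaf 0x0) (.leaf 0x0)))) (.node (.node (.node (.leaf 0x0) (.leaf 0x0)) (.node (.leaf 0x0) (.leaf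 0x0))) (.node (.node (.leaf 0x0) (.leaf 0x0)) (.node (.leaf 0x0) (.leaf 0x0))))) (.node (.node (.node (.node (.leaf 0x0) (.leaf 0x0)) (.node (.leaf 0x0) (.leaf 0x0))) (.node (.node (.leaf 0xa) (.leaf 0x0)) (.node (.leaf 0x0) (.leaf 0x0)))) (.node (.node (.node (.leaf 0x2) (.leaf 0x2)) (.node (.leaf 0x0) (.leaf 0x0))) (.node (.node (.leaf 0x2) (.leaf 0x0)) (.node (.leaf 0x0) (.leaf 0x0))))))) (.node (.node (.node (.node (.node (.node (.leaf 0x2) (.leaf 0x0)) (.node (.leaf 0x2) (.leaf 0x0))) (.node (.node (.leaf 0x0) (.leaf 0x0)) (.node (.leaf 0x0) (.leaf 0x0)))) (.node (.node (.node (.leaf 0x0) (.leaf 0x0)) (.node (.leaf 0x0) (.leaf 0x0))) (.node (.node (.leaf 0x0) (.leaf 0x0)) (.node (.leaf 0x0) (.leaf 0x0))))) (.node (.node (.node (.node (.leaf 0x0) (.leaf 0x0)) (.node (.leaf 0x0) (.leaf 0x0))) (.node (.node (.leaf 0x0) (.leaf 0x0)) (.node (.leaf 0x0) (.leaf 0x0)))) (.node (.node (.node (.leaf 0x0) (.leaf 0x0)) (.node (.leaf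 0x0) (.leaf 0x2))) (.node (.node (.leaf 0x0) (.leaf 0x0)) (.node (.leaf 0x0) (.leaf 0x0)))))) (.node (.node (.node (.node (.node (.leaf 0x0) (.leaf 0x0)) (.node (.leaf 0x0) (.leaf 0x0))) (.node (.node (.leaf 0x0) (.leaf 0x0)) (.node (.leaf 0x0) (.leaf 0x0)))) (.node (.node (.node (.leaf 0x0) (.leaf 0x0)) (.node (.leaf 0x2) (.leaf 0x0))) (.node (.node (.leaf 0x0) (.leaf 0x0)) (.node (.leaf 0x0) (.leaf 0x0))))) (.node (.node (.node (.node (.leaf 0x0) (.leaf 0x0)) (.node (.leaf 0x0) (.leaf 0x0))) (.node (.node (.leaf 0x0) (.leaf 0x0)) (.node (.leaf 0x0) (.leaf 0x0)))) (.node (.node (.node (.leaf 0x0) (.leaf 0x0)) (.node (.leaf 0x0) (.leaf 0x0))) (.node (.node (.leaf 0x0) (.leaf 0x0)) (.node (.leaf 0x0) (.leaf 0x0))))))))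

/-- part of non-commuting partners -/
def ncB11 : Trie :=
  (.node (.node (.node (.node (.node (.node (.node (.leaf 0x0) (.leaf 0x0)) (.node (.leaf 0x0) (.leaf 0x0))) (.node (.node (.leaf 0x0) (.leaf 0x0)) (.node (.leaf 0x0) (.leaf 0x0)))) (.node (.node (.node (.leaf 0x0) (.leaf 0x0)) (.node (.leaf 0x0) (.leaf 0x0))) (.node (.node (.leaf 0x0) (.leaf 0x0)) (.node (.leaf 0x0) (.leaf 0x0))))) (.node (.node (.node (.node (.leaf 0x0) (.leaf 0x0)) (.node (.leaf 0x0) (.leaf 0x0))) (.node (.node (.leaf 0x0) (.leaf 0x0)) (.node (.leaf 0x2) (.leaf 0x0)))) (.node (.node (.node (.leaf 0x0) (.leaf 0x2)) (.node (.leaf 0x0) (.leaf 0x0))) (.node (.node (.leaf 0x0) (.leaf 0x0)) (.node (.leaf 0xa) (.leaf 0x0)))))) (.node (.node (.node (.node (.node (.leaf 0x0) (.leaf 0x0)) (.node (.leaf 0x0) (.leaf 0x0))) (.node (.node (.leaf 0x0) (.leaf 0x0)) (.node (.leaf 0x0) (.leaf 0x0)))) (.node (.node (.node (.leaf 0x0) (.leaf 0x0)) (.node (.leaf 0x0) (.leaf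 0x0))) (.node (.node (.leaf 0x0) (.leaf 0x0)) (.node (.leaf 0x0) (.leaf 0x0))))) (.node (.node (.node (.node (.leaf 0x2) (.leaf 0x0)) (.node (.leaf 0x0) (.leaf 0x2))) (.node (.node (.leaf 0x0) (.leaf 0x0)) (.node (.leaf 0x0) (.leaf 0x0)))) (.node (.node (.node (.leaf 0x0) (.leaf 0x0)) (.node (.leaf 0x0) (.leaf 0x0))) (.node (.node (.leaf 0x0) (.leaf 0x0)) (.node (.leaf 0x0) (.leaf 0x0))))))) (.node (.node (.node (.node (.node (.node (.leaf 0x0) (.leaf 0x0)) (.node (.leaf 0x0) (.leaf 0x0))) (.node (.node (.leaf 0x0) (.leaf 0x0)) (.node (.leaf 0x0) (.leaf 0x0)))) (.node (.node (.node (.leaf 0x0) (.leaf 0x0)) (.node (.leaf 0x0) (.leaf 0x0))) (.node (.node (.leaf 0x0) (.leaf 0x0)) (.node (.leaf 0x0) (.leaf 0x0))))) (.node (.node (.node (.node (.leaf 0x2) (.leaf 0x0)) (.node (.leaf 0x0) (.leaf 0x2))) (.node (.node (.leaf 0x0) (.leaf 0x0)) (.node (.leaf 0x0) (.leaf 0x0)))) (.node (.node (.node (.leaf 0x0) (.leaf 0x0)) (.node (.leaf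 0x0) (.leaf 0x0))) (.node (.node (.leaf 0x0) (.leaf 0x0)) (.node (.leaf 0x0) (.leaf 0x0)))))) (.node (.node (.node (.node (.node (.leaf 0x0) (.leaf 0x0)) (.node (.leaf 0x0) (.leaf 0x0))) (.node (.node (.leaf 0x2) (.leaf 0x0)) (.node (.leaf 0x0) (.leaf 0x0)))) (.node (.node (.node (.leaf 0x0) (.leaf 0x2)) (.node (.leaf 0x0) (.leaf 0x0))) (.node (.node (.leaf 0x0) (.leaf 0x0)) (.node (.leaf 0x0) (.leaf 0x0))))) (.node (.node (.node (.node (.leaf 0x0) (.leaf 0x0)) (.node (.leaf 0x0) (.leaf 0x0))) (.node (.node (.leaf 0x0) (.leaf 0x0)) (.node (.leaf 0xa) (.leaf 0x2)))) (.node (.node (.node (.leaf 0x0) (.leaf 0x0)) (.node (.leaf 0x2) (.leaf 0x0))) (.node (.node (.leaf 0x0) (.leaf 0x0)) (.node (.leaf 0x0) (.leaf 0x0))))))))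

/-- part of non-commuting partners -/
def ncB7 : Trie :=
  (.node (.node (.node (.node (.node (.node (.node (.leaf 0x0) (.leaf 0x0)) (.node (.leaf 0x0) (.leaf 0x0))) (.node (.node (.leaf 0x0) (.leaf 0x0)) (.node (.leaf 0x0) (.leaf 0x2)))) (.node (.node (.node (.leaf 0x0) (.leaf 0x2)) (.node (.leaf 0x0) (.leaf 0x0))) (.node (.node (.leaf 0x0) (.leaf 0x0)) (.node (.leaf 0x0) (.leaf 0x0))))) (.node (.node (.node (.node (.leaf 0x0) (.leaf 0x0)) (.node (.leaf 0x0) (.leaf 0x0))) (.node (.node (.leaf 0x0) (.leaf 0xa)) (.node (.leaf 0x0) (.leaf 0x2)))) (.node (.node (.node (.leaf 0x0) (.leaf 0x0)) (.node (.leaf 0x0) (.leaf 0x0))) (.node (.node (.leaf 0x0) (.leaf 0x0)) (.node (.leaf 0xa) (.leaf 0x0)))))) (.node (.node (.node (.node (.node (.leaf 0x0) (.leaf 0x0)) (.node (.leaf 0x0) (.leaf 0x2))) (.node (.node (.leaf 0x0) (.leaf 0x0)) (.node (.leaf 0x0) (.leaf 0x0)))) (.node (.node (.node (.leaf 0x0) (.leaf 0x0)) (.node (.leaf 0x0) (.leaf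 0x0))) (.node (.node (.leaf 0x0) (.leaf 0x0)) (.node (.leaf 0xa) (.leaf 0x0))))) (.node (.node (.node (.node (.leaf 0x0) (.leaf 0x0)) (.node (.leaf 0x0) (.leaf 0x0))) (.node (.node (.leaf 0x0) (.leaf 0x0)) (.node (.leaf 0x0) (.leaf 0x0)))) (.node (.node (.node (.leaf 0x0) (.leaf 0x0)) (.node (.leaf 0x0) (.leaf 0x0))) (.node (.node (.leaf 0x0) (.leaf 0x0)) (.node (.leaf 0x0) (.leaf 0x0))))))) (.node (.node (.node (.node (.node (.node (.leaf 0x0) (.leaf 0x0)) (.node (.leaf 0x0) (.leaf 0x0))) (.node (.node (.leaf 0x0) (.leaf 0x0)) (.node (.leaf 0x0) (.leaf 0x0)))) (.node (.node (.node (.leaf 0x0) (.leaf 0x0)) (.node (.leaf 0x0) (.leaf 0x2))) (.node (.node (.leaf 0x0) (.leaf 0x0)) (.node (.leaf 0x0) (.leaf 0x0))))) (.node (.node (.node (.node (.leaf 0x0) (.leaf 0x0)) (.node (.leaf 0x0) (.leaf 0x0))) (.node (.node (.leaf 0x0) (.leaf 0x0)) (.node (.leaf 0x0) (.leaf 0x0)))) (.node (.node (.node (.leaf 0x0) (.leaf 0x0)) (.node (.leaf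 0x2) (.leaf 0x0))) (.node (.node (.leaf 0x0) (.leaf 0x2)) (.node (.leaf 0x0) (.leaf 0x0)))))) (.node (.node (.node (.node (.node (.leaf 0x2) (.leaf 0x2)) (.node (.leaf 0x0) (.leaf 0x0))) (.node (.node (.leaf 0x0) (.leaf 0x0)) (.node (.leaf 0x0) (.leaf 0x0)))) (.node (.node (.node (.leaf 0x2) (.leaf 0x0)) (.node (.leaf 0x0) (.leaf 0x0))) (.node (.node (.leaf 0x0) (.leaf 0x0)) (.node (.leaf 0x0) (.leaf 0x2))))) (.node (.node (.node (.node (.leaf 0x0) (.leaf 0x0)) (.node (.leaf 0x0) (.leaf 0x0))) (.node (.node (.leaf 0x0) (.leaf 0x0)) (.node (.leaf 0x0) (.leaf 0x0)))) (.node (.node (.node (.leaf 0x2) (.leaf 0x2)) (.node (.leaf 0x0) (.leaf 0x0))) (.node (.node (.leaf 0x0) (.leaf 0x0)) (.node (.leaf 0x0) (.leaf 0x0))))))))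

/-- part of non-commuting partners -/
def ncB15 : Trie :=
  (.node (.node (.node (.node (.node (.node (.node (.leaf 0x0) (.leaf 0x0)) (.node (.leaf 0x0) (.leaf 0x0))) (.node (.node (.leaf 0x0) (.leaf 0x0)) (.node (.leaf 0x2) (.leaf 0x0)))) (.node (.node (.node (.leaf 0x2) (.leaf 0x0)) (.node (.leaf 0x0) (.leaf 0x2))) (.node (.node (.leaf 0x0) (.leaf 0x2)) (.node (.leaf 0x0) (.leaf 0x0))))) (.node (.node (.node (.node (.leaf 0x0) (.leaf 0x0)) (.node (.leaf 0x0) (.leaf 0x0))) (.node (.node (.leaf 0x0) (.leaf 0x0)) (.node (.leaf 0x0) (.leaf 0x2)))) (.node (.node (.node (.leaf 0x2) (.leaf 0x0)) (.node (.leaf 0x2) (.leaf 0x0))) (.node (.node (.leaf 0x0) (.leaf 0x0)) (.node (.leaf 0x0) (.leaf 0x0)))))) (.node (.node (.node (.node (.node (.leaf 0x0) (.leaf 0x0)) (.node (.leaf 0x0) (.leaf 0x0))) (.node (.node (.leaf 0x0) (.leaf 0x0)) (.node (.leaf 0x2) (.leaf 0x0)))) (.node (.node (.node (.leaf 0x0) (.leaf 0x0)) (.node (.leaf 0x0) (.leaf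 0x0))) (.node (.node (.leaf 0x0) (.leaf 0x0)) (.node (.leaf 0x0) (.leaf 0x0))))) (.node (.node (.node (.node (.leaf 0x0) (.leaf 0x0)) (.node (.leaf 0x0) (.leaf 0x0))) (.node (.node (.leaf 0x0) (.leaf 0x0)) (.node (.leaf 0x0) (.leaf 0x0)))) (.node (.node (.node (.leaf 0x0) (.leaf 0x2)) (.node (.leaf 0x0) (.leaf 0x0))) (.node (.node (.leaf 0x0) (.leaf 0x0)) (.node (.leaf 0x2) (.leaf 0x0))))))) (.node (.node (.node (.node (.node (.node (.leaf 0x2) (.leaf 0x0)) (.node (.leaf 0x0) (.leaf 0x0))) (.node (.node (.leaf 0x0) (.leaf 0x0)) (.node (.leaf 0x0) (.leaf 0x0)))) (.node (.node (.node (.leaf 0x2) (.leaf 0x2)) (.node (.leaf 0x0) (.leaf 0x0))) (.node (.node (.leaf 0x0) (.leaf 0x0)) (.node (.leaf 0x0) (.leaf 0x0))))) (.node (.node (.node (.node (.leaf 0x0) (.leaf 0x0)) (.node (.leaf 0x0) (.leaf 0x0))) (.node (.node (.leaf 0x0) (.leaf 0x0)) (.node (.leaf 0x0) (.leaf 0x0)))) (.node (.node (.node (.leaf 0x0) (.leaf 0x0)) (.node (.leaf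 0x2) (.leaf 0x0))) (.node (.node (.leaf 0x0) (.leaf 0x0)) (.node (.leaf 0x0) (.leaf 0x0)))))) (.node (.node (.node (.node (.node (.leaf 0x0) (.leaf 0x0)) (.node (.leaf 0x0) (.leaf 0x2))) (.node (.node (.leaf 0x0) (.leaf 0x0)) (.node (.leaf 0x2) (.leaf 0x0)))) (.node (.node (.node (.leaf 0x2) (.leaf 0x0)) (.node (.leaf 0x2) (.leaf 0x2))) (.node (.node (.leaf 0x0) (.leaf 0x0)) (.node (.leaf 0x0) (.leaf 0x0))))) (.node (.node (.node (.node (.leaf 0x0) (.leaf 0x0)) (.node (.leaf 0x0) (.leaf 0x0))) (.node (.node (.leaf 0x2) (.leaf 0x0)) (.node (.leaf 0x0) (.leaf 0x0)))) (.node (.node (.node (.leaf 0x0) (.leaf 0x0)) (.node (.leaf 0x0) (.leaf 0x0))) (.node (.node (.leaf 0x0) (.leaf 0x0)) (.node (.leaf 0x0) (.leaf 0x0))))))))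

/-- non-commuting partners -/
def ncB : Trie :=
  (.node (.node (.node (.node ncB0 ncB8) (.node ncB4 ncB12)) (.node (.node ncB2 ncB10) (.node ncB6 ncB14))) (.node (.node (.node ncB1 ncB9) (.node ncB5 ncB13)) (.node (.node ncB3 ncB11) (.node ncB7 ncB15))))

/-- the class, u, u t, w, w t, u w, u w t, a root of w -/
def cent1 : List ℕ := [4, 1307, 1383, 204, 860, 1302, 1387, 33]

/-- a member of the class as product of two roots of a -/
def dec1 : List ℕ := [589, 27, 693]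

/-- t, a, a t -/
def special : List ℕ := [1905, 860, 204]

end

end Cfsg.Agent.HNRecog.Dat
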