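import Cfsg.Agent.Lib.HNRecog.Local.CoverIso

/-!
The centraliser of an involution with the double cover of HS in it, as the group of `x, y, z` with its
multiplication possibly twisted by the involution on the outer part.
-/

set_option autoImplicit false
set_option maxRecDepth 100000
set_option linter.style.haveILetI false

namespace Cfsg.Agent.HNRecog

open Cfsg.Agent.HN Cfsg.Agent.HNMult

noncomputable section

universe u

theorem z_not_derived : hz ∉ commutator H0 := fun h => z_not_hs (index_derived.2 h)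

theorem sq_mem_derived : hx ^ 2 ∈ commutator H0 := Subgroup.pow_mem _ gens_in_derived.1 2

/-- A map of the group of `x, y, z` onto the centraliser of an involution, multiplicative up to a twist on the outer
part. -/
structure Twisted {G : Type u} [Group G] (t : G) where
  /-- the map -/
  ψ : H0 → G
  /-- whether the multiplication is twisted -/
  twist : Bool
  inj : Function.Injective ψ
  range : ∀ g : G, g ∈ Subgroup.centralizer ({t} : Set G) ↔ ∃ a, ψ a = g
  map_sq : ψ (hx ^ 2) = t
  mul_in : ∀ a b, (a ∈ commutator H0 ∨ b ∈ commutator H0) → ψ a * ψ b = ψ (a * b)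
  mul_out : ∀ a b, a ∉ commutator H0 → b ∉ commutator H0 → ψ a * ψ b = ψ (a * b) * bif twist then t else 1

theorem exists_twisted_aux {G : Type u} [Group G] [Finite G] (t : G) (ht : orderOf t = 2) (C : Subgroup G)
    (hC : C = Subgroup.centralizer ({t} : Set G))
    (M : Subgroup C) [M.Normal] (hM : M.index = 2) (hout : Subgroup.centralizer (M : Set C) ≤ M)
    (hcov : Cfsg.IsNonsplitDoubleCover M Cfsg.Spor.HS) : Nonempty (Twisted t) := by
  classical
  obtain ⟨η⟩ := exists_iso_cover hcov
  have hz2 := hcov.1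
  let T : ↥(commutator H0) := ⟨hx ^ 2, sq_mem_derived⟩
  -- `t` is the image of the square
  have htC : t ∈ C := hC ▸ Subgroup.mem_centralizer_singleton_iff.2 rfl
  have hcomm : ∀ g : C, g * ⟨t, htC⟩ = ⟨t, htC⟩ * g := fun g =>
    Subtype.ext (Subgroup.mem_centralizer_singleton_iff.1 (hC ▸ g.2 : (g : G) ∈ Subgroup.centralizer ({t} : Set G)))
  have htM : (⟨t, htC⟩ : C) ∈ M := hout (Subgroup.mem_centralizer_iff.2 fun g _ => hcomm g)
  let tM : M := ⟨⟨t, htC⟩, htM⟩
  have htc : tM ∈ Subgroup.center M :=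
    Subgroup.mem_center_iff.2 fun m => Subtype.ext (hcomm m)
  have htne : tM ≠ 1 := fun e => by
    have : t = 1 := congrArg (fun m : M => ((m : C) : G)) e
    rw [this, orderOf_one] at ht
    omega
  have hTc : η T ∈ Subgroup.center M := Subgroup.mem_center_iff.2 fun m => by
    obtain ⟨k, rfl⟩ := η.surjective m
    rw [← map_mul, ← map_mul]
    refine congrArg η (Subtype.ext ?_)
    show (k : H0) * hx ^ 2 = hx ^ 2 * k
    exact Subgroup.mem_center_iff.1 hx_sq_central k
  have hTne : η T ≠ 1 := fun e => hx_sq_ne (congrArg Subtype.val (η.injective (e.trans (map_one η).symm)))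
  have hcases : ∀ m ∈ Subgroup.center M, m = 1 ∨ m = tM := by
    intro m hm
    obtain ⟨p, q, hpq, huniv⟩ := Nat.card_eq_two_iff.1 hz2
    have h3 : ∀ b : Subgroup.center M, b = p ∨ b = q := fun b => by
      have : b ∈ ({p, q} : Set (Subgroup.center M)) := huniv ▸ Set.mem_univ b
      simpa using this
    have hne : (⟨tM, htc⟩ : Subgroup.center M) ≠ 1 := fun e => htne (congrArg Subtype.val e)
    rcases h3 ⟨m, hm⟩ with a | a <;> rcases h3 1 with b | b <;> rcases h3 ⟨tM, htc⟩ with c | c
    all_goals first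
      | exact Or.inl (congrArg Subtype.val (a.trans b.symm))
      | exact Or.inr (congrArg Subtype.val (a.trans c.symm))
      | exact absurd (c.trans b.symm) hne
  have hηT : η T = tM := (hcases _ hTc).resolve_left hTne
  -- an element outside `M`
  obtain ⟨e, he⟩ : ∃ e : C, e ∉ M := by
    by_contra h
    push Not at h
    rw [show M = ⊤ from eq_top_iff.2 fun a _ => h a, Subgroup.index_top] at hM
    omega
  let φ : MulAut ↥(commutator H0) := (η.trans (MulAut.conjNormal e)).trans η.symm
  have hφ : ∀ k, ((η (φ k) : M) : C) = e * (η k : M) * e⁻¹ := fun k => by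
    show ((η (η.symm (MulAut.conjNormal e (η k))) : M) : C) = _
    rw [η.apply_symm_apply, MulAut.conjNormal_apply]
  have hfix : φ T = T := by
    refine η.injective (Subtype.ext ?_)
    rw [hφ, hηT]
    show e * ⟨t, htC⟩ * e⁻¹ = ⟨t, htC⟩
    rw [hcomm e, mul_inv_cancel_right]
  obtain ⟨h, hh⟩ := exists_conj_aut φ hfix
  have hhK : h ∉ commutator H0 := by
    intro hk
    have hcen : ((η ⟨h, hk⟩ : M) : C)⁻¹ * e ∈ Subgroup.centralizer (M : Set C) := by
      refine Subgroup.mem_centralizer_iff.2 fun m hm => ?_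
      obtain ⟨k, hk'⟩ := η.surjective ⟨m, hm⟩
      have e1 := hφ k
      rw [show φ k = ⟨h, hk⟩ * k * ⟨h, hk⟩⁻¹ from Subtype.ext (hh k), map_mul, map_mul, map_inv,
        Subgroup.coe_mul, Subgroup.coe_mul, Subgroup.coe_inv, hk'] at e1
      show m * (_ * e) = _ * e * m
      calc m * (((η ⟨h, hk⟩ : M) : C)⁻¹ * e)
          = ((η ⟨h, hk⟩ : M) : C)⁻¹ * (((η ⟨h, hk⟩ : M) : C) * m * ((η ⟨h, hk⟩ : M) : C)⁻¹) * e := by group
        _ = ((η ⟨h, hk⟩ : M) : C)⁻¹ * (e * m * e⁻¹) * e := by rw [e1]
        _ = _ := by group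
    exact he ((M.mul_mem_cancel_left (inv_mem (η ⟨h, hk⟩).2)).1 (hout hcen))
  have hsK : h * hz ∈ commutator H0 :=
    (Subgroup.mul_mem_iff_of_index_two index_derived.1).2 (iff_of_false hhK z_not_derived)
  set s : C := ((η ⟨h * hz, hsK⟩ : M) : C) with hs
  set e' : C := s⁻¹ * e with he'
  have he'M : e' ∉ M := fun hm => he ((M.mul_mem_cancel_left (inv_mem (η ⟨h * hz, hsK⟩).2)).1 hm)
  have hzk : ∀ k : ↥(commutator H0), hz * (k : H0) * hz ∈ commutator H0 := fun k => by
    have := (inferInstance : (commutator H0).Normal).conj_mem _ k.2 hz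
    rwa [hz_inv] at this
  have hconj : ∀ k : ↥(commutator H0), e' * (η k : M) * e'⁻¹ = ((η ⟨_, hzk k⟩ : M) : C) := fun k => by
    have e1 : (⟨_, hzk k⟩ : ↥(commutator H0)) = ⟨h * hz, hsK⟩⁻¹ * φ k * ⟨h * hz, hsK⟩ := Subtype.ext (by
      show hz * (k : H0) * hz = (h * hz)⁻¹ * (φ k : H0) * (h * hz)
      rw [hh]
      conv_lhs => rw [← hz_inv]
      rw [hz_inv]
      calc hz * (k : H0) * hz = hz⁻¹ * (k : H0) * hz := by rw [hz_inv]
        _ = _ := by group)
    rw [e1, map_mul, map_mul, map_inv, Subgroup.coe_mul, Subgroup.coe_mul, Subgroup.coe_inv, hφ, he', ← hs]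
    group
  clear_value e'
  have hsq : e' * e' ∈ M := (Subgroup.mul_mem_iff_of_index_two hM).2 (iff_of_false he'M he'M)
  have hsqc : (⟨e' * e', hsq⟩ : M) ∈ Subgroup.center M := Subgroup.mem_center_iff.2 fun m => Subtype.ext (by
    obtain ⟨k, rfl⟩ := η.surjective m
    show ((η k : M) : C) * (e' * e') = e' * e' * (η k : M)
    have e2 : e' * e' * (η k : M) * (e' * e')⁻¹ = ((η k : M) : C) := by
      rw [show e' * e' * (η k : M) * (e' * e')⁻¹ = e' * (e' * (η k : M) * e'⁻¹) * e'⁻¹ by group, hconj, hconj]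
      refine congrArg (fun m : M => (m : C)) (congrArg η (Subtype.ext ?_))
      show hz * (hz * (k : H0) * hz) * hz = k
      calc hz * (hz * (k : H0) * hz) * hz = (hz * hz) * k * (hz * hz) := by group
        _ = k := by rw [hz_sq, one_mul, mul_one]
    calc ((η k : M) : C) * (e' * e') = (e' * e' * (η k : M) * (e' * e')⁻¹) * (e' * e') := by rw [e2]
      _ = _ := by group)
  obtain ⟨tw, htw⟩ : ∃ tw : Bool, e' * e' = bif tw then (⟨t, htC⟩ : C) else 1 := by
    rcases hcases _ hsqc with h1 | h1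
    · exact ⟨false, congrArg Subtype.val h1⟩
    · exact ⟨true, congrArg Subtype.val h1⟩
  have hout' : ∀ {a : H0}, a ∉ commutator H0 → a * hz ∈ commutator H0 := fun {a} ha =>
    (Subgroup.mul_mem_iff_of_index_two index_derived.1).2 (iff_of_false ha z_not_derived)
  let ψ0 : H0 → C := fun a =>
    if ha : a ∈ commutator H0 then ((η ⟨a, ha⟩ : M) : C) else ((η ⟨a * hz, hout' ha⟩ : M) : C) * e'
  have hin : ∀ a (ha : a ∈ commutator H0), ψ0 a = ((η ⟨a, ha⟩ : M) : C) := fun a ha => dif_pos ha
  have hou : ∀ a (ha : a ∉ commutator H0), ψ0 a = ((η ⟨a * hz, hout' ha⟩ : M) : C) * e' := fun a ha => dif_neg ha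
  have ηmul : ∀ a b (ha : a ∈ commutator H0) (hb : b ∈ commutator H0),
      ((η ⟨a, ha⟩ : M) : C) * (η ⟨b, hb⟩ : M) = ((η ⟨a * b, mul_mem ha hb⟩ : M) : C) := fun a b ha hb => by
    rw [← Subgroup.coe_mul, ← map_mul]; rfl
  have ηcongr : ∀ a b (ha : a ∈ commutator H0) (hb : b ∈ commutator H0), a = b →
      ((η ⟨a, ha⟩ : M) : C) = ((η ⟨b, hb⟩ : M) : C) := by
    rintro a b ha hb rfl; rfl
  have hψin : ∀ a b, (a ∈ commutator H0 ∨ b ∈ commutator H0) → ψ0 a * ψ0 b = ψ0 (a * b) := by
    intro a b hab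
    by_cases ha : a ∈ commutator H0 <;> by_cases hb : b ∈ commutator H0
    · rw [hin a ha, hin b hb, hin _ (mul_mem ha hb), ηmul]
    · have hn : a * b ∉ commutator H0 := fun h' => hb ((Subgroup.mul_mem_cancel_left _ ha).1 h')
      rw [hin a ha, hou b hb, hou _ hn, ← mul_assoc, ηmul]
      exact congrArg (· * e') (ηcongr _ _ _ _ (by group))
    · have hn : a * b ∉ commutator H0 := fun h' => ha ((Subgroup.mul_mem_cancel_right _ hb).1 h')
      rw [hou a ha, hin b hb, hou _ hn]
      have e3 : e' * (η ⟨b, hb⟩ : M) = ((η ⟨_, hzk ⟨b, hb⟩⟩ : M) : C) * e' := by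
        rw [← hconj]; group
      rw [mul_assoc, e3, ← mul_assoc, ηmul]
      exact congrArg (· * e') (ηcongr _ _ _ _ (by
        show a * hz * (hz * b * hz) = a * b * hz
        calc a * hz * (hz * b * hz) = a * (hz * hz) * b * hz := by group
          _ = _ := by rw [hz_sq, mul_one]))
    · exact absurd hab (by tauto)
  have hψout : ∀ a b, a ∉ commutator H0 → b ∉ commutator H0 →
      ψ0 a * ψ0 b = ψ0 (a * b) * bif tw then (⟨t, htC⟩ : C) else 1 := by
    intro a b ha hb
    have hn : a * b ∈ commutator H0 :=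
      (Subgroup.mul_mem_iff_of_index_two index_derived.1).2 (iff_of_false ha hb)
    rw [hou a ha, hou b hb, hin _ hn, ← htw]
    have e3 : e' * (η ⟨b * hz, hout' hb⟩ : M) = ((η ⟨_, hzk ⟨b * hz, hout' hb⟩⟩ : M) : C) * e' := by
      rw [← hconj]; group
    rw [show ∀ p q : C, p * e' * (q * e') = p * (e' * q) * e' from fun p q => by group, e3,
      show ∀ p q : C, p * (q * e') * e' = p * q * (e' * e') from fun p q => by group, ηmul]
    exact congrArg (· * (e' * e')) (ηcongr _ _ _ _ (by
      show a * hz * (hz * (b * hz) * hz) = a * b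
      calc a * hz * (hz * (b * hz) * hz) = a * (hz * hz) * b * (hz * hz) := by group
        _ = _ := by rw [hz_sq, mul_one, mul_one]))
  have hparity : ∀ a, ψ0 a ∈ M ↔ a ∈ commutator H0 := by
    intro a
    by_cases ha : a ∈ commutator H0
    · rw [hin a ha]; exact iff_of_true (η ⟨a, ha⟩).2 ha
    · rw [hou a ha]
      exact iff_of_false (fun h' => he'M ((M.mul_mem_cancel_left (η ⟨a * hz, hout' ha⟩).2).1 h')) ha
  have hinj : Function.Injective ψ0 := by
    intro a b hab
    have hpb : a ∈ commutator H0 ↔ b ∈ commutator H0 := by rw [← hparity a, hab, hparity]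
    by_cases ha : a ∈ commutator H0
    · rw [hin a ha, hin b (hpb.1 ha)] at hab
      exact congrArg Subtype.val (η.injective (Subtype.ext hab))
    · rw [hou a ha, hou b fun hb => ha (hpb.2 hb)] at hab
      exact mul_right_cancel (congrArg Subtype.val (η.injective (Subtype.ext (mul_right_cancel hab))))
  have hsurj : Function.Surjective ψ0 := by
    intro c
    by_cases hc : c ∈ M
    · obtain ⟨⟨k, hk⟩, e1⟩ := η.surjective ⟨c, hc⟩
      exact ⟨k, by rw [hin k hk, e1]⟩
    · have hm : c * e'⁻¹ ∈ M :=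
        (Subgroup.mul_mem_iff_of_index_two hM).2 (iff_of_false hc fun h' => he'M (inv_mem_iff.1 h'))
      obtain ⟨⟨k, hk⟩, e1⟩ := η.surjective ⟨_, hm⟩
      have hn : k * hz ∉ commutator H0 := fun h' => z_not_derived ((Subgroup.mul_mem_cancel_left _ hk).1 h')
      refine ⟨k * hz, ?_⟩
      rw [hou _ hn, ηcongr _ k _ hk (by rw [mul_assoc, hz_sq, mul_one]), e1]
      group
  refine ⟨⟨fun a => (ψ0 a : G), tw, fun a b h' => hinj (Subtype.ext h'), fun g => ⟨fun hg => ?_, ?_⟩, ?_, ?_, ?_⟩⟩
  · rw [← hC] at hg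
    obtain ⟨a, ha⟩ := hsurj ⟨g, hg⟩
    exact ⟨a, congrArg Subtype.val ha⟩
  · rintro ⟨a, rfl⟩; exact hC ▸ (ψ0 a).2
  · show ((ψ0 (hx ^ 2) : C) : G) = t
    rw [hin _ sq_mem_derived]
    exact congrArg (fun m : M => ((m : C) : G)) hηT
  · intro a b hab
    exact congrArg Subtype.val (hψin a b hab)
  · intro a b ha hb
    have := congrArg Subtype.val (hψout a b ha hb)
    cases tw <;> simpa using this

/-- The centraliser in the hypotheses of the recognition statements is a twisted image. -/
theorem exists_twisted {G : Type u} [Group G] [Finite G] (t : G) (ht : orderOf t = 2)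
    (M : Subgroup (Subgroup.centralizer ({t} : Set G))) [M.Normal] (hM : M.index = 2)
    (hout : Subgroup.centralizer (M : Set (Subgroup.centralizer ({t} : Set G))) ≤ M)
    (hcov : Cfsg.IsNonsplitDoubleCover M Cfsg.Spor.HS) : Nonempty (Twisted t) :=
  exists_twisted_aux t ht _ rfl M hM hout hcov

end

end Cfsg.Agent.HNRecog
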