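import Cfsg.Agent.Lib.HNRecog.Local.Table
import Cfsg.Agent.Lib.HNRecog.Local.Model

/-!
The table inside the centraliser: a Sylow 2-subgroup, the classes of its involutions and numbers of square roots.
-/

set_option autoImplicit false
set_option maxRecDepth 100000
set_option linter.style.haveILetI false
set_option linter.unusedSectionVars false

namespace Cfsg.Agent.HNRecog

open Cfsg.Agent.HN Cfsg.Agent.HNMult

noncomputable section

universe u

theorem T_mul_T : (hx ^ 2 : H0) * hx ^ 2 = 1 := by rw [← pow_add, hx_pow_four]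

theorem eS_iT : eS iT = hx ^ 2 := special_spec.2.2.2.1

theorem eS_AT : eS iA * hx ^ 2 = eS iAT := by rw [← eS_iT]; exact special_spec.2.2.2.2.1

theorem eS_AT' : eS iAT * hx ^ 2 = eS iA := by rw [← eS_AT, mul_assoc, T_mul_T, mul_one]

theorem par_conj {a b h : H0} (e : h⁻¹ * a * h = b) : b ∈ commutator H0 ↔ a ∈ commutator H0 := by
  constructor
  · intro hb
    have := (inferInstance : (commutator H0).Normal).conj_mem b hb h
    rwa [← e, show h * (h⁻¹ * a * h) * h⁻¹ = a by group] at this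
  · intro ha
    have := (inferInstance : (commutator H0).Normal).conj_mem a ha h⁻¹
    rwa [inv_inv, e] at this

namespace Twisted

variable {G : Type u} [Group G] {t : G} (D : Twisted t)

theorem psi_one : D.ψ 1 = 1 := by
  have h := D.mul_in 1 1 (Or.inl (one_mem _))
  rw [mul_one] at h
  exact mul_left_cancel (h.trans (mul_one _).symm)

theorem psi_mem (a : H0) : D.ψ a ∈ Subgroup.centralizer ({t} : Set G) := (D.range _).2 ⟨a, rfl⟩

include D in
theorem tt : t * t = 1 := by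
  have h := D.mul_in _ (hx ^ 2) (Or.inl sq_mem_derived)
  rwa [D.map_sq, T_mul_T, D.psi_one] at h

theorem psi_mul_T (a : H0) : D.ψ (a * hx ^ 2) = D.ψ a * t := by
  have h := D.mul_in a (hx ^ 2) (Or.inr sq_mem_derived)
  rw [D.map_sq] at h
  exact h.symm

theorem psi_mul (a b : H0) : D.ψ a * D.ψ b = D.ψ (a * b) ∨ D.ψ a * D.ψ b = D.ψ (a * b * hx ^ 2) := by
  by_cases h : a ∈ commutator H0 ∨ b ∈ commutator H0
  · exact Or.inl (D.mul_in a b h)
  · push Not at h
    rw [D.mul_out a b h.1 h.2, D.psi_mul_T]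
    cases D.twist
    · exact Or.inl (mul_one _)
    · exact Or.inr rfl

theorem psi_conj (a b : H0) : D.ψ a * D.ψ b = D.ψ (a * b * a⁻¹) * D.ψ a := by
  have e : a * b * a⁻¹ * a = a * b := by group
  have hb : a * b * a⁻¹ ∈ commutator H0 ↔ b ∈ commutator H0 :=
    par_conj (h := a⁻¹) (by rw [inv_inv])
  by_cases h : a ∈ commutator H0 ∨ b ∈ commutator H0
  · rw [D.mul_in a b h, D.mul_in _ a (h.elim Or.inr (fun h' => Or.inl (hb.2 h'))), e]
  · push Not at h
    rw [D.mul_out a b h.1 h.2, D.mul_out _ a (fun h' => h.2 (hb.1 h')) h.1, e]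

theorem isConj_psi {a b h : H0} (e : h⁻¹ * a * h = b) : IsConj (D.ψ b) (D.ψ a) :=
  isConj_iff.2 ⟨D.ψ h, by
    rw [D.psi_conj, mul_inv_cancel_right]
    refine congrArg D.ψ ?_
    rw [← e]; group⟩

variable [Finite G]

/-- The Sylow 2-subgroup in the centraliser. -/
def SG : Subgroup G where
  carrier := D.ψ '' (Syl : Set H0)
  one_mem' := ⟨1, one_mem _, D.psi_one⟩
  mul_mem' := by
    rintro _ _ ⟨a, ha, rfl⟩ ⟨b, hb, rfl⟩
    have hT : hx ^ 2 ∈ Syl := eS_iT ▸ eS_mem _ special_spec.1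
    rcases D.psi_mul a b with e | e
    · exact ⟨_, mul_mem ha hb, e.symm⟩
    · exact ⟨_, mul_mem (mul_mem ha hb) hT, e.symm⟩
  inv_mem' := by
    intro x hx'
    have hpow : ∀ n : ℕ, x ^ n ∈ D.ψ '' (Syl : Set H0) := by
      intro n
      induction n with
      | zero => exact ⟨1, one_mem _, by rw [D.psi_one, pow_zero]⟩
      | succ n ih =>
        obtain ⟨a, ha, e⟩ := ih
        obtain ⟨b, hb, e'⟩ := hx'
        have hT : hx ^ 2 ∈ Syl := eS_iT ▸ eS_mem _ special_spec.1
        rw [pow_succ, ← e, ← e']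
        rcases D.psi_mul a b with q | q
        · exact ⟨_, mul_mem ha hb, q.symm⟩
        · exact ⟨_, mul_mem (mul_mem ha hb) hT, q.symm⟩
    have e : x⁻¹ = x ^ (orderOf x - 1) := by
      refine inv_eq_of_mul_eq_one_right ?_
      rw [← pow_succ', Nat.sub_add_cancel (orderOf_pos x), pow_orderOf_eq_one]
    rw [e]
    exact hpow _

theorem mem_SG {x : G} : x ∈ D.SG ↔ ∃ i < 2048, D.ψ (eS i) = x := by
  constructor
  · rintro ⟨a, ha, rfl⟩
    obtain ⟨i, hi, rfl⟩ := mem_Syl.1 ha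
    exact ⟨i, hi, rfl⟩
  · rintro ⟨i, hi, rfl⟩
    exact ⟨_, eS_mem i hi, rfl⟩

theorem entry_mem {i : ℕ} (hi : i < 2048) : D.ψ (eS i) ∈ D.SG := D.mem_SG.2 ⟨i, hi, rfl⟩

/-- The entries inside the centraliser. -/
def entryG : Fin 2048 ≃ D.SG :=
  Equiv.ofBijective (fun i => ⟨D.ψ (eS i), D.entry_mem i.2⟩)
    ⟨fun i j h => Fin.ext (eS_injective i.2 j.2 (D.inj (congrArg Subtype.val h))), fun ⟨x, hx'⟩ => by
      obtain ⟨i, hi, rfl⟩ := D.mem_SG.1 hx'
      exact ⟨⟨i, hi⟩, rfl⟩⟩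

theorem card_SG : Nat.card D.SG = 2048 := by rw [← Nat.card_congr D.entryG, Nat.card_fin]

theorem SG_le : D.SG ≤ Subgroup.centralizer ({t} : Set G) := fun x hx' => by
  obtain ⟨i, -, rfl⟩ := D.mem_SG.1 hx'
  exact D.psi_mem _

include D in
theorem card_centralizer : Nat.card ↥(Subgroup.centralizer ({t} : Set G)) = 177408000 := by
  rw [← card_H0]
  refine (Nat.card_eq_of_bijective (fun a => (⟨D.ψ a, D.psi_mem a⟩ : ↥(Subgroup.centralizer ({t} : Set G))))
    ⟨fun a b h => D.inj (congrArg Subtype.val h), fun ⟨g, hg⟩ => ?_⟩).symm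
  obtain ⟨a, ha⟩ := (D.range g).1 hg
  exact ⟨a, Subtype.ext ha⟩

/-- A 2-subgroup of the centraliser is conjugate there into the Sylow 2-subgroup. -/
theorem conj_into {Q : Subgroup G} (hQ : IsPGroup 2 Q) (hle : Q ≤ Subgroup.centralizer ({t} : Set G)) :
    ∃ a : H0, ∀ x ∈ Q, D.ψ a * x * (D.ψ a)⁻¹ ∈ D.SG := by
  haveI : Fact (Nat.Prime 2) := ⟨Nat.prime_two⟩
  set C := Subgroup.centralizer ({t} : Set G) with hC
  have hfac : (Nat.card C).factorization 2 = 11 := by
    rw [D.card_centralizer, show (177408000 : ℕ) = 2 ^ 11 * 86625 by norm_num,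
      Nat.factorization_mul (pow_ne_zero _ two_ne_zero) (by norm_num), Finsupp.add_apply,
      Nat.prime_two.factorization_pow, Finsupp.single_eq_same,
      Nat.factorization_eq_zero_of_not_dvd (by norm_num : ¬ 2 ∣ 86625)]
  let S0 : Sylow 2 C := Sylow.ofCard (D.SG.subgroupOf C) (by
    rw [hfac, Nat.card_congr (Subgroup.subgroupOfEquivOfLe D.SG_le).toEquiv, D.card_SG]
    norm_num)
  obtain ⟨P, hP⟩ := IsPGroup.exists_le_sylow (hQ.comap_of_injective C.subtype (Subgroup.subtype_injective C))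
  obtain ⟨g, hg⟩ := MulAction.exists_smul_eq C P S0
  obtain ⟨a, ha⟩ := (D.range g).1 g.2
  refine ⟨a, fun x hx' => ?_⟩
  have h1 : (⟨x, hle hx'⟩ : C) ∈ (P : Subgroup C) := hP hx'
  have h2 : g * ⟨x, hle hx'⟩ * g⁻¹ ∈ (S0 : Subgroup C) := by
    rw [← hg]
    exact Subgroup.smul_mem_pointwise_smul _ (MulAut.conj g) _ h1
  rw [ha]
  exact h2

/-- Squares of entries. -/
theorem sq_entry {i z zt : ℕ} (hi : i < 2048) (hz : z < 2048) (hzt : zt < 2048) (e : eS z * hx ^ 2 = eS zt) :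
    D.ψ (eS i) * D.ψ (eS i) = D.ψ (eS z) ↔ sqI i = bif D.twist && parI i then zt else z := by
  have hs := (sq_spec hi).2
  by_cases hp : eS i ∈ commutator H0
  · have hpf : parI i = false := by
      rcases Bool.eq_false_or_eq_true (parI i) with h | h
      · exact absurd hp ((par_iff hi).2 h)
      · exact h
    rw [D.mul_in _ _ (Or.inl hp), hpf, Bool.and_false, cond_false, hs]
    exact ⟨fun h => eS_injective (sq_spec hi).1 hz (D.inj h), fun h => by rw [h]⟩
  · have hpt : parI i = true := (par_iff hi).1 hp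
    rw [D.mul_out _ _ hp hp, hpt, Bool.and_true, hs]
    cases D.twist
    · simp only [cond_false, mul_one]
      exact ⟨fun h => eS_injective (sq_spec hi).1 hz (D.inj h), fun h => by rw [h]⟩
    · simp only [cond_true]
      rw [← D.psi_mul_T]
      constructor
      · intro h
        refine eS_injective (sq_spec hi).1 hzt ?_
        rw [← e, ← D.inj h, mul_assoc, T_mul_T, mul_one]
      · intro h
        rw [h, ← e, mul_assoc, T_mul_T, mul_one]

theorem sq_entry_one {i : ℕ} (hi : i < 2048) :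
    D.ψ (eS i) * D.ψ (eS i) = 1 ↔ sqI i = bif D.twist && parI i then iT else 0 := by
  rw [← D.psi_one, ← eS_zero]
  exact D.sq_entry hi (by norm_num) special_spec.1 (by rw [eS_zero, one_mul, eS_iT])

/-- The number of square roots in the Sylow 2-subgroup. -/
theorem card_roots {z zt : ℕ} (hz : z < 2048) (hzt : zt < 2048) (e : eS z * hx ^ 2 = eS zt) :
    Nat.card {x : D.SG // (x : G) * x = D.ψ (eS z)} = rootCount D.twist z zt := by
  rw [rootCount, ← card_countLo]
  refine (Nat.card_congr (Equiv.subtypeEquiv D.entryG fun i => ?_)).symm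
  rw [Nat.beq_eq]
  exact (D.sq_entry i.2 hz hzt e).symm

/-- A central involution of the Sylow 2-subgroup conjugate to `t` is carried to `t` by a normalising element. -/
theorem exists_mover {z : G} (hc : ∀ x ∈ D.SG, x * z = z * x) (hconj : IsConj t z) :
    ∃ q : G, q * z * q⁻¹ = t ∧ ∀ x ∈ D.SG, q * x * q⁻¹ ∈ D.SG := by
  haveI : Fact (Nat.Prime 2) := ⟨Nat.prime_two⟩
  obtain ⟨g, hg⟩ := isConj_iff.1 hconj
  let Q : Subgroup G := D.SG.map (MulAut.conj g⁻¹).toMonoidHom
  have hQ : IsPGroup 2 Q := (IsPGroup.of_card (n := 11) (by rw [D.card_SG]; norm_num)).map _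
  have hle : Q ≤ Subgroup.centralizer ({t} : Set G) := by
    rintro _ ⟨x, hx', rfl⟩
    refine Subgroup.mem_centralizer_singleton_iff.2 ?_
    show g⁻¹ * x * g⁻¹⁻¹ * t = t * (g⁻¹ * x * g⁻¹⁻¹)
    rw [inv_inv]
    calc g⁻¹ * x * g * t = g⁻¹ * (x * (g * t * g⁻¹)) * g := by group
      _ = g⁻¹ * ((g * t * g⁻¹) * x) * g := by rw [hg, hc x hx']
      _ = _ := by group
  obtain ⟨a, ha⟩ := D.conj_into hQ hle
  refine ⟨D.ψ a * g⁻¹, ?_, fun x hx' => ?_⟩
  · have hta := Subgroup.mem_centralizer_singleton_iff.1 (D.psi_mem a)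
    calc D.ψ a * g⁻¹ * z * (D.ψ a * g⁻¹)⁻¹ = D.ψ a * (g⁻¹ * z * g) * (D.ψ a)⁻¹ := by group
      _ = D.ψ a * t * (D.ψ a)⁻¹ := by rw [← hg]; group
      _ = t := by rw [hta, mul_inv_cancel_right]
  · have := ha _ ⟨x, hx', rfl⟩
    convert this using 1
    show _ = D.ψ a * (g⁻¹ * x * g⁻¹⁻¹) * (D.ψ a)⁻¹
    group

/-- A normalising element carrying `z` to `t` makes the numbers of square roots equal. -/
theorem roots_eq {q z : G} (hqz : q * z * q⁻¹ = t) (hq : ∀ x ∈ D.SG, q * x * q⁻¹ ∈ D.SG) :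
    Nat.card {x : D.SG // (x : G) * x = z} = Nat.card {x : D.SG // (x : G) * x = t} := by
  let f : D.SG → D.SG := fun x => ⟨q * x * q⁻¹, hq x x.2⟩
  have hf : Function.Bijective f := Finite.injective_iff_bijective.1 fun x y h =>
    Subtype.ext (mul_left_cancel (mul_right_cancel (congrArg Subtype.val h)))
  refine Nat.card_congr (Equiv.subtypeEquiv (Equiv.ofBijective f hf) fun x => ?_)
  show (x : G) * x = z ↔ q * x * q⁻¹ * (q * x * q⁻¹) = t
  rw [show q * (x : G) * q⁻¹ * (q * x * q⁻¹) = q * (x * x) * q⁻¹ by group]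
  exact ⟨fun h => by rw [h, hqz], fun h => mul_left_cancel (mul_right_cancel (h.trans hqz.symm))⟩

/-- An involution commuting with `t` and different from it is conjugate to one of the listed classes. -/
theorem classify {x : G} (hx2 : orderOf x = 2) (hxt : x * t = t * x) (hne : x ≠ t) :
    ∃ r, (r = 1 ∨ r = 2 ∨ (D.twist = false ∧ (r = 3 ∨ r = 4))) ∧ IsConj x (D.ψ (eS (Dat.reps.getD r 0))) := by
  haveI : Fact (Nat.Prime 2) := ⟨Nat.prime_two⟩
  have hQ : IsPGroup 2 (Subgroup.zpowers x) := IsPGroup.of_card (n := 1) (by rw [Nat.card_zpowers, hx2, pow_one])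
  obtain ⟨a, ha⟩ := D.conj_into hQ
    (Subgroup.zpowers_le.2 (Subgroup.mem_centralizer_singleton_iff.2 hxt))
  obtain ⟨i, hi, e⟩ := D.mem_SG.1 (ha x (Subgroup.mem_zpowers x))
  have hxi : IsConj x (D.ψ (eS i)) := isConj_iff.2 ⟨D.ψ a, e.symm⟩
  have hxx : x * x = 1 := by rw [← pow_two, ← hx2, pow_orderOf_eq_one]
  have hsq : D.ψ (eS i) * D.ψ (eS i) = 1 := by
    rw [e, show D.ψ a * x * (D.ψ a)⁻¹ * (D.ψ a * x * (D.ψ a)⁻¹) = D.ψ a * (x * x) * (D.ψ a)⁻¹ by group, hxx,
      mul_one, mul_inv_cancel]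
  have hi0 : i ≠ 0 := by
    rintro rfl
    rw [eS_zero, D.psi_one, eq_comm, conj_eq_one_iff] at e
    rw [e, orderOf_one] at hx2
    omega
  rw [D.sq_entry_one hi] at hsq
  have hin : D.twist = true → parI i = false := fun htw => by
    by_contra hp
    rw [Bool.not_eq_false] at hp
    rw [htw, hp] at hsq
    have h := allLo_spec twist_ok hi
    rw [hp, show sqI i = iT from hsq] at h
    simp at h
  have hs0 : sqI i = 0 := by
    cases htw : D.twist <;> rw [htw] at hsq
    · simpa using hsq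
    · rw [hin htw] at hsq; simpa using hsq
  obtain ⟨hr, hrep, hh⟩ := wit_spec hi hi0 hs0
  have hc : IsConj x (D.ψ (eS (Dat.reps.getD (clsI i) 0))) := hxi.trans (D.isConj_psi hh)
  obtain ⟨-, -, -, -, -, -, -, -, -, -, -, e0, e1, e2, e3, e4⟩ := special_spec
  have hr0 : clsI i ≠ 0 := by
    intro h0
    rw [h0, e0, eS_iT] at hh
    have hT : eS i = hx ^ 2 := by
      rw [← hh, mul_assoc, ← Subgroup.mem_center_iff.1 hx_sq_central, inv_mul_cancel_left]
    rw [hT, D.map_sq] at e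
    have hta := Subgroup.mem_centralizer_singleton_iff.1 (D.psi_mem a)
    exact hne (by
      calc x = (D.ψ a)⁻¹ * (D.ψ a * x * (D.ψ a)⁻¹) * D.ψ a := by group
        _ = (D.ψ a)⁻¹ * (t * D.ψ a) := by rw [← e, mul_assoc]
        _ = t := by rw [← hta, inv_mul_cancel_left])
  refine ⟨clsI i, ?_, hc⟩
  have hpar : ∀ j < 2048, parI j = true → eS (Dat.reps.getD (clsI i) 0) = eS j → D.twist = false := by
    intro j hj hpj ej
    by_contra hb
    rw [Bool.not_eq_false] at hb
    have h1 : eS i ∈ commutator H0 := by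
      by_contra hn
      rw [par_iff hi, hin hb] at hn
      exact Bool.false_ne_true hn
    exact (par_iff hj).2 hpj (ej ▸ (par_conj hh).1 h1)
  have hheads := cent_head
  simp only [Bool.and_eq_true] at hheads
  have h34 : ∀ L, okCenHead L = true → cen L 1 < 2048 ∧ parI (cen L 1) = true := fun L hL => by
    simp only [okCenHead, Bool.and_eq_true] at hL
    exact ⟨Nat.blt_eq ▸ allLo_spec (hL.1.1.1.1.1.1.1.1.1.1.1.1.1.1.1.1.1.1) (i := 1) (by norm_num),
      hL.1.1.1.1.1.1.1.1.1.1.1.1.1.1.1.1.1.2⟩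
  have h5 : clsI i = 1 ∨ clsI i = 2 ∨ clsI i = 3 ∨ clsI i = 4 := by omega
  rcases h5 with h | h | h | h
  · exact Or.inl h
  · exact Or.inr (Or.inl h)
  · obtain ⟨hl, hp⟩ := h34 _ hheads.1.1.1
    exact Or.inr (Or.inr ⟨hpar _ hl hp (by rw [h, e3]), Or.inl h⟩)
  · obtain ⟨hl, hp⟩ := h34 _ hheads.1.1.2
    exact Or.inr (Or.inr ⟨hpar _ hl hp (by rw [h, e4]), Or.inr h⟩)

end Twisted

end

end Cfsg.Agent.HNRecog
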