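import Cfsg.Agent.Lib.HN.Elem
import Cfsg.Agent.Lib.HNRecog.Local.TableData
import Cfsg.Agent.Lib.HNRecog.Local.MapData

/-!
Checks on the table of the 2048 elements of a Sylow 2-subgroup of the group of `x, y, z`: an element is coded by
the images of six points.
-/

set_option autoImplicit false
set_option maxRecDepth 100000

namespace Cfsg.Agent.HNRecog

open Cfsg.Agent.HN

noncomputable section

/-- The six images, packed. -/
def pack6 (f : ℕ → ℕ) : ℕ :=
  f 0 + 2 ^ 20 * (f 1 + 2 ^ 20 * (f 2 + 2 ^ 20 * (f 3 + 2 ^ 20 * (f 4 + 2 ^ 20 * f 5))))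

/-- The code of a word. -/
def keyW (w : List ℕ) : ℕ := pack6 fun i => big.actW w (base6.getD i 0)

/-- The code after a further word. -/
def actK (w : List ℕ) (k : ℕ) : ℕ := pack6 fun i => big.actW w (fld k i)

/-- The word of an entry. -/
def wd (i : ℕ) : List ℕ := unp (Dat.wordT.get i)

/-- The code of an entry. -/
def kd (i : ℕ) : ℕ := Dat.keyT.get i

/-- The entry of the square. -/
def sqI (i : ℕ) : ℕ := Dat.sqT.get i

/-- The parity of a word in the letter `z`. -/
def parW (w : List ℕ) : Bool := List.rec false (fun l _ r => xor (Nat.beq l 4) r) w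

/-- The parity of an entry. -/
def parI (i : ℕ) : Bool := parW (wd i)

/-- The entry `t`. -/
def iT : ℕ := Dat.special.getD 0 0

/-- The entry `a`. -/
def iA : ℕ := Dat.special.getD 1 0

/-- The entry `a t`. -/
def iAT : ℕ := Dat.special.getD 2 0

/-- An entry's word and code. -/
def okWord (i : ℕ) : Bool :=
  letOK 5 (wd i) && Nat.beq (keyW (wd i)) (kd i) && (bif Nat.beq i 0 then eqW (wd i) [] else true)

/-- Right multiples by the generators, and the parent of an entry. -/
def okClose (i : ℕ) : Bool :=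
  allLo (fun g => let j := fld (Dat.tblT.get i) g
    Nat.blt j 2048 && Nat.beq (actK (wd (Dat.gens.getD g 0)) (kd i)) (kd j)) Dat.gens.length &&
  (Nat.beq i 0 || (Nat.blt (fld (Dat.parentT.get i) 0) i && Nat.blt (fld (Dat.parentT.get i) 1) Dat.gens.length &&
    Nat.beq (fld (Dat.tblT.get (fld (Dat.parentT.get i) 0)) (fld (Dat.parentT.get i) 1)) i))

/-- The codes increase along the order. -/
def okSort (j : ℕ) : Bool :=
  Nat.blt (Dat.sortT.get j) 2048 &&
    (Nat.beq (Nat.succ j) 2048 || Nat.blt (kd (Dat.sortT.get j)) (kd (Dat.sortT.get (Nat.succ j))))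

/-- The square of an entry. -/
def okSq (i : ℕ) : Bool := Nat.blt (sqI i) 2048 && Nat.beq (actK (wd i) (kd i)) (kd (sqI i))

/-- The class of an involution. -/
def clsI (i : ℕ) : ℕ := Nat.sub (Nat.land (Dat.witT.get i) 15) 1

/-- The conjugating word of an involution. -/
def conjI (i : ℕ) : List ℕ := unp (Nat.shiftRight (Dat.witT.get i) 4)

/-- The class and conjugating word of an involution. -/
def okWit (i : ℕ) : Bool :=
  Nat.beq i 0 || !Nat.beq (sqI i) 0 ||
    (Nat.blt (clsI i) 5 && letOK 5 (conjI i) &&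
      Nat.beq (actK (conjI i) (actK (wd (Dat.reps.getD (clsI i) 0)) (keyW (winv iv5 (conjI i))))) (kd i))

/-- Eight conjugates of an outer involution. -/
def okConj (i : ℕ) : Bool :=
  !Nat.beq (sqI i) 0 || !parI i ||
    allLo (fun j =>
      let s := fld (Dat.conjT.get i) (2 * j)
      let v := fld (Dat.conjT.get i) (2 * j + 1)
      Nat.blt s 2048 && Nat.blt v 2048 && Nat.beq (actK (wd s) (kd i)) (actK (wd v) (kd s)) &&
        allLo (fun k => !Nat.beq (fld (Dat.conjT.get i) (2 * k + 1)) v) j) 8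

/-- Two entries commute. -/
def commI (i j : ℕ) : Bool := Nat.beq (actK (wd j) (kd i)) (actK (wd i) (kd j))

/-- The number of entries with a property. -/
def countLo (f : ℕ → Bool) (n : ℕ) : ℕ :=
  Nat.rec 0 (fun i r => Bool.rec r (Nat.succ r) (f i)) n

/-- Entry `k` of the data of an outer class. -/
def cen (D : List ℕ) (k : ℕ) : ℕ := D.getD k 0

/-- The list of the centre. -/
def cenList (D : List ℕ) : List ℕ := [0, iT, cen D 1, cen D 2, cen D 3, cen D 4, cen D 5, cen D 6]

/-- An entry is listed. -/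
def memL (l : List ℕ) (i : ℕ) : Bool := List.rec false (fun a _ r => Nat.beq a i || r) l

/-- The listed products and classes of an outer class. -/
def okCenHead (D : List ℕ) : Bool :=
  let u := cen D 1
  let w := cen D 3
  allLo (fun k => Nat.blt (cen D k) 2048) 8 && parI u && Nat.beq (sqI u) 0 &&
    Nat.beq (actK (wd iT) (kd u)) (kd (cen D 2)) && Nat.beq (actK (wd iT) (kd w)) (kd (cen D 4)) &&
    Nat.beq (actK (wd w) (kd u)) (kd (cen D 5)) && Nat.beq (actK (wd w) (kd (cen D 2))) (kd (cen D 6)) &&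
    Nat.beq (sqI (cen D 7)) w && commI (cen D 7) u && commI w u && !Nat.beq w 0 &&
    Nat.beq (sqI w) 0 && Nat.beq (sqI (cen D 2)) 0 && Nat.beq (sqI (cen D 4)) 0 && Nat.beq (sqI (cen D 6)) 0 &&
    Nat.beq (Dat.reps.getD (cen D 0) 0) u &&
    Nat.beq (clsI (cen D 2)) (cen D 0) && Nat.beq (clsI (cen D 6)) (cen D 0) &&
    Nat.beq (Dat.reps.getD (clsI (cen D 4)) 0) iA

/-- An entry of the centraliser of an outer class. -/
def okCen (D : List ℕ) (nc : Trie) (i : ℕ) : Bool :=
  !commI i (cen D 1) ||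
    (commI i (cen D 3) &&
      (Nat.beq (sqI i) 0 || Nat.beq (sqI i) (cen D 3) || !memL (cenList D) (sqI i)) &&
      (memL (cenList D) i || (Nat.blt (Nat.sub (nc.get i) 1) 2048 && commI (Nat.sub (nc.get i) 1) (cen D 1) &&
        !commI i (Nat.sub (nc.get i) 1))))

/-- A class member as a product of two roots of `a`. -/
def okDec (D dec : List ℕ) : Bool :=
  allLo (fun k => Nat.blt (cen dec k) 2048) 3 && Nat.beq (sqI (cen dec 1)) iA && Nat.beq (sqI (cen dec 2)) iA &&
    Nat.beq (sqI (cen dec 0)) 0 && !Nat.beq (cen dec 0) 0 && Nat.beq (clsI (cen dec 0)) (cen D 0) &&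
    Nat.beq (actK (wd (cen dec 2)) (kd (cen dec 1))) (kd (cen dec 0))

/-- The square count, allowing for a twist on the outer part. -/
def rootCount (eps : Bool) (z zt : ℕ) : ℕ :=
  countLo (fun i => Nat.beq (sqI i) (bif eps && parI i then zt else z)) 2048

/-- The special entries. -/
def okSpecial : Bool :=
  Nat.blt iT 2048 && Nat.blt iA 2048 && Nat.blt iAT 2048 && Nat.beq (keyW [0, 0]) (kd iT) &&
    Nat.beq (actK (wd iT) (kd iA)) (kd iAT) && Nat.beq (sqI iA) 0 && Nat.beq (sqI iAT) 0 && Nat.beq (sqI iT) 0 &&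
    !parI iA && !parI iAT && !parI iT &&
    Nat.beq (Dat.reps.getD 0 0) iT && Nat.beq (Dat.reps.getD 1 0) iA && Nat.beq (Dat.reps.getD 2 0) iAT &&
    Nat.beq (Dat.reps.getD 3 0) (cen Dat.cent0 1) && Nat.beq (Dat.reps.getD 4 0) (cen Dat.cent1 1)

end

end Cfsg.Agent.HNRecog
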